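import Groth.Agent.S9576
import Groth.Agent.ProjMor.ProjSpaceBase
import Groth.Agent.CohFinite.Serre

/-!
`P^n_R` is flat and of finite presentation over `R`.
-/

set_option autoImplicit false
set_option backward.isDefEq.respectTransparency false
set_option backward.isDefEq.respectTransparency.types false
set_option linter.style.haveILetI false

universe u

open CategoryTheory Limits AlgebraicGeometry

namespace Groth.Agent.PerfGen

/-- the charts of projective space are affine spaces -/
theorem projSpace_chart (n : ℕ) (R : Type u) [CommRing R] (i : Fin (n + 1)) :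
    ∃ φ : CommRingCat.of R ⟶ CommRingCat.of (HomogeneousLocalization.Away (CohB1.polyGrading n R) (MvPolynomial.X i)),
      Proj.awayι (CohB1.polyGrading n R) (MvPolynomial.X i) (MvPolynomial.isHomogeneous_X R i) one_pos ≫
          CohB1.ProjSpace.toSpec n R = Spec.map φ ∧
        φ.hom.Flat ∧ φ.hom.FinitePresentation := by
  let j₀ := HomogeneousLocalization.fromZeroRingHom (CohB1.polyGrading n R) (Submonoid.powers (MvPolynomial.X i))
  refine ⟨CommRingCat.ofHom (j₀.comp (algebraMap R (CohB1.polyGrading n R 0))), ?_, ?_⟩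
  · unfold CohB1.ProjSpace.toSpec
    rw [← Category.assoc, Proj.awayι_toSpecZero, ← Spec.map_comp]
    rfl
  obtain ⟨-, hb⟩ := S9576.result n R
  let σ := RingEquiv.ofBijective _ (hb i)
  have h : j₀.comp (algebraMap R (CohB1.polyGrading n R 0)) =
      σ.toRingHom.comp (MvPolynomial.C : R →+* MvPolynomial {j : Fin (n + 1) // j ≠ i} R) :=
    RingHom.ext fun r => (MvPolynomial.eval₂Hom_C _ _ r).symm
  rw [CommRingCat.hom_ofHom, h]
  refine ⟨RingHom.Flat.stableUnderComposition _ _ ?_ (RingHom.Flat.of_bijective σ.bijective),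
    (RingHom.FinitePresentation.of_bijective σ.bijective).comp ?_⟩
  · rw [← MvPolynomial.algebraMap_eq]; exact RingHom.flat_algebraMap_iff.2 inferInstance
  · rw [← MvPolynomial.algebraMap_eq]; exact RingHom.finitePresentation_algebraMap.2 inferInstance

theorem flat_lfp_toSpec (n : ℕ) (R : Type u) [CommRing R] :
    Flat (CohB1.ProjSpace.toSpec n R) ∧ LocallyOfFinitePresentation (CohB1.ProjSpace.toSpec n R) := by
  let 𝒜 := CohB1.polyGrading n R
  let U : Fin (n + 1) → (CohB1.ProjSpace n R).Opens := fun j => Proj.basicOpen 𝒜 (MvPolynomial.X j)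
  have hU : ⨆ j, U j = ⊤ := (S9576.result n R).1
  have key : ∀ j, Flat ((U j).ι ≫ CohB1.ProjSpace.toSpec n R) ∧
      LocallyOfFinitePresentation ((U j).ι ≫ CohB1.ProjSpace.toSpec n R) := fun j => by
    obtain ⟨φ, hφ, hf, hp⟩ := projSpace_chart n R j
    let e := Proj.basicOpenIsoSpec 𝒜 (MvPolynomial.X j) (MvPolynomial.isHomogeneous_X R j) one_pos
    have he : (U j).ι ≫ CohB1.ProjSpace.toSpec n R = e.hom ≫ Spec.map φ := by
      rw [← hφ, ← Category.assoc]
      congr 1
      exact (Iso.hom_inv_id_assoc e _).symm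
    rw [he]
    haveI : Flat (Spec.map φ) := (HasRingHomProperty.Spec_iff (P := @Flat)).2 hf
    haveI : LocallyOfFinitePresentation (Spec.map φ) :=
      (HasRingHomProperty.Spec_iff (P := @LocallyOfFinitePresentation)).2 hp
    exact ⟨inferInstance, inferInstance⟩
  let 𝒰 := (CohB1.ProjSpace n R).openCoverOfIsOpenCover U hU
  exact ⟨IsZariskiLocalAtSource.of_openCover 𝒰 fun j => (key j).1,
    IsZariskiLocalAtSource.of_openCover 𝒰 fun j => (key j).2⟩

end Groth.Agent.PerfGen
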