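import Groth.Agent.DQPush.Coprod
import Groth.Agent.DQCoh.Serre

/-!
`D_QCoh` is closed under triangles, shifts and direct sums.
-/

set_option autoImplicit false
set_option backward.isDefEq.respectTransparency false
set_option backward.isDefEq.respectTransparency.types false
set_option linter.style.haveILetI false

universe u

open CategoryTheory Limits Pretriangulated AlgebraicGeometry

attribute [local instance] HasDerivedCategory.standard

namespace Groth.Agent.PerfGen

variable {X : Scheme.{u}}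

lemma isQCohD_of_iso {E F : DCoh.D X} (e : E ≅ F) (h : DCoh.IsQCohD E) : DCoh.IsQCohD F := fun i =>
  QC.isQCoh_of_iso ((DerivedCategory.homologyFunctor X.Modules i).mapIso e) (h i)

lemma isQCohD_shift {E : DCoh.D X} (h : DCoh.IsQCohD E) (n : ℤ) : DCoh.IsQCohD (E⟦n⟧) := fun i =>
  QC.isQCoh_of_iso
    (((DerivedCategory.homologyFunctor X.Modules 0).shiftIso n i (i + n) (by lia)).app E).symm (h (i + n))

lemma isQCohD_of_isZero {E : DCoh.D X} (h : IsZero E) : DCoh.IsQCohD E := fun i =>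
  DQCoh.isQCoh_of_isZero ((DerivedCategory.homologyFunctor X.Modules i).map_isZero h)

lemma isQCohD_obj₃ (T : Triangle (DCoh.D X)) (hT : T ∈ distTriang (DCoh.D X)) (h₁ : DCoh.IsQCohD T.obj₁)
    (h₂ : DCoh.IsQCohD T.obj₂) : DCoh.IsQCohD T.obj₃ := fun i =>
  DQCoh.isQCoh_of_exact₅ _ _ _ _ _ _ _
    (DerivedCategory.HomologySequence.exact₂ _ hT i)
    (DerivedCategory.HomologySequence.exact₃ _ hT i (i + 1) rfl)
    (DerivedCategory.HomologySequence.exact₁ _ hT i (i + 1) rfl) (h₁ i) (h₂ i) (h₁ (i + 1)) (h₂ (i + 1))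

lemma isQCohD_obj₁ (T : Triangle (DCoh.D X)) (hT : T ∈ distTriang (DCoh.D X)) (h₂ : DCoh.IsQCohD T.obj₂)
    (h₃ : DCoh.IsQCohD T.obj₃) : DCoh.IsQCohD T.obj₁ :=
  isQCohD_obj₃ T.invRotate.invRotate (inv_rot_of_distTriang _ (inv_rot_of_distTriang _ hT))
    (isQCohD_shift h₂ (-1)) (isQCohD_shift h₃ (-1))

lemma isQCohD_obj₂ (T : Triangle (DCoh.D X)) (hT : T ∈ distTriang (DCoh.D X)) (h₁ : DCoh.IsQCohD T.obj₁)
    (h₃ : DCoh.IsQCohD T.obj₃) : DCoh.IsQCohD T.obj₂ :=
  isQCohD_obj₃ T.invRotate (inv_rot_of_distTriang _ hT) (isQCohD_shift h₃ (-1)) h₁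

lemma isQCohD_coprod {ι : Type u} (K : ι → DCoh.D X) [HasCoproduct K] (h : ∀ i, DCoh.IsQCohD (K i)) :
    DCoh.IsQCohD (∐ K) := fun i => by
  haveI := DQPush.preservesCoproducts_HD (X := X) (ι := ι) i
  exact QC.isQCoh_of_iso
    (preservesColimitIso (DerivedCategory.homologyFunctor X.Modules i) (Discrete.functor K)).symm
    (QC.isQCoh_colimit _ fun t => h t.as i)

end Groth.Agent.PerfGen
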