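import Groth.Agent.PerfGen.RingCompact
import Groth.Agent.PerfGen.QCohTri
import Groth.Agent.DQCoh.AffinePerf
import Groth.Agent.DQCoh.PerfDescent
import Groth.Agent.DQPush.OpenBC
import Groth.Agent.ProjForm.Range
import Groth.Agent.ProjForm.Main
import Groth.Agent.DerPerf.Local
import Groth.Agent.DerPush.Basic
import Groth.Agent.FlatBCD.Qis
import Groth.Agent.HDU.Top
import Mathlib.Algebra.Homology.HomotopyCategory.MappingCocone

/-!
Perfect objects are compact in `D_QCoh` of a quasi-compact quasi-separated scheme.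
-/

set_option autoImplicit false
set_option backward.isDefEq.respectTransparency false
set_option backward.isDefEq.respectTransparency.types false
set_option linter.style.haveILetI false

universe u

open CategoryTheory Limits Pretriangulated AlgebraicGeometry HomologicalComplex

attribute [local instance] HasDerivedCategory.standard

namespace Groth.Agent.PerfGen

open Groth.Agent.KFlat Groth.Agent.ProjForm

/-- perfect objects have quasi-coherent cohomology -/
theorem isQCohD_of_isPerfect {X : Scheme.{u}} {E : DCoh.D X} (hE : DCoh.IsPerfect E) : DCoh.IsQCohD E := fun i => by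
  let P := (DerivedCategory.Q : _ ⥤ DCoh.D X).objPreimage E
  let e : DCoh.toD X P ≅ E := DerivedCategory.Q.objObjPreimageIso E
  have h := (DerPerf.isPerfect_iff_rep e).1 hE
  refine QC.isQCoh_of_iso ((DerivedCategory.homologyFunctor X.Modules i).mapIso e)
    (QC.isQCoh_of_iso (KFlat.hdIso P i).symm (DQCoh.isQCoh_of_restrict_opens fun x => ?_))
  obtain ⟨V, hx, F, hF, ⟨a⟩⟩ := h x
  refine ⟨V, hx, ?_⟩
  exact QC.isQCoh_of_iso ((hdIso F i).symm ≪≫
      ((DerivedCategory.homologyFunctor (V : Scheme.{u}).Modules i).mapIso a).symm ≪≫ hdIso _ i ≪≫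
      (P.sc i).mapHomologyIso (Scheme.Modules.restrictFunctor V.ι))
    (DQCoh.isQCoh_homology_of_X F (fun n => DQCoh.isQCoh_of_isFinLocFree (hF.2 n)) i)

/-- the affine case -/
theorem finFac_affine {R : Type u} [CommRing R] {K : DCoh.D (Spec (CommRingCat.of R))} (hK : DCoh.IsPerfect K)
    {T : Type u} (X : T → DCoh.D (Spec (CommRingCat.of R))) [HasCoproduct X] (hX : ∀ t, DCoh.IsQCohD (X t)) :
    FinFac K X := by
  haveI : PreservesFiniteLimits (tilde.functor (CommRingCat.of R)) := QC.tilde_preservesFiniteLimits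
  obtain ⟨hfull, hfaith, hess⟩ := DQCoh.tildeD_affine (R := CommRingCat.of R)
  haveI := hfull
  haveI := hfaith
  haveI : HasColimitsOfShape (Discrete T) (Dual.D R) := BrownDerived.hasCoproducts (B := ModuleCat.{u} R) T
  let F := DCoh.tildeD (CommRingCat.of R)
  obtain ⟨P, ⟨eP⟩⟩ := (hess K).1 (isQCohD_of_isPerfect hK)
  have hP : DRing.IsPerfect R P := (DQCoh.perfect_tilde_iff P).1 (DQCoh.perfect_of_iso eP.symm hK)
  have hM : ∀ t, ∃ M, Nonempty (F.obj M ≅ X t) := fun t => (hess (X t)).1 (hX t)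
  choose M hM using hM
  let eX : ∀ t, F.obj (M t) ≅ X t := fun t => (hM t).some
  obtain ⟨N, ⟨eN⟩⟩ := (hess (∐ X)).1 (isQCohD_coprod X hX)
  let ψ : (∐ M) ⟶ N := Sigma.desc fun t => F.preimage ((eX t).hom ≫ Sigma.ι X t ≫ eN.inv)
  let back : (∐ X) ⟶ F.obj (∐ M) := Sigma.desc fun t => (eX t).inv ≫ F.map (Sigma.ι M t)
  have hψ : back ≫ F.map ψ = eN.inv := Sigma.hom_ext _ _ fun t => by
    simp [back, ψ, ← Functor.map_comp]
  intro φ
  obtain ⟨g, hg⟩ := F.map_surjective (eP.hom ≫ φ ≫ back)
  obtain ⟨s, p, hp⟩ := finFac_of_isPerfect hP M g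
  refine ⟨s, fun t => eP.inv ≫ F.map (p t) ≫ (eX t).hom, ?_⟩
  have h1 : φ = eP.inv ≫ F.map (g ≫ ψ) ≫ eN.hom := by
    rw [F.map_comp, hg]; simp [reassoc_of% hψ]
  rw [h1, hp, Preadditive.sum_comp, Functor.map_sum, Preadditive.sum_comp, Preadditive.comp_sum]
  refine Finset.sum_congr rfl fun t _ => ?_
  simp [ψ]

variable {W X : Scheme.{u}}

/-- families of direct images -/
theorem finFac_rpush (f : W ⟶ X) [QuasiCompact f] [QuasiSeparated f] [DCoh.HasRpush f] [DCoh.HasLpull f]
    {K : DCoh.D X} {T : Type u} (Y : T → DCoh.D W) (hY : ∀ t, DCoh.IsQCohD (Y t)) [HasCoproduct Y]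
    [HasCoproduct fun t => (DCoh.Rpush f).obj (Y t)] (h : FinFac ((DCoh.Lpull f).obj K) Y) :
    FinFac K (fun t => (DCoh.Rpush f).obj (Y t)) := by
  haveI : SiteCmp.HasRpushD (ModSite.RMor.ofScheme f) := ‹DCoh.HasRpush f›
  obtain ⟨adj⟩ := DerPush.nonempty_lpull_adj_rpush f
  haveI := DQPush.isIso_comparison_qcoh f Y hY
  intro φ
  obtain ⟨s, p, hp⟩ := h ((adj.homEquiv _ _).symm (φ ≫ sigmaComparison (DCoh.Rpush f) Y))
  refine ⟨s, fun t => adj.homEquiv _ _ (p t), ?_⟩
  rw [← cancel_mono (sigmaComparison (DCoh.Rpush f) Y), ← Equiv.apply_symm_apply (adj.homEquiv _ _)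
    (φ ≫ sigmaComparison (DCoh.Rpush f) Y), hp, Preadditive.sum_comp]
  haveI : (DCoh.Rpush f).Additive := inferInstanceAs (SiteCmp.RpushD (ModSite.RMor.ofScheme f)).Additive
  rw [Adjunction.homEquiv_unit, Functor.map_sum, Preadditive.comp_sum]
  refine Finset.sum_congr rfl fun t _ => ?_
  simp only [Category.assoc, ι_comp_sigmaComparison, Adjunction.homEquiv_unit, Functor.map_comp]

/-- the unit `I ⟶ j_* j^* I` on complexes -/
noncomputable def etaC (j : W ⟶ X) [IsOpenImmersion j] (I : CochainComplex X.Modules ℤ) :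
    I ⟶ (pC j).obj (((Scheme.Modules.restrictFunctor j).mapHomologicalComplex (ComplexShape.up ℤ)).obj I) where
  f n := (Scheme.Modules.restrictAdjunction j).unit.app (I.X n)
  comm' a b _ := ((Scheme.Modules.restrictAdjunction j).unit.naturality (I.d a b)).symm

/-- the unit is an isomorphism over the open -/
lemma isIso_restrict_etaC (j : W ⟶ X) [IsOpenImmersion j] (I : CochainComplex X.Modules ℤ) :
    IsIso (((Scheme.Modules.restrictFunctor j).mapHomologicalComplex (ComplexShape.up ℤ)).map (etaC j I)) := by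
  haveI : ∀ n, IsIso ((((Scheme.Modules.restrictFunctor j).mapHomologicalComplex (ComplexShape.up ℤ)).map
      (etaC j I)).f n) := fun n => by
    let adj := Scheme.Modules.restrictAdjunction j
    haveI : IsIso (adj.counit.app ((Scheme.Modules.restrictFunctor j).obj (I.X n))) := inferInstance
    haveI : IsIso ((Scheme.Modules.restrictFunctor j).map (adj.unit.app (I.X n)) ≫
        adj.counit.app ((Scheme.Modules.restrictFunctor j).obj (I.X n))) := by
      rw [adj.left_triangle_components (I.X n)]; infer_instance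
    exact IsIso.of_isIso_comp_right ((Scheme.Modules.restrictFunctor j).map (adj.unit.app (I.X n)))
      (adj.counit.app ((Scheme.Modules.restrictFunctor j).obj (I.X n)))
  exact HomologicalComplex.Hom.isIso_of_components _

lemma isKInjective_pC_open (j : W ⟶ X) [IsOpenImmersion j] (J : CochainComplex W.Modules ℤ) [J.IsKInjective] :
    CochainComplex.IsKInjective ((pC j).obj J) :=
  KInj.isKInjective_rightAdjoint (Scheme.Modules.restrictAdjunction j) J ‹_›

/-- a K-injective complex vanishing on `U` is the direct image of its restriction to `V` when `U ∪ V = X` -/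
theorem quasiIso_etaC {V : Scheme.{u}} (k : V ⟶ X) [IsOpenImmersion k] {U : X.Opens}
    (hUV : ∀ x : X, x ∈ U ∨ x ∈ k.opensRange) (C : CochainComplex X.Modules ℤ) [C.IsKInjective]
    (hC : AcycOn U C) : QuasiIso (etaC k C) := by
  let R := (Scheme.Modules.restrictFunctor k).mapHomologicalComplex (ComplexShape.up ℤ)
  haveI : CochainComplex.IsKInjective (R.obj C) := DQPush.isKInjective_restrict_open k C ‹_›
  have hR : AcycOn (k ⁻¹ᵁ U) (R.obj C) := fun y hy i => by
    rw [exactAt_iff_isZero_homology]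
    have h1 : IsZero ((DerSch.stalkFunctor X (k.base y)).obj (C.homology i)) :=
      ((exactAt_iff_isZero_homology _ _).1 (hC _ hy i)).of_iso ((C.sc i).mapHomologyIso (DerSch.stalkFunctor X _)).symm
    haveI : Subsingleton ((DerSch.stalkFunctor X (k.base y)).obj (C.homology i)) :=
      ModuleCat.subsingleton_of_isZero h1
    let E : ((DerSch.stalkFunctor V y).obj ((Scheme.Modules.restrictFunctor k).obj (C.homology i))) ≃
        ((DerSch.stalkFunctor X (k.base y)).obj (C.homology i)) :=
      ((Scheme.Modules.restrictStalkNatIso k y).app (C.homology i)).addCommGroupIsoToAddEquiv.toEquiv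
    haveI := E.subsingleton
    exact (ModuleCat.isZero_of_subsingleton ((DerSch.stalkFunctor V y).obj
      ((Scheme.Modules.restrictFunctor k).obj (C.homology i)))).of_iso
      (((R.obj C).sc i).mapHomologyIso (DerSch.stalkFunctor V y) ≪≫
        (DerSch.stalkFunctor V y).mapIso ((C.sc i).mapHomologyIso (Scheme.Modules.restrictFunctor k)))
  refine quasiIso_of_qisOn _ fun x => ?_
  rcases hUV x with hx | hx
  · exact ⟨U, hx, qisOn_of_acycOn _ hC (acycOn_push k _ hR)⟩
  · refine ⟨k.opensRange, hx, (qisOn_range_iff k _).2 ?_⟩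
    haveI := isIso_restrict_etaC k C
    infer_instance

/-- two open pieces -/
theorem finFac_of_cover {W₁ W₂ : Scheme.{u}} (j : W₁ ⟶ X) (k : W₂ ⟶ X) [IsOpenImmersion j] [IsOpenImmersion k]
    [QuasiCompact j] [QuasiCompact k] (hcov : ∀ x : X, x ∈ j.opensRange ∨ x ∈ k.opensRange)
    (h₁ : ∀ {K : DCoh.D W₁}, DCoh.IsPerfect K → ∀ {T : Type u} (Y : T → DCoh.D W₁) [HasCoproduct Y],
      (∀ t, DCoh.IsQCohD (Y t)) → FinFac K Y)
    (h₂ : ∀ {K : DCoh.D W₂}, DCoh.IsPerfect K → ∀ {T : Type u} (Y : T → DCoh.D W₂) [HasCoproduct Y],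
      (∀ t, DCoh.IsQCohD (Y t)) → FinFac K Y)
    {K : DCoh.D X} (hK : DCoh.IsPerfect K) {T : Type u} (Y : T → DCoh.D X) [HasCoproduct Y]
    (hY : ∀ t, DCoh.IsQCohD (Y t)) : FinFac K Y := by
  haveI := DerPush.hasRpush_sch j
  haveI := DerPush.hasRpush_sch k
  haveI := KFlat.hasLpull j
  haveI := KFlat.hasLpull k
  haveI : HasColimitsOfShape (Discrete T) (DCoh.D X) := DQPush.hasCoproducts_D X T
  haveI : HasColimitsOfShape (Discrete T) (DCoh.D W₁) := DQPush.hasCoproducts_D W₁ T
  haveI : HasColimitsOfShape (Discrete T) (DCoh.D W₂) := DQPush.hasCoproducts_D W₂ T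
  have hrep := fun t => HDU.exists_kInj_rep (A := X.Modules) (Y t)
  choose I hI hIe using hrep
  let e : ∀ t, DerivedCategory.Q.obj (I t) ≅ Y t := fun t => (hIe t).some
  haveI := hI
  let Rj := (Scheme.Modules.restrictFunctor j).mapHomologicalComplex (ComplexShape.up ℤ)
  let Rk := (Scheme.Modules.restrictFunctor k).mapHomologicalComplex (ComplexShape.up ℤ)
  let φ := fun t => etaC j (I t)
  let C := fun t => CochainComplex.mappingCocone (φ t)
  haveI hIj : ∀ t, CochainComplex.IsKInjective (Rj.obj (I t)) := fun t =>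
    DQPush.isKInjective_restrict_open j _ (hI t)
  haveI : ∀ t, CochainComplex.IsKInjective ((pC j).obj (Rj.obj (I t))) := fun t => isKInjective_pC_open j _
  haveI hCi : ∀ t, CochainComplex.IsKInjective (C t) := fun t =>
    haveI := ProjForm.isKInjective_mappingCone (φ t)
    (inferInstance : CochainComplex.IsKInjective ((CochainComplex.mappingCone (φ t))⟦(-1 : ℤ)⟧))
  haveI hCk : ∀ t, CochainComplex.IsKInjective (Rk.obj (C t)) := fun t =>
    DQPush.isKInjective_restrict_open k _ (hCi t)
  -- the triangle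
  have htri : ∀ t, ∃ c, Triangle.mk (DerivedCategory.Q.map (CochainComplex.mappingCocone.fst (φ t)))
      (DerivedCategory.Q.map (φ t)) c ∈ distTriang (DCoh.D X) := fun t => by
    refine ⟨(DerivedCategory.Q.mapTriangle.obj (CochainComplex.mappingCocone.triangle (φ t))).mor₃, ?_⟩
    change DerivedCategory.Q.mapTriangle.obj (CochainComplex.mappingCocone.triangle (φ t)) ∈ _
    rw [Pretriangulated.rotate_distinguished_triangle]
    exact isomorphic_distinguished _ (DerivedCategory.mappingCone_triangle_distinguished (φ t)) _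
      ((Functor.mapTriangleRotateIso DerivedCategory.Q).app _ ≪≫
        DerivedCategory.Q.mapTriangle.mapIso (CochainComplex.mappingCocone.rotateTriangleIso _))
  choose c hc using htri
  have hIq : ∀ t, DCoh.IsQCohD (DerivedCategory.Q.obj (I t)) := fun t => isQCohD_of_iso (e t).symm (hY t)
  let Z₁ := fun t => DerivedCategory.Q.obj (Rj.obj (I t))
  have hZ₁ : ∀ t, DCoh.IsQCohD (Z₁ t) := fun t =>
    isQCohD_of_iso ((Scheme.Modules.restrictFunctor j).mapDerivedCategoryFactors.app (I t))
      (fun i => QC.isQCoh_of_iso ((DQCoh.homologyDerIso (Scheme.Modules.restrictFunctor j) i).app _).symm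
        (QC.isQCoh_restrict j (hIq t i)))
  have hJq : ∀ t, DCoh.IsQCohD (DerivedCategory.Q.obj ((pC j).obj (Rj.obj (I t)))) := fun t =>
    FlatBCD.isQCohD_push (f := j) _ (hZ₁ t)
  have hCq : ∀ t, DCoh.IsQCohD (DerivedCategory.Q.obj (C t)) := fun t =>
    isQCohD_obj₁ _ (hc t) (hIq t) (hJq t)
  let Z₂ := fun t => DerivedCategory.Q.obj (Rk.obj (C t))
  have hZ₂ : ∀ t, DCoh.IsQCohD (Z₂ t) := fun t =>
    isQCohD_of_iso ((Scheme.Modules.restrictFunctor k).mapDerivedCategoryFactors.app (C t))
      (fun i => QC.isQCoh_of_iso ((DQCoh.homologyDerIso (Scheme.Modules.restrictFunctor k) i).app _).symm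
        (QC.isQCoh_restrict k (hCq t i)))
  -- the cocone vanishes on the image of `j`
  have hA : ∀ t, AcycOn j.opensRange (C t) := fun t y hy => by
    have h1 : AcycOn j.opensRange (CochainComplex.mappingCone (φ t)) := (acycOn_cone_iff _).2
      ((qisOn_range_iff j _).2 (haveI := isIso_restrict_etaC j (I t); inferInstance))
    intro i
    exact ((exactAt_iff_isZero_homology _ _).2 (((exactAt_iff_isZero_homology _ _).1 (h1 y hy (i + -1))).of_iso
      (((HomologicalComplex.homologyFunctor _ _ i).mapIso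
        (((DerSch.stalkFunctor X y).mapHomologicalComplex (ComplexShape.up ℤ)).commShiftIso (-1 : ℤ) |>.app _)) ≪≫
          (((HomologicalComplex.homologyFunctor _ (ComplexShape.up ℤ) 0).shiftIso (-1 : ℤ) i (i + -1) (by omega)).app _))))
  haveI : QuasiSeparated j := inferInstance
  haveI : QuasiSeparated k := inferInstance
  have hf₂ : FinFac K (fun t => DerivedCategory.Q.obj ((pC j).obj (Rj.obj (I t)))) :=
    FinFac.of_iso_right (fun t => (ProjForm.rpushIso j (Rj.obj (I t))).symm)
      (finFac_rpush j Z₁ hZ₁ (h₁ (DerPerf.isPerfect_Lpull j K hK) Z₁ hZ₁))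
  have hf₁ : FinFac K (fun t => DerivedCategory.Q.obj (C t)) :=
    FinFac.of_iso_right (fun t => (ProjForm.rpushIso k (Rk.obj (C t))).symm ≪≫
        (haveI := quasiIso_etaC k hcov (C t) (hA t); (asIso (DerivedCategory.Q.map (etaC k (C t)))).symm))
      (finFac_rpush k Z₂ hZ₂ (h₂ (DerPerf.isPerfect_Lpull k K hK) Z₂ hZ₂))
  exact FinFac.of_iso_right e (FinFac.ext₂ _ _ c hc hf₁ hf₂)

/-- **perfect objects are compact in `D_QCoh`** -/
theorem finFac_perfect (X : Scheme.{u}) [CompactSpace X] [QuasiSeparatedSpace X] {K : DCoh.D X}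
    (hK : DCoh.IsPerfect K) {T : Type u} (Y : T → DCoh.D X) [HasCoproduct Y] (hY : ∀ t, DCoh.IsQCohD (Y t)) :
    FinFac K Y := by
  suffices H : ∀ S : X.Opens, IsCompact (S : Set X) → ∀ (K : DCoh.D (S : Scheme.{u})), DCoh.IsPerfect K →
      ∀ {T : Type u} (Y : T → DCoh.D (S : Scheme.{u})) [HasCoproduct Y], (∀ t, DCoh.IsQCohD (Y t)) → FinFac K Y by
    haveI : CompactSpace ((⊤ : X.Opens) : Scheme.{u}) := isCompact_iff_compactSpace.1 isCompact_univ
    haveI : QuasiSeparatedSpace ((⊤ : X.Opens) : Scheme.{u}) := quasiSeparatedSpace_of_quasiSeparated (⊤ : X.Opens).ι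
    let j : ((⊤ : X.Opens) : Scheme.{u}) ⟶ X := (⊤ : X.Opens).ι
    haveI : QuasiCompact j := quasiCompact_of_compactSpace j
    refine finFac_of_cover j j (fun x => Or.inl (by simp [j])) ?_ ?_ hK Y hY
    · exact fun {K} hK {T} Y _ hY => H ⊤ isCompact_univ K hK Y hY
    · exact fun {K} hK {T} Y _ hY => H ⊤ isCompact_univ K hK Y hY
  intro S hS
  refine compact_open_induction_on S hS ?_ ?_
  · intro K hK T Y _ hY φ
    have hz : IsZero K := by
      rw [IsZero.iff_id_eq_zero]
      haveI : IsIso (0 : K ⟶ K) := by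
        rw [DerivedCategory.isIso_iff]
        intro i
        have hh : IsZero ((DerivedCategory.homologyFunctor _ i).obj K) :=
          KFlat.isZero_of_stalks _ fun x => x.2.elim
        exact hh.isIso hh _
      have h0 := IsIso.hom_inv_id (0 : K ⟶ K)
      rw [zero_comp] at h0
      exact h0.symm
    exact ⟨∅, fun t => 0, hz.eq_of_src _ _⟩
  · intro S hS U ih K hK T Y _ hY
    let Z : X.Opens := S ⊔ U.1
    haveI : QuasiSeparatedSpace (Z : Scheme.{u}) := quasiSeparatedSpace_of_quasiSeparated Z.ι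
    haveI : CompactSpace (S : Scheme.{u}) := isCompact_iff_compactSpace.1 hS
    haveI : IsAffine (U.1 : Scheme.{u}) := U.2
    let j : (S : Scheme.{u}) ⟶ (Z : Scheme.{u}) := X.homOfLE le_sup_left
    let k₀ : (U.1 : Scheme.{u}) ⟶ (Z : Scheme.{u}) := X.homOfLE le_sup_right
    let k : Spec Γ((U.1 : Scheme.{u}), ⊤) ⟶ (Z : Scheme.{u}) := (U.1 : Scheme.{u}).isoSpec.inv ≫ k₀
    haveI : QuasiCompact j := quasiCompact_of_compactSpace j
    haveI : QuasiCompact k := quasiCompact_of_compactSpace k
    refine finFac_of_cover j k (fun z => ?_) (fun {K} hK {T} Y _ hY => ih K hK Y hY)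
      (fun {K} hK {T} Y _ hY => finFac_affine hK Y hY) hK Y hY
    rcases z.2 with hz | hz
    · exact Or.inl ⟨⟨z.1, hz⟩, Subtype.ext (by simp [j])⟩
    · refine Or.inr ⟨(U.1 : Scheme.{u}).isoSpec.hom.base ⟨z.1, hz⟩, Subtype.ext ?_⟩
      simp [k, k₀]

end Groth.Agent.PerfGen
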