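import Groth.Agent.PerfGen.Affine
import Groth.Agent.PerfGen.Compact

/-!
Extending perfect objects and their maps from a quasi-compact open, given generators with supports.
-/

set_option autoImplicit false
set_option backward.isDefEq.respectTransparency false
set_option backward.isDefEq.respectTransparency.types false
set_option linter.style.haveILetI false
set_option linter.unusedSectionVars false

universe u

open CategoryTheory Limits Pretriangulated AlgebraicGeometry ObjectProperty ZeroObject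

attribute [local instance] HasDerivedCategory.standard

namespace Groth.Agent.PerfGen

open Groth.Agent.DQCoh (RD)

variable {U X : Scheme.{u}}

instance hasCoproducts_D' (Y : Scheme.{u}) (κ : Type u) : HasColimitsOfShape (Discrete κ) (DCoh.D Y) :=
  DQPush.hasCoproducts_D Y κ

instance locallySmall_D (Y : Scheme.{u}) : LocallySmall.{u} (DCoh.D Y) :=
  BrownDerived.locallySmall_derivedCategory

instance closedIso_qcohD (Y : Scheme.{u}) : (DCoh.IsQCohD (X := Y)).IsClosedUnderIsomorphisms :=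
  ⟨fun e h => isQCohD_of_iso e h⟩

instance closedIso_PT (T : Set X) : (PT T).IsClosedUnderIsomorphisms :=
  ⟨fun e h => ⟨isQCohD_of_iso e h.1, suppD_of_iso e h.2⟩⟩

lemma localizing_qcohD (Y : Scheme.{u}) : Localizing.{u} (DCoh.IsQCohD (X := Y)) where
  shift h n := isQCohD_shift h n
  obj₃ T hT := isQCohD_obj₃ T hT
  coprod _ _ h := isQCohD_coprod _ h

lemma localizing_PT {T : Set X} (hT : IsClosed T) : Localizing.{u} (PT T) where
  shift {E} h n := ⟨isQCohD_shift h.1 n, (isZero_RD_of_compl hT _).2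
    (IsZero.of_iso ((shiftFunctor _ n).map_isZero ((isZero_RD_of_compl hT _).1 h.2))
      (((RD _).commShiftIso n).app E))⟩
  obj₃ T' hT' h₁ h₂ := ⟨isQCohD_obj₃ T' hT' h₁.1 h₂.1, (isZero_RD_of_compl hT _).2
    (Triangle.isZero₃_of_isZero₁₂ _ ((RD _).map_distinguished _ hT') ((isZero_RD_of_compl hT _).1 h₁.2)
      ((isZero_RD_of_compl hT _).1 h₂.2))⟩
  coprod {κ} E _ h := ⟨isQCohD_coprod E fun k => (h k).1, (isZero_RD_of_compl hT _).2 (by
    let j := Scheme.Opens.ι (⟨Tᶜ, hT.isOpen_compl⟩ : X.Opens)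
    haveI : PreservesColimitsOfSize.{u, u} (RD j) := (adjR j).leftAdjoint_preservesColimits
    refine IsZero.of_iso ?_ (PreservesCoproduct.iso (RD j) E)
    rw [IsZero.iff_id_eq_zero]
    exact Sigma.hom_ext _ _ fun k => ((isZero_RD_of_compl hT _).1 (h k).2).eq_of_src _ _)⟩

lemma suppD_obj₁ {T : Set X} (hT : IsClosed T) (T' : Triangle (DCoh.D X)) (hT' : T' ∈ distTriang (DCoh.D X))
    (h₂ : SuppD T T'.obj₂) (h₃ : SuppD T T'.obj₃) : SuppD T T'.obj₁ :=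
  (isZero_RD_of_compl hT _).2 (Triangle.isZero₁_of_isZero₂₃ _ ((RD _).map_distinguished _ hT')
    ((isZero_RD_of_compl hT _).1 h₂) ((isZero_RD_of_compl hT _).1 h₃))

lemma cpt_of_perfect [CompactSpace X] [QuasiSeparatedSpace X] {K : DCoh.D X} (hK : DCoh.IsPerfect K) :
    Cpt.{u} (DCoh.IsQCohD (X := X)) K :=
  ⟨isQCohD_of_isPerfect hK, fun Y _ hY => finFac_perfect X hK Y hY⟩

lemma cpt_PT_of_perfect [CompactSpace X] [QuasiSeparatedSpace X] {T : Set X} {K : DCoh.D X}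
    (hK : DCoh.IsPerfect K) (hKT : SuppD T K) : Cpt.{u} (PT T) K :=
  ⟨⟨isQCohD_of_isPerfect hK, hKT⟩, fun Y _ hY => finFac_perfect X hK Y fun t => (hY t).1⟩

lemma nonempty_only' {G : DCoh.D X} : (only G).Nonempty := ⟨⟨G, rfl⟩⟩

/-- perfect objects supported on `T` -/
def PerfT (T : Set X) : ObjectProperty (DCoh.D X) := fun E => DCoh.IsPerfect E ∧ SuppD T E

lemma perfT_zero {T : Set X} {Z : DCoh.D X} (hZ : IsZero Z) : PerfT T Z := by
  refine ⟨DQCoh.perfect_of_iso hZ.isoZero.symm ?_, fun i x hx => absurd hx ?_⟩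
  · rw [DQCoh.perfect_iff_near]
    intro x
    exact ⟨X, 𝟙 X, inferInstance, x, rfl, 0, DQCoh.isStrictlyPerfect_zero,
      ⟨((RD (𝟙 X)).map_isZero (isZero_zero _)).iso (Functor.map_isZero _ (isZero_zero _))⟩⟩
  · rw [mem_support_iff]
    exact not_not.2 ((DerSch.stalkFunctor X x).map_isZero
      ((DerivedCategory.homologyFunctor X.Modules i).map_isZero hZ))

/-- envelopes of perfect objects supported on `T` consist of such -/
lemma perfT_of_envelope {T : Set X} (hT : IsClosed T) {G E : DCoh.D X} (hG : DCoh.IsPerfect G)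
    (hGT : SuppD T G) (h : triangEnvelope (only G) E) : PerfT T E := by
  let Q : ObjectProperty (DCoh.D X) := PerfT T
  haveI : Q.IsClosedUnderIsomorphisms := ⟨fun e h => ⟨DQCoh.perfect_of_iso e h.1, suppD_of_iso e h.2⟩⟩
  haveI : Q.ContainsZero := ⟨⟨0, isZero_zero _, perfT_zero (isZero_zero _)⟩⟩
  haveI : Q.IsStableUnderShift ℤ := ⟨fun n => ⟨fun E h => ⟨DQCoh.perfect_shift h.1 n,
    (isZero_RD_of_compl hT _).2 (IsZero.of_iso ((shiftFunctor _ n).map_isZero ((isZero_RD_of_compl hT _).1 h.2))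
      (((RD _).commShiftIso n).app E))⟩⟩⟩
  haveI : Q.IsTriangulatedClosed₂ := IsTriangulatedClosed₂.mk' fun T' hT' h₁ h₃ =>
    ⟨DQCoh.perfect_obj₂ T' hT' h₁.1 h₃.1, (isZero_RD_of_compl hT _).2 (Triangle.isZero₂_of_isZero₁₃ _
      ((RD _).map_distinguished _ hT') ((isZero_RD_of_compl hT _).1 h₁.2) ((isZero_RD_of_compl hT _).1 h₃.2))⟩
  haveI : Q.IsTriangulated := {}
  haveI : Q.IsStableUnderRetracts := ⟨fun {A B} r hB => by
    obtain ⟨C, a, b, hC⟩ := distinguished_cocone_triangle r.i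
    haveI : IsSplitMono r.i := IsSplitMono.mk' ⟨r.r, r.retract⟩
    obtain ⟨e, -⟩ := exists_iso_binaryBiproduct_of_distTriang _ hC
      ((Triangle.mor₃_eq_zero_iff_mono₁ _ hC).2 (inferInstanceAs (Mono r.i)))
    haveI : HasBinaryBiproduct A C := inferInstance
    refine ⟨(DQCoh.perfect_of_retract (L := C) (DQCoh.perfect_of_iso e hB.1)).1, fun i x hx => hB.2 i ?_⟩
    rw [mem_support_iff] at hx ⊢
    intro hz
    refine hx (IsZero.of_mono (((DerivedCategory.homologyFunctor X.Modules i) ⋙ DerSch.stalkFunctor X x).map r.i) hz)⟩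
  exact ((triangEnvelope_le_iff (P := only G)).2 (fun E hE => by cases hE; exact ⟨hG, hGT⟩)) _ h

/-- generators with supports exist on `X` -/
def HasGen (X : Scheme.{u}) : Prop :=
  ∀ T : Set X, IsClosed T → IsCompact Tᶜ → ∃ G : DCoh.D X, DCoh.IsPerfect G ∧ SuppD T G ∧ Gen (PT T) G

variable [CompactSpace X] [QuasiSeparatedSpace X] [CompactSpace U]

lemma isClosed_preimage_of (j : U ⟶ X) {T : Set X} (hT : IsClosed T) : IsClosed (j.base ⁻¹' T) :=
  hT.preimage j.continuous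

lemma isCompact_compl_inter (j : U ⟶ X) [IsOpenImmersion j] {T : Set X} (hTc : IsCompact Tᶜ) :
    IsCompact (T ∩ (Set.range j.base)ᶜ)ᶜ := by
  rw [Set.compl_inter, compl_compl]
  exact hTc.union (isCompact_range j.continuous)

/-- **lifting maps from a perfect object over an open** -/
theorem exists_lift_map (hgen : HasGen X) (j : U ⟶ X) [IsOpenImmersion j] {T : Set X} (hT : IsClosed T)
    (hTc : IsCompact Tᶜ) {E E' : DCoh.D X} (hE : DCoh.IsPerfect E) (hET : SuppD T E) (hE' : DCoh.IsQCohD E')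
    (α : (RD j).obj E ⟶ (RD j).obj E') :
    ∃ (E₁ : DCoh.D X) (β : E₁ ⟶ E) (γ : E₁ ⟶ E'), DCoh.IsPerfect E₁ ∧ SuppD T E₁ ∧
      IsIso ((RD j).map β) ∧ (RD j).map β ≫ α = (RD j).map γ := by
  haveI : QuasiCompact j := quasiCompact_of_compactSpace j
  haveI : QuasiSeparated j := inferInstance
  let η := (adjR j).unit.app E'
  let φ := (adjR j).homEquiv _ _ α
  obtain ⟨M₀, a₀, b₀, hM⟩ := distinguished_cocone_triangle η
  have hZ : IsClosed (Set.range j.base)ᶜ := j.opensRange.isOpen.isClosed_compl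
  have hTZ : IsClosed (T ∩ (Set.range j.base)ᶜ) := hT.inter hZ
  have hM₀q : DCoh.IsQCohD M₀ :=
    isQCohD_obj₃ _ hM hE' (DQPush.isQCohD_rpush j (isQCohD_RD j hE'))
  have hM₀Z : SuppD (Set.range j.base)ᶜ M₀ := (isZero_RD_iff j M₀).1
    ((Triangle.isZero₃_iff_isIso₁ _ ((RD j).map_distinguished _ hM)).2 (isIso_map_unit_adjR j E'))
  -- the part of `M₀` supported on `T`
  let o : ((⟨Tᶜ, hT.isOpen_compl⟩ : X.Opens) : Scheme.{u}) ⟶ X := Scheme.Opens.ι _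
  haveI : CompactSpace ((⟨Tᶜ, hT.isOpen_compl⟩ : X.Opens) : Scheme.{u}) := isCompact_iff_compactSpace.1 hTc
  haveI : QuasiCompact o := quasiCompact_of_compactSpace o
  haveI : QuasiSeparated o := inferInstance
  obtain ⟨M, ι, b, hM₁⟩ := distinguished_cocone_triangle₁ ((adjR o).unit.app M₀)
  have hR : PT (Set.range j.base)ᶜ ((DCoh.Rpush o).obj ((RD o).obj M₀)) :=
    ⟨DQPush.isQCohD_rpush o (isQCohD_RD o hM₀q), suppD_rpush o hZ (suppD_RD o hM₀Z)⟩
  have hM' : PT (T ∩ (Set.range j.base)ᶜ) M :=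
    ⟨isQCohD_obj₁ _ hM₁ hM₀q hR.1, suppD_inter ((isZero_RD_of_compl hT _).2
      ((Triangle.isZero₁_iff_isIso₂ _ ((RD o).map_distinguished _ hM₁)).2 (isIso_map_unit_adjR o M₀)))
      (suppD_obj₁ hZ _ hM₁ hM₀Z hR.2)⟩
  obtain ⟨a, ha⟩ : ∃ a : E ⟶ M, φ ≫ a₀ = a ≫ ι := Triangle.coyoneda_exact₂ _ hM₁ (φ ≫ a₀) (by
    show (φ ≫ a₀) ≫ (adjR o).unit.app M₀ = 0
    apply ((adjR o).homEquiv _ _).symm.injective
    exact ((isZero_RD_of_compl hT E).1 hET).eq_of_src _ _)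
  obtain ⟨G, hG, hGT, hGgen⟩ := hgen _ hTZ (isCompact_compl_inter j hTc)
  obtain ⟨W, p, q, hW, hpq⟩ := exists_fac (localizing_PT hTZ) (localizing_qcohD X) (fun E h => h.1)
    ⟨isQCohD_of_isPerfect hG, hGT⟩ (cpt_of_perfect hG) hGgen hM' (cpt_of_perfect hE) a
  have hW' := perfT_of_envelope hTZ hG hGT hW.1
  obtain ⟨E₁, β, c, hE₁⟩ := distinguished_cocone_triangle₁ p
  obtain ⟨γ, hγ⟩ : ∃ γ : E₁ ⟶ E', β ≫ φ = γ ≫ η := Triangle.coyoneda_exact₂ _ hM (β ≫ φ) (by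
    have h0 : β ≫ p = 0 := comp_distTriang_mor_zero₁₂ _ hE₁
    change (β ≫ φ) ≫ a₀ = 0
    rw [Category.assoc, ha, ← hpq, Category.assoc, reassoc_of% h0, zero_comp])
  refine ⟨E₁, β, γ, DQCoh.perfect_obj₁ _ hE₁ hE hW'.1, suppD_obj₁ hT _ hE₁ hET
    (suppD_mono Set.inter_subset_left hW'.2), ?_, ?_⟩
  · refine (Triangle.isZero₃_iff_isIso₁ _ ((RD j).map_distinguished _ hE₁)).1 ?_
    exact (isZero_RD_iff j W).2 (suppD_mono Set.inter_subset_right hW'.2)
  · have h1 := congrArg (fun t => (RD j).map t ≫ (adjR j).counit.app ((RD j).obj E')) hγ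
    simp only [Functor.map_comp, Category.assoc, η, φ] at h1
    simp only [Adjunction.homEquiv_unit, Functor.map_comp, Category.assoc,
      Adjunction.left_triangle_components, Category.comp_id] at h1
    have h2 : (RD j).map ((adjR j).unit.app E) ≫ (RD j).map ((DCoh.Rpush j).map α) ≫
        (adjR j).counit.app ((RD j).obj E') = α :=
      (congrArg ((RD j).map ((adjR j).unit.app E) ≫ ·) ((adjR j).counit.naturality α)).trans
        ((Category.assoc _ _ _).symm.trans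
          ((congrArg (· ≫ α) ((adjR j).left_triangle_components E)).trans (Category.id_comp _)))
    rw [h2] at h1
    exact h1

/-- `F` is the restriction of a perfect object supported on `T` -/
def LiftableT (j : U ⟶ X) [IsOpenImmersion j] (T : Set X) : ObjectProperty (DCoh.D U) := fun F =>
  ∃ G : DCoh.D X, PerfT T G ∧ Nonempty ((RD j).obj G ≅ F)

/-- `F` is a retract of such a restriction -/
def RetT (j : U ⟶ X) [IsOpenImmersion j] (T : Set X) : ObjectProperty (DCoh.D U) := fun F =>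
  ∃ G : DCoh.D X, PerfT T G ∧ Nonempty (Retract F ((RD j).obj G))

/-- cones of maps between restrictions lift -/
lemma exists_lift_cone (hgen : HasGen X) (j : U ⟶ X) [IsOpenImmersion j] {T : Set X} (hT : IsClosed T)
    (hTc : IsCompact Tᶜ) {G₁ G₂ : DCoh.D X} (h₁ : PerfT T G₁) (h₂ : PerfT T G₂)
    (α : (RD j).obj G₁ ⟶ (RD j).obj G₂) :
    ∃ (G₃ : DCoh.D X) (b : (RD j).obj G₂ ⟶ (RD j).obj G₃) (c : (RD j).obj G₃ ⟶ ((RD j).obj G₁)⟦(1 : ℤ)⟧),
      PerfT T G₃ ∧ Triangle.mk α b c ∈ distTriang (DCoh.D U) := by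
  obtain ⟨E₁, β, γ, hE₁, hE₁T, hβ, hγ⟩ :=
    exists_lift_map hgen j hT hTc h₁.1 h₁.2 (isQCohD_of_isPerfect h₂.1) α
  obtain ⟨G₃, b, c, hG₃⟩ := distinguished_cocone_triangle γ
  haveI := hβ
  refine ⟨G₃, (RD j).map b, ((RD j).mapTriangle.obj (Triangle.mk γ b c)).mor₃ ≫ ((RD j).map β)⟦(1 : ℤ)⟧',
    ⟨DQCoh.perfect_obj₃ _ hG₃ hE₁ h₂.1, ((localizing_PT hT).obj₃ _ hG₃ ⟨isQCohD_of_isPerfect hE₁, hE₁T⟩
      ⟨isQCohD_of_isPerfect h₂.1, h₂.2⟩).2⟩, ?_⟩
  refine isomorphic_distinguished _ ((RD j).map_distinguished _ hG₃) _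
    (Triangle.isoMk _ _ (asIso ((RD j).map β)).symm (Iso.refl _) (Iso.refl _) ?_ ((Category.comp_id _).trans (Category.id_comp _).symm) ?_)
  · show α ≫ 𝟙 _ = inv ((RD j).map β) ≫ (RD j).map γ
    rw [Category.comp_id, ← hγ, IsIso.inv_hom_id_assoc]
  · show (((RD j).mapTriangle.obj (Triangle.mk γ b c)).mor₃ ≫ ((RD j).map β)⟦(1 : ℤ)⟧') ≫
      (inv ((RD j).map β))⟦(1 : ℤ)⟧' = 𝟙 _ ≫ _
    rw [Category.assoc, ← Functor.map_comp, IsIso.hom_inv_id, CategoryTheory.Functor.map_id, Category.id_comp]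
    exact Category.comp_id _

instance retT_retracts (j : U ⟶ X) [IsOpenImmersion j] (T : Set X) : (RetT j T).IsStableUnderRetracts :=
  ⟨fun r ⟨G, hG, ⟨s⟩⟩ => ⟨G, hG, ⟨r.trans s⟩⟩⟩

lemma retT_ext₃ (hgen : HasGen X) (j : U ⟶ X) [IsOpenImmersion j] {T : Set X} (hT : IsClosed T)
    (hTc : IsCompact Tᶜ) (S : Triangle (DCoh.D U)) (hS : S ∈ distTriang (DCoh.D U)) (h₁ : RetT j T S.obj₁)
    (h₂ : RetT j T S.obj₂) : RetT j T S.obj₃ := by
  obtain ⟨G₁, hG₁, ⟨r₁⟩⟩ := h₁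
  obtain ⟨G₂, hG₂, ⟨r₂⟩⟩ := h₂
  obtain ⟨G₃, b, c, hG₃, hd⟩ := exists_lift_cone hgen j hT hTc hG₁ hG₂ (r₁.r ≫ S.mor₁ ≫ r₂.i)
  obtain ⟨i₃, hi, hi'⟩ := complete_distinguished_triangle_morphism _ _ hS hd r₁.i r₂.i (by simp)
  obtain ⟨p₃, hp, hp'⟩ := complete_distinguished_triangle_morphism _ _ hd hS r₁.r r₂.r (by simp)
  let u : S ⟶ S :=
    { hom₁ := 𝟙 _
      hom₂ := 𝟙 _
      hom₃ := i₃ ≫ p₃
      comm₁ := by simp
      comm₂ := by
        have h := congrArg (fun t => t ≫ p₃) hi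
        simp only [Category.assoc] at h
        rw [h]
        exact ((congrArg (r₂.i ≫ ·) hp).trans (r₂.retract_assoc _)).trans (Category.id_comp _).symm
      comm₃ := by
        rw [CategoryTheory.Functor.map_id, Category.comp_id, Category.assoc, ← hp']
        have h := congrArg (fun t => t ≫ r₁.r⟦(1 : ℤ)⟧') hi'
        simp only [Category.assoc, ← Functor.map_comp, r₁.retract, CategoryTheory.Functor.map_id, Category.comp_id] at h
        exact h }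
  haveI : IsIso u.hom₁ := inferInstanceAs (IsIso (𝟙 _))
  haveI : IsIso u.hom₂ := inferInstanceAs (IsIso (𝟙 _))
  haveI : IsIso (i₃ ≫ p₃) := isIso₃_of_isIso₁₂ u hS hS inferInstance inferInstance
  exact ⟨G₃, hG₃, ⟨⟨i₃, p₃ ≫ inv (i₃ ≫ p₃), by rw [← Category.assoc, IsIso.hom_inv_id]⟩⟩⟩

lemma retT_shift (j : U ⟶ X) [IsOpenImmersion j] {T : Set X} (hT : IsClosed T) {F : DCoh.D U}
    (h : RetT j T F) (n : ℤ) : RetT j T (F⟦n⟧) := by
  obtain ⟨G, hG, ⟨r⟩⟩ := h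
  refine ⟨G⟦n⟧, ⟨DQCoh.perfect_shift hG.1 n, ((localizing_PT hT).shift ⟨isQCohD_of_isPerfect hG.1, hG.2⟩ n).2⟩,
    ⟨(r.map (shiftFunctor _ n)).trans (Retract.ofIso (((RD j).commShiftIso n).app G).symm)⟩⟩

/-- perfect objects on the open are retracts of restrictions -/
theorem retT_of_perfect [QuasiSeparatedSpace U] (hgen : HasGen X) (j : U ⟶ X) [IsOpenImmersion j] {T : Set X}
    (hT : IsClosed T) (hTc : IsCompact Tᶜ) {F : DCoh.D U} (hF : PerfT (j.base ⁻¹' T) F) : RetT j T F := by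
  obtain ⟨G, hG, hGT, hGgen⟩ := hgen T hT hTc
  haveI : QuasiCompact j := quasiCompact_of_compactSpace j
  haveI : QuasiSeparated j := inferInstance
  have hGU : Gen (PT (j.base ⁻¹' T)) ((RD j).obj G) := by
    intro M hM h
    have h0 : IsZero ((DCoh.Rpush j).obj M) :=
      hGgen _ ⟨DQPush.isQCohD_rpush j hM.1, suppD_rpush j hT hM.2⟩ fun n g => by
        apply ((adjR j).homEquiv _ _).symm.injective
        rw [← cancel_epi ((((RD j).commShiftIso n).app G).inv)]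
        exact (h n _).trans (h n _).symm
    exact IsZero.of_iso ((RD j).map_isZero h0) (asIso ((adjR j).counit.app M)).symm
  let Q : ObjectProperty (DCoh.D U) := RetT j T
  haveI : Q.IsStableUnderRetracts := retT_retracts j T
  haveI : Q.IsStableUnderShift ℤ := ⟨fun n => ⟨fun E h => retT_shift j hT h n⟩⟩
  haveI : Q.ContainsZero := ⟨⟨(RD j).obj 0, (RD j).map_isZero (isZero_zero _),
    0, perfT_zero (isZero_zero _), ⟨Retract.refl _⟩⟩⟩
  haveI : Q.IsTriangulatedClosed₂ := IsTriangulatedClosed₂.mk' fun S hS h₁ h₃ =>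
    retT_ext₃ hgen j hT hTc S.invRotate (inv_rot_of_distTriang _ hS) (retT_shift j hT h₃ (-1)) h₁
  haveI : Q.IsTriangulated := {}
  exact ((triangEnvelope_le_iff (P := only ((RD j).obj G))).2
    (fun E hE => by cases hE; exact ⟨G, ⟨hG, hGT⟩, ⟨Retract.refl _⟩⟩)) _
    (envelope_of_gen (localizing_PT (isClosed_preimage_of j hT))
      (cpt_PT_of_perfect (isPerfect_RD j hG) (suppD_RD j hGT)) hGU (cpt_PT_of_perfect hF.1 hF.2))

/-- cone of `1 - e` for the idempotent of a retract -/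
lemma nonempty_cone_retract {F Q : DCoh.D U} (r : Retract F Q) [HasBinaryBiproduct F (F⟦(1 : ℤ)⟧)] {C : DCoh.D U}
    {a : Q ⟶ C} {b : C ⟶ Q⟦(1 : ℤ)⟧} (hC : Triangle.mk (𝟙 Q - r.r ≫ r.i) a b ∈ distTriang (DCoh.D U)) :
    Nonempty (C ≅ F ⊞ F⟦(1 : ℤ)⟧) := by
  have hfa : (𝟙 Q - r.r ≫ r.i) ≫ a = 0 := comp_distTriang_mor_zero₁₂ _ hC
  have hab : a ≫ b = 0 := comp_distTriang_mor_zero₂₃ _ hC
  have hbf : b ≫ (𝟙 Q - r.r ≫ r.i)⟦(1 : ℤ)⟧' = 0 := comp_distTriang_mor_zero₃₁ _ hC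
  obtain ⟨p, hp⟩ : ∃ p : C ⟶ F, r.r = a ≫ p := Triangle.yoneda_exact₂ _ hC r.r (by
    show (𝟙 Q - r.r ≫ r.i) ≫ r.r = 0
    simp [Preadditive.sub_comp])
  obtain ⟨q₀, hq₀⟩ : ∃ q : F⟦(1 : ℤ)⟧ ⟶ C, r.i⟦(1 : ℤ)⟧' = q ≫ b :=
    Triangle.coyoneda_exact₂ _ (rot_of_distTriang _ (rot_of_distTriang _ hC)) (r.i⟦(1 : ℤ)⟧') (by
      show r.i⟦(1 : ℤ)⟧' ≫ (-((𝟙 Q - r.r ≫ r.i)⟦(1 : ℤ)⟧')) = 0
      rw [Preadditive.comp_neg, ← Functor.map_comp]
      simp [Preadditive.comp_sub])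
  let q := q₀ - (q₀ ≫ p) ≫ r.i ≫ a
  have hqb : q ≫ b = r.i⟦(1 : ℤ)⟧' := by simp [q, Preadditive.sub_comp, hq₀, hab]
  have hqp : q ≫ p = 0 := by simp [q, Preadditive.sub_comp, ← hp]
  let Φ : F ⊞ F⟦(1 : ℤ)⟧ ⟶ C := biprod.desc (r.i ≫ a) q
  let Ψ : C ⟶ F ⊞ F⟦(1 : ℤ)⟧ := biprod.lift p (b ≫ r.r⟦(1 : ℤ)⟧')
  have hΦΨ : Φ ≫ Ψ = 𝟙 _ := by
    refine biprod.hom_ext' _ _ ?_ ?_ <;> refine biprod.hom_ext _ _ ?_ ?_ <;>
      simp [Φ, Ψ, hqp, ← hp, reassoc_of% hab, reassoc_of% hqb, ← Functor.map_comp]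
  have hea : r.r ≫ r.i ≫ a = a := by
    rw [Preadditive.sub_comp, Category.id_comp, Category.assoc, sub_eq_zero] at hfa
    exact hfa.symm
  refine ⟨⟨Ψ, Φ, ?_, hΦΨ⟩⟩
  let d := 𝟙 C - Ψ ≫ Φ
  have had : a ≫ d = 0 := by
    simp [d, Ψ, Φ, Preadditive.comp_sub, biprod.lift_desc, Preadditive.comp_add, ← reassoc_of% hp,
      reassoc_of% hab, hea]
  have hdb : d ≫ b = 0 := by
    have h1 : b ≫ r.r⟦(1 : ℤ)⟧' ≫ r.i⟦(1 : ℤ)⟧' = b := by
      rw [Functor.map_sub, CategoryTheory.Functor.map_id, Preadditive.comp_sub, Category.comp_id, Functor.map_comp,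
        sub_eq_zero] at hbf
      exact hbf.symm
    simp [d, Ψ, Φ, Preadditive.sub_comp, biprod.lift_desc, Preadditive.add_comp, hqb, hab, h1]
  obtain ⟨h, hh⟩ : ∃ h, d = b ≫ h := Triangle.yoneda_exact₃ _ hC d had
  have hdd : d ≫ d = d := by
    simp [d, Preadditive.sub_comp, Preadditive.comp_sub, reassoc_of% hΦΨ]
  have hd0 : d = 0 := by
    rw [← hdd]
    nth_rewrite 2 [hh]
    rw [← Category.assoc, hdb, zero_comp]
  exact (sub_eq_zero.1 hd0).symm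

/-- **extension of perfect objects from an open** -/
theorem exists_extend [QuasiSeparatedSpace U] (hgen : HasGen X) (j : U ⟶ X) [IsOpenImmersion j] {T : Set X}
    (hT : IsClosed T) (hTc : IsCompact Tᶜ) {F : DCoh.D U} (hF : PerfT (j.base ⁻¹' T) F)
    [HasBinaryBiproduct F (F⟦(1 : ℤ)⟧)] :
    ∃ G : DCoh.D X, PerfT T G ∧ Nonempty ((RD j).obj G ≅ F ⊞ F⟦(1 : ℤ)⟧) := by
  obtain ⟨G, hG, ⟨r⟩⟩ := retT_of_perfect hgen j hT hTc hF
  obtain ⟨G₃, b, c, hG₃, hd⟩ := exists_lift_cone hgen j hT hTc hG hG (𝟙 _ - r.r ≫ r.i)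
  exact ⟨G₃, hG₃, nonempty_cone_retract r hd⟩

end Groth.Agent.PerfGen
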