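import Groth.Agent.PerfGen.Glue
import Mathlib.CategoryTheory.Adjunction.Comma

/-!
The inclusion of a compactly generated localizing subcategory has a right adjoint.
-/

set_option autoImplicit false
set_option linter.unusedSectionVars false
set_option linter.style.haveILetI false

universe w v u

namespace Groth.Agent.PerfGen

open CategoryTheory Limits Pretriangulated ZeroObject ObjectProperty

variable {D : Type u} [Category.{v} D] [Preadditive D] [HasZeroObject D] [HasShift D ℤ]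
  [∀ n : ℤ, (shiftFunctor D n).Additive] [Pretriangulated D] [IsTriangulated D]
  [∀ κ : Type w, HasColimitsOfShape (Discrete κ) D] [LocallySmall.{w} D]

variable {P : ObjectProperty D} [P.IsClosedUnderIsomorphisms]

/-- all maps from shifts to `N` vanish -/
def Orth (N : D) : ObjectProperty D := fun C => ∀ (n : ℤ) (g : C⟦n⟧ ⟶ N), g = 0

instance closedIso_orth (N : D) : (Orth N).IsClosedUnderIsomorphisms :=
  ⟨fun e h n g => (cancel_epi ((shiftFunctor D n).map e.hom)).1 ((h n _).trans comp_zero.symm)⟩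

lemma localizing_orth (N : D) : Localizing.{w} (Orth N) where
  shift {X} h n m g :=
    (cancel_epi ((shiftFunctorAdd D n m).app X).hom).1 ((h (n + m) _).trans comp_zero.symm)
  obj₃ T hT h₁ h₂ n g := by
    have hT' := Triangle.shift_distinguished T hT n
    obtain ⟨d, rfl⟩ := Triangle.yoneda_exact₃ _ hT' g (h₂ n _)
    change (T.obj₁⟦n⟧)⟦(1 : ℤ)⟧ ⟶ N at d
    have : d = 0 :=
      (cancel_epi ((shiftFunctorAdd D n (1 : ℤ)).app T.obj₁).hom).1 ((h₁ _ _).trans comp_zero.symm)
    subst this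
    exact comp_zero
  coprod {κ} X _ h n g := by
    have : IsIso (sigmaComparison (shiftFunctor D n) X) := inferInstance
    rw [← cancel_epi (sigmaComparison (shiftFunctor D n) X), comp_zero]
    refine Sigma.hom_ext _ _ fun k => ?_
    rw [ι_comp_sigmaComparison_assoc, comp_zero]
    exact h k n _

/-- the colocalization along the shifts of `G` -/
theorem exists_coloc (hP : Localizing.{w} P) {G : D} (hG : Cpt.{w} P G) (X : D) :
    ∃ (X₀ : D) (r : X₀ ⟶ X), P X₀ ∧ (∀ m : ℤ, Function.Bijective fun t : G⟦m⟧ ⟶ X₀ => t ≫ r) ∧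
      ∀ (Q : ObjectProperty D) [Q.IsClosedUnderIsomorphisms], Localizing.{w} Q → Q G → Q X₀ := by
  classical
  obtain ⟨K, u, f, hK, h0, hstep, hcompat, hkill, hsurj⟩ := exists_cell_system hP hG.1 X
  let K' : ULift.{w} ℕ → D := fun m => K m.down
  let σ : ∐ K' ⟶ ∐ K' := Sigma.desc fun m => f m.down ≫ Sigma.ι K' ⟨m.down + 1⟩
  obtain ⟨Xω, q, δ, hT⟩ := distinguished_cocone_triangle (𝟙 _ - σ)
  let u' : (∐ K') ⟶ X := Sigma.desc fun m => u m.down
  obtain ⟨r, hr⟩ : ∃ r : Xω ⟶ X, u' = q ≫ r :=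
    Triangle.yoneda_exact₂ _ hT u' (by
      suffices h : (𝟙 (∐ K') - σ) ≫ u' = 0 from h
      refine Sigma.hom_ext _ _ fun m => ?_
      simp [σ, u', K', Preadditive.sub_comp, Preadditive.comp_sub, hcompat m.down])
  have hqr : ∀ n, Sigma.ι K' ⟨n⟩ ≫ q ≫ r = u n := fun n => by rw [← hr]; simp [u']
  have hιq : ∀ n, Sigma.ι K' ⟨n⟩ ≫ q = f n ≫ Sigma.ι K' ⟨n + 1⟩ ≫ q := fun n => by
    have h : (𝟙 _ - σ) ≫ q = 0 := comp_distTriang_mor_zero₁₂ _ hT
    have := congrArg (fun t => Sigma.ι K' ⟨n⟩ ≫ t) h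
    simpa [σ, K', Preadditive.sub_comp, Preadditive.comp_sub, sub_eq_zero] using this
  refine ⟨Xω, r, hP.obj₃ _ hT (hP.coprod _ fun m => hK _) (hP.coprod _ fun m => hK _),
    fun m => ⟨fun t t' h => ?_, fun t => ?_⟩, fun Q _ hQ hQG => ?_⟩
  · rw [← sub_eq_zero]
    have hz : (t - t') ≫ r = 0 := by rw [Preadditive.sub_comp, sub_eq_zero]; exact h
    generalize t - t' = v at hz ⊢
    obtain ⟨n, g, rfl⟩ := exists_stage hP (fun m => hK m.down) (fun n => f n) q δ hT (cpt_shift hP hG m) v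
    rw [Category.assoc, Category.assoc, hqr] at hz
    rw [hιq, reassoc_of% (hkill n m g hz), zero_comp]
  · obtain ⟨t', ht'⟩ := hsurj m t
    refine ⟨t' ≫ Sigma.ι K' ⟨0⟩ ≫ q, ?_⟩
    show (_ ≫ _ ≫ q) ≫ r = t
    rw [Category.assoc, Category.assoc, hqr, ht']
  · have hQK : ∀ n, Q (K n) := by
      intro n
      induction n with
      | zero =>
        obtain ⟨κ, m, ⟨e⟩⟩ := h0
        exact Q.prop_of_iso e.symm (hQ.coprod _ fun k => hQ.shift hQG _)
      | succ n ih =>
        obtain ⟨κ, m, y, z, hy⟩ := hstep n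
        exact hQ.obj₃ _ hy (hQ.coprod _ fun k => hQ.shift hQG _) ih
    exact hQ.obj₃ _ hT (hQ.coprod _ fun m => hQK _) (hQ.coprod _ fun m => hQK _)

lemma hom_eq_zero_of_bijective {G X₀ X N : D} {r : X₀ ⟶ X} {a : X ⟶ N} {b : N ⟶ X₀⟦(1 : ℤ)⟧}
    (hN : Triangle.mk r a b ∈ distTriang D) (hr : ∀ m : ℤ, Function.Bijective fun t : G⟦m⟧ ⟶ X₀ => t ≫ r) :
    Orth N G := by
  intro n g
  have hg : g ≫ b = 0 := by
    let e := shiftFunctorCompIsoId D (1 : ℤ) (-1) (by lia)
    let e' := (shiftFunctorAdd' D n (-1) (n - 1) (by lia)).app G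
    apply (shiftFunctor D (-1 : ℤ)).map_injective
    rw [Functor.map_zero, ← cancel_mono (e.hom.app X₀), zero_comp, ← cancel_epi e'.hom, comp_zero]
    refine (hr (n - 1)).1 ?_
    have h31 : b ≫ r⟦(1 : ℤ)⟧' = 0 := comp_distTriang_mor_zero₃₁ _ hN
    have hnat : (r⟦(1 : ℤ)⟧')⟦(-1 : ℤ)⟧' ≫ e.hom.app _ = e.hom.app _ ≫ r := e.hom.naturality _
    simp only [Category.assoc, zero_comp]
    rw [← hnat, ← Functor.map_comp_assoc, Category.assoc, h31]
    simp
  obtain ⟨t, ht⟩ := Triangle.coyoneda_exact₃ _ hN g hg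
  obtain ⟨t', rfl⟩ := (hr n).2 t
  rw [ht]
  change (t' ≫ r) ≫ a = 0
  have h12 : r ≫ a = 0 := comp_distTriang_mor_zero₁₂ _ hN
  rw [Category.assoc, h12, comp_zero]

/-- a generated subcategory lies in every localizing subcategory containing the generator -/
theorem le_of_gen (hP : Localizing.{w} P) {G : D} (hG : Cpt.{w} P G) (hgen : Gen P G)
    {Q : ObjectProperty D} [Q.IsClosedUnderIsomorphisms] (hQ : Localizing.{w} Q) (hQG : Q G) : P ≤ Q := by
  intro M hM
  obtain ⟨X₀, r, hX₀, hr, hclass⟩ := exists_coloc hP hG M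
  obtain ⟨N, a, b, hN⟩ := distinguished_cocone_triangle r
  have : IsIso r :=
    (Triangle.isZero₃_iff_isIso₁ _ hN).1 (hgen N (hP.obj₃ _ hN hX₀ hM) (hom_eq_zero_of_bijective hN hr))
  exact Q.prop_of_iso (asIso r) (hclass Q hQ hQG)

/-- **the inclusion of a compactly generated localizing subcategory has a right adjoint** -/
theorem isLeftAdjoint_ι (hP : Localizing.{w} P) {G : D} (hG : Cpt.{w} P G) (hgen : Gen P G) :
    P.ι.IsLeftAdjoint := by
  have key : ∀ A : D, HasTerminal (CostructuredArrow P.ι A) := fun A => by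
    obtain ⟨X₀, r, hX₀, hr, -⟩ := exists_coloc hP hG A
    obtain ⟨N, a, b, hN⟩ := distinguished_cocone_triangle r
    have hle : P ≤ Orth N := le_of_gen hP hG hgen (localizing_orth N) (hom_eq_zero_of_bijective hN hr)
    have hbij : ∀ M : D, P M → Function.Bijective fun t : M ⟶ X₀ => t ≫ r := by
      refine fun M hM => ⟨fun t t' h => ?_, fun t => ?_⟩
      · rw [← sub_eq_zero]
        have hz : (t - t') ≫ r = 0 := by rw [Preadditive.sub_comp, sub_eq_zero]; exact h
        obtain ⟨z, hz'⟩ := Triangle.coyoneda_exact₂ _ (inv_rot_of_distTriang _ hN) (t - t') hz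
        let i := shiftFunctorCompIsoId D (-1 : ℤ) 1 (by lia)
        change M ⟶ N⟦(-1 : ℤ)⟧ at z
        have : z = 0 := by
          apply (shiftFunctor D (1 : ℤ)).map_injective
          rw [Functor.map_zero]
          exact (cancel_mono (i.hom.app N)).1 ((hle M hM 1 _).trans zero_comp.symm)
        subst this
        exact hz'.trans zero_comp
      · have h0 : t ≫ a = 0 := by
          rw [← cancel_epi ((shiftFunctorZero D ℤ).hom.app M), comp_zero]
          exact hle M hM 0 _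
        obtain ⟨s, hs⟩ := Triangle.coyoneda_exact₂ _ hN t h0
        exact ⟨s, hs.symm⟩
    let T : CostructuredArrow P.ι A := CostructuredArrow.mk (Y := (⟨X₀, hX₀⟩ : P.FullSubcategory)) r
    haveI : ∀ Y : CostructuredArrow P.ι A, Nonempty (Y ⟶ T) := fun Y => by
      obtain ⟨s, hs⟩ := (hbij Y.left.obj Y.left.property).2 Y.hom
      exact ⟨CostructuredArrow.homMk (ObjectProperty.homMk s) hs⟩
    haveI : ∀ Y : CostructuredArrow P.ι A, Subsingleton (Y ⟶ T) := fun Y => ⟨fun s t => by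
      refine CostructuredArrow.hom_ext _ _ (ObjectProperty.hom_ext _ ?_)
      exact (hbij Y.left.obj Y.left.property).1 ((CostructuredArrow.w s).trans (CostructuredArrow.w t).symm)⟩
    exact IsTerminal.hasTerminal (IsTerminal.ofUniqueHom (fun Y => Classical.arbitrary _) fun Y m =>
      Subsingleton.elim _ _ : IsTerminal T)
  exact isLeftAdjoint_of_costructuredArrowTerminals _

section Scheme

open AlgebraicGeometry

attribute [local instance] HasDerivedCategory.standard

theorem exists_gen_qcohD (X : Scheme.{u}) [CompactSpace X] [QuasiSeparatedSpace X] :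
    ∃ G : DCoh.D X, Cpt.{u} (DCoh.IsQCohD (X := X)) G ∧ Gen (DCoh.IsQCohD (X := X)) G ∧ DCoh.IsPerfect G := by
  obtain ⟨G, hG, -, hgen⟩ := hasGen X Set.univ isClosed_univ (by rw [Set.compl_univ]; exact isCompact_empty)
  exact ⟨G, cpt_of_perfect hG, fun M hM h => hgen M ⟨hM, suppD_univ M⟩ h, hG⟩

theorem isLeftAdjoint_ι_qcohD (X : Scheme.{u}) [CompactSpace X] [QuasiSeparatedSpace X] :
    (DCoh.IsQCohD (X := X)).ι.IsLeftAdjoint :=
  let ⟨_, hG, hgen, _⟩ := exists_gen_qcohD X
  isLeftAdjoint_ι (localizing_qcohD X) hG hgen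

end Scheme

end Groth.Agent.PerfGen
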