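import Groth.Agent.PerfGen.Glue

/-!
Consequences: compact = perfect, extension of perfect objects with supports.
-/

set_option autoImplicit false
set_option backward.isDefEq.respectTransparency false
set_option backward.isDefEq.respectTransparency.types false
set_option linter.style.haveILetI false
set_option linter.unusedSectionVars false

universe u

open CategoryTheory Limits Pretriangulated AlgebraicGeometry ObjectProperty ZeroObject

attribute [local instance] HasDerivedCategory.standard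

namespace Groth.Agent.PerfGen

open Groth.Agent.DQCoh (RD rdIso)

variable {X : Scheme.{u}} [CompactSpace X] [QuasiSeparatedSpace X]

lemma isClosed_univ' : IsClosed (Set.univ : Set X) ∧ IsCompact (Set.univ : Set X)ᶜ :=
  ⟨isClosed_univ, by rw [Set.compl_univ]; exact isCompact_empty⟩

lemma eq_zero_of_isZero_tgt {E P : DCoh.D X} (h : IsZero E) (n : ℤ) (φ : P⟦n⟧ ⟶ E) : φ = 0 :=
  h.eq_of_tgt _ _

/-- compact objects of `D_QCoh,T` are perfect -/
theorem isPerfect_of_cpt {T : Set X} (hT : IsClosed T) (hTc : IsCompact Tᶜ) {K : DCoh.D X}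
    (hK : Cpt.{u} (PT T) K) : DCoh.IsPerfect K := by
  obtain ⟨G, hG, hGT, hgen⟩ := hasGen X T hT hTc
  exact (perfT_of_envelope hT hG hGT (envelope_of_gen (localizing_PT hT) (cpt_PT_of_perfect hG hGT) hgen hK)).1

theorem cpt_iff_bijective {P : ObjectProperty (DCoh.D X)} (K : DCoh.D X) (hK : P K) :
    Cpt.{u} P K ↔ PerfAux.IsCompactObjRel.{u} P K :=
  ⟨fun h ι Y _ hY => (bijective_homSum_iff K Y).2 (h.2 Y hY),
    fun h => ⟨hK, fun Y _ hY => (bijective_homSum_iff K Y).1 (h _ Y hY)⟩⟩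

/-- representing complexes of objects on `X` -/
lemma exists_rep (U : X.Opens) (G : DCoh.D X) :
    ∃ C : CochainComplex X.Modules ℤ, Nonempty (DCoh.toD X C ≅ G) ∧
      Nonempty (DerivedCategory.Q.obj ((DCoh.restrictCx U).obj C) ≅ (RD U.ι).obj G) :=
  ⟨(DerivedCategory.Q : _ ⥤ DCoh.D X).objPreimage G, ⟨DerivedCategory.Q.objObjPreimageIso G⟩,
    ⟨(rdIso U.ι _).symm ≪≫ (RD U.ι).mapIso (DerivedCategory.Q.objObjPreimageIso G)⟩⟩

/-- extension from an open, with a representing complex -/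
theorem exists_extend_cx (T : Set X) (hT : IsClosed T) (hTc : IsCompact Tᶜ) (U : X.Opens)
    (hU : IsCompact (U : Set X)) {F : DCoh.D (U : Scheme.{u})} (hF : DCoh.IsPerfect F)
    (hFT : SuppD (U.ι.base ⁻¹' T) F) [HasBinaryBiproduct F (F⟦(1 : ℤ)⟧)] :
    ∃ G : CochainComplex X.Modules ℤ, DCoh.IsPerfect (DCoh.toD X G) ∧ SuppD T (DCoh.toD X G) ∧
      Nonempty (DerivedCategory.Q.obj ((DCoh.restrictCx U).obj G) ≅ F ⊞ F⟦(1 : ℤ)⟧) := by
  haveI : CompactSpace (U : Scheme.{u}) := isCompact_iff_compactSpace.1 hU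
  haveI : QuasiSeparatedSpace (U : Scheme.{u}) := quasiSeparatedSpace_of_quasiSeparated U.ι
  obtain ⟨G, hG, ⟨e⟩⟩ := exists_extend (hasGen X) U.ι hT hTc ⟨hF, hFT⟩
  obtain ⟨C, ⟨a⟩, ⟨b⟩⟩ := exists_rep U G
  exact ⟨C, DQCoh.perfect_of_iso a.symm hG.1, suppD_of_iso a.symm hG.2, ⟨b ≪≫ e⟩⟩

end Groth.Agent.PerfGen
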