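import Groth.Agent.PerfGen.Bounds
import Groth.Prelude.Def_Wider

/-!
The Koszul object of an affine scheme and objects supported on its zero locus.
-/

set_option autoImplicit false
set_option backward.isDefEq.respectTransparency false
set_option backward.isDefEq.respectTransparency.types false
set_option linter.style.haveILetI false
set_option linter.unusedSectionVars false

universe u

open CategoryTheory Limits Pretriangulated AlgebraicGeometry

attribute [local instance] HasDerivedCategory.standard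

namespace Groth.Agent.PerfGen

open DerivedCategory.TStructure
open Groth.Agent.DQCoh (RD)

section Trunc

variable {C : Type*} [Category* C] [Abelian C] [HasDerivedCategory C] {E F : DerivedCategory C}

local notation "Hd" => DerivedCategory.homologyFunctor C

lemma isIso_H_truncLTι (E : DerivedCategory C) (a i : ℤ) (hi : i < a) :
    IsIso ((Hd i).map ((t.truncLTι a).app E)) := by
  have hT := t.triangleLTGE_distinguished a E
  have h1 : ∀ j : ℤ, j < a → IsZero ((Hd j).obj ((t.truncGE a).obj E)) := fun j hj => by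
    haveI := HDU.isGE_truncGE E a
    exact DerivedCategory.isZero_of_isGE _ a j hj
  have : Epi ((Hd i).map ((t.truncLTι a).app E)) :=
    (DerivedCategory.HomologySequence.exact₂ _ hT i).epi_f ((h1 i hi).eq_of_tgt _ _)
  have : Mono ((Hd i).map ((t.truncLTι a).app E)) :=
    (DerivedCategory.HomologySequence.exact₁ _ hT (i - 1) i (by omega)).mono_g
      ((h1 (i - 1) (by omega)).eq_of_src _ _)
  exact isIso_of_mono_of_epi _

theorem isIso_truncGE_map_iff (f : E ⟶ F) (a : ℤ) :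
    IsIso ((t.truncGE a).map f) ↔ ∀ i, a ≤ i → IsIso ((Hd i).map f) := by
  have hnat : ∀ i, (Hd i).map f ≫ (Hd i).map ((t.truncGEπ a).app F) =
      (Hd i).map ((t.truncGEπ a).app E) ≫ (Hd i).map ((t.truncGE a).map f) := fun i => by
    rw [← Functor.map_comp, ← Functor.map_comp]
    exact congrArg (Hd i).map ((t.truncGEπ a).naturality f)
  constructor
  · intro h i hi
    haveI := HDU.isIso_H_truncGEπ E a i hi
    haveI := HDU.isIso_H_truncGEπ F a i hi
    exact IsIso.of_isIso_fac_right (hnat i)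
  · intro h
    rw [DerivedCategory.isIso_iff]
    intro i
    rcases lt_or_ge i a with hi | hi
    · haveI := HDU.isGE_truncGE E a
      haveI := HDU.isGE_truncGE F a
      exact (DerivedCategory.isZero_of_isGE _ a i hi).isIso (DerivedCategory.isZero_of_isGE _ a i hi) _
    · haveI := HDU.isIso_H_truncGEπ E a i hi
      haveI := HDU.isIso_H_truncGEπ F a i hi
      haveI := h i hi
      exact IsIso.of_isIso_fac_left (hnat i).symm

theorem isIso_truncLT_map_iff (f : E ⟶ F) (a : ℤ) :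
    IsIso ((t.truncLT a).map f) ↔ ∀ i, i < a → IsIso ((Hd i).map f) := by
  have hnat : ∀ i, (Hd i).map ((t.truncLT a).map f) ≫ (Hd i).map ((t.truncLTι a).app F) =
      (Hd i).map ((t.truncLTι a).app E) ≫ (Hd i).map f := fun i => by
    rw [← Functor.map_comp, ← Functor.map_comp]
    exact congrArg (Hd i).map ((t.truncLTι a).naturality f)
  constructor
  · intro h i hi
    haveI := isIso_H_truncLTι E a i hi
    haveI := isIso_H_truncLTι F a i hi
    exact IsIso.of_isIso_fac_left (hnat i).symm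
  · intro h
    rw [DerivedCategory.isIso_iff]
    intro i
    rcases lt_or_ge i a with hi | hi
    · haveI := isIso_H_truncLTι E a i hi
      haveI := isIso_H_truncLTι F a i hi
      haveI := h i hi
      exact IsIso.of_isIso_fac_right (hnat i)
    · have hle : ∀ G : DerivedCategory C, IsZero ((Hd i).obj ((t.truncLT a).obj G)) := fun G => by
        haveI : ((t.truncLT a).obj G).IsLE (a - 1) := inferInstanceAs (t.IsLE ((t.truncLT a).obj G) (a - 1))
        exact DerivedCategory.isZero_of_isLE _ (a - 1) i (by omega)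
      exact (hle E).isIso (hle F) _

end Trunc

variable {A : Type u} [CommRing A]

/-- the ring-level window of the Koszul object -/
theorem kD_hom_eq_zero (l : List A) : ∀ (M : Dual.D A) (n : ℤ),
    (∀ k : ℤ, n - l.length ≤ k → k ≤ n → IsZero ((DerivedCategory.homologyFunctor (ModuleCat.{u} A) k).obj M)) →
    ∀ α : (kD l)⟦-n⟧ ⟶ M, α = 0 := by
  induction l with
  | nil =>
    intro M n h α
    haveI : Projective (ModuleCat.of A A) := (IsProjective.iff_projective _).1 inferInstance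
    apply (shiftFunctor (Dual.D A) n).map_injective
    rw [Functor.map_zero, ← cancel_epi (((shiftFunctorCompIsoId (Dual.D A) (-n) n (by lia)).app (kD [])).inv),
      ← cancel_epi kNil.inv]
    refine ((DRingKP.ev0_bijective (P := ModuleCat.of A A) (M⟦n⟧)).1 (a₂ := 0) ?_).trans (by simp only [comp_zero])
    exact ((h n (by simp) le_rfl).of_iso (hShift M n)).eq_of_tgt _ _
  | cons f l ih =>
    intro M n h α
    obtain ⟨b, c, hT⟩ := exists_kTri f l
    have hlen : ((f :: l).length : ℤ) = l.length + 1 := by simp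
    obtain ⟨γ, hγ⟩ := Triangle.yoneda_exact₂ _ (Triangle.shift_distinguished _ (rot_of_distTriang _ hT) (-n)) α
      (ih M n (fun k h1 h2 => h k (by omega) h2) _)
    have hγ0 : γ = 0 := by
      change ((kD l)⟦(1 : ℤ)⟧)⟦-n⟧ ⟶ M at γ
      rw [← cancel_epi ((shiftFunctorAdd' (Dual.D A) (1 : ℤ) (-n) (-(n - 1)) (by lia)).app (kD l)).hom, comp_zero]
      exact ih M (n - 1) (fun k h1 h2 => h k (by omega) (by omega)) _
    rw [hγ, hγ0, comp_zero]

variable [PreservesFiniteLimits (tilde.functor (CommRingCat.of A))]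

/-- the Koszul object on the scheme -/
noncomputable abbrev kS (fs : List A) : DCoh.D (Spec (CommRingCat.of A)) :=
  (DCoh.tildeD (CommRingCat.of A)).obj (kD fs)

lemma isPerfect_kS (fs : List A) : DCoh.IsPerfect (kS fs) :=
  (DQCoh.perfect_tilde_iff _).2 (isPerfect_kD _)

lemma isQCohD_kS (fs : List A) : DCoh.IsQCohD (kS fs) := isQCohD_of_isPerfect (isPerfect_kS fs)

lemma suppD_zeroLocus_iff (fs : List A) (M : Dual.D A) :
    SuppD (X := Spec (CommRingCat.of A)) (PrimeSpectrum.zeroLocus {a | a ∈ fs})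
      ((DCoh.tildeD (CommRingCat.of A)).obj M) ↔ ∀ f ∈ fs, IsTors f M := by
  constructor
  · intro h f hf
    refine (suppD_tildeD_iff M f).1 (suppD_mono ?_ h)
    exact PrimeSpectrum.zeroLocus_anti_mono (Set.singleton_subset_iff.2 hf)
  · intro h i x hx f hf
    exact Set.singleton_subset_iff.1 ((suppD_tildeD_iff M f).2 (h f hf) i hx)

lemma suppD_kS (fs : List A) : SuppD (X := Spec (CommRingCat.of A)) (PrimeSpectrum.zeroLocus {a | a ∈ fs}) (kS fs) :=
  (suppD_zeroLocus_iff fs _).2 fun f hf => by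
    obtain ⟨N, hN⟩ := exists_pow_smul_kD _ f hf
    exact isTors_of_smul_id hN

/-- detection -/
theorem kS_detects (fs : List A) (E : DCoh.D (Spec (CommRingCat.of A))) (hE : DCoh.IsQCohD E)
    (hET : SuppD (X := Spec (CommRingCat.of A)) (PrimeSpectrum.zeroLocus {a | a ∈ fs}) E) (i : ℤ)
    (h : ∀ g : (kS fs)⟦-i⟧ ⟶ E, g = 0) : IsZero (DCoh.HD E i) := by
  obtain ⟨hfull, hfaith, hess⟩ := DQCoh.tildeD_affine (R := CommRingCat.of A)
  haveI := hfull
  haveI := hfaith
  obtain ⟨M, ⟨e⟩⟩ := (hess E).1 hE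
  have h0 := isZero_H_of_kD fs M ((suppD_zeroLocus_iff fs M).1 (suppD_of_iso e.symm hET)) (-i) fun α =>
    (DCoh.tildeD (CommRingCat.of A)).map_injective (by
      have h1 := h (((DCoh.tildeD (CommRingCat.of A)).commShiftIso (-i)).inv.app (kD fs) ≫
        (DCoh.tildeD (CommRingCat.of A)).map α ≫ e.hom)
      rw [← cancel_epi (((DCoh.tildeD (CommRingCat.of A)).commShiftIso (-i)).inv.app (kD fs)),
        ← cancel_mono e.hom, Category.assoc, h1]
      simp)
  rw [neg_neg] at h0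
  exact ((tilde.functor (CommRingCat.of A)).map_isZero h0).of_iso
    ((DerivedCategory.homologyFunctor _ i).mapIso e.symm ≪≫ DQCoh.hdTildeIso (R := CommRingCat.of A) M i)

/-- window -/
theorem kS_hom_eq_zero (fs : List A) (E : DCoh.D (Spec (CommRingCat.of A))) (hE : DCoh.IsQCohD E) (n : ℤ)
    (h : Vac E (n - fs.length) n) (g : (kS fs)⟦-n⟧ ⟶ E) : g = 0 := by
  obtain ⟨hfull, hfaith, hess⟩ := DQCoh.tildeD_affine (R := CommRingCat.of A)
  haveI := hfull
  haveI := hfaith
  obtain ⟨M, ⟨e⟩⟩ := (hess E).1 hE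
  obtain ⟨α, hα⟩ := (DCoh.tildeD (CommRingCat.of A)).map_surjective
    (((DCoh.tildeD (CommRingCat.of A)).commShiftIso (-n)).hom.app (kD fs) ≫ g ≫ e.inv)
  have h0 : α = 0 := kD_hom_eq_zero fs M n (fun k h1 h2 => DQCoh.isZero_of_tilde
    ((h k h1 h2).of_iso ((DQCoh.hdTildeIso (R := CommRingCat.of A) M k).symm ≪≫
      (DerivedCategory.homologyFunctor _ k).mapIso e))) α
  rw [h0, Functor.map_zero] at hα
  rw [← cancel_mono e.inv, ← cancel_epi (((DCoh.tildeD (CommRingCat.of A)).commShiftIso (-n)).hom.app (kD fs)), ← hα]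
  simp

section Punctured

variable (fs : List A)

/-- the punctured open -/
noncomputable abbrev pU : (Spec (CommRingCat.of A)).Opens :=
  LocCoh.puncturedOpen A (Ideal.span {a | a ∈ fs})

lemma range_pU : (Set.range (pU fs).ι.base)ᶜ =
    (PrimeSpectrum.zeroLocus {a | a ∈ fs} : Set (Spec (CommRingCat.of A))) := by
  rw [Scheme.Opens.range_ι]
  show ((PrimeSpectrum.zeroLocus (R := A) (Ideal.span {a | a ∈ fs} : Ideal A))ᶜ)ᶜ = _
  rw [compl_compl, PrimeSpectrum.zeroLocus_span]

lemma isZero_RD_kS_shift (n : ℤ) : IsZero ((RD (pU fs).ι).obj ((kS fs)⟦n⟧)) := by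
  refine IsZero.of_iso ((shiftFunctor _ n).map_isZero ((isZero_RD_iff (pU fs).ι (kS fs)).2 ?_))
    (((RD (pU fs).ι).commShiftIso n).app (kS fs))
  rw [range_pU]
  exact suppD_kS fs

lemma quasiCompact_pU : QuasiCompact (pU fs).ι := by
  haveI : CompactSpace (pU fs : Scheme.{u}) := by
    refine isCompact_iff_compactSpace.1 ?_
    refine (PrimeSpectrum.isCompact_isOpen_iff.2 ?_).1
    classical
    refine ⟨fs.toFinset, ?_⟩
    show _ = (PrimeSpectrum.zeroLocus (R := A) (Ideal.span {a | a ∈ fs} : Ideal A))ᶜ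
    rw [PrimeSpectrum.zeroLocus_span]
    simp [List.coe_toFinset]
  exact quasiCompact_of_compactSpace _

lemma suppD_of_isZero_pU {C : DCoh.D (Spec (CommRingCat.of A))} (h : IsZero ((RD (pU fs).ι).obj C)) :
    SuppD (X := Spec (CommRingCat.of A)) (PrimeSpectrum.zeroLocus {a | a ∈ fs}) C := by
  rw [← range_pU fs]
  exact (isZero_RD_iff _ C).1 h

variable [DCoh.HasRpush (pU fs).ι]

lemma kS_hom_rpush (n : ℤ) (M : DCoh.D (pU fs : Scheme.{u})) (g : (kS fs)⟦n⟧ ⟶ (DCoh.Rpush (pU fs).ι).obj M) :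
    g = 0 :=
  hom_rpush_eq_zero (pU fs).ι (isZero_RD_kS_shift fs n) g

variable (E : DCoh.D (Spec (CommRingCat.of A))) (hE : DCoh.IsQCohD E)

lemma unit_invariant (adj : DCoh.restrictD (pU fs).ι ⊣ DCoh.Rpush (pU fs).ι) :
    ∃ φ : (DCoh.Rpush (pU fs).ι).obj ((RD (pU fs).ι).obj E) ⟶ (DCoh.Rpush (pU fs).ι).obj ((RD (pU fs).ι).obj E),
      IsIso φ ∧ (adjR (pU fs).ι).unit.app E ≫ φ = adj.unit.app E :=
  ⟨(DCoh.Rpush (pU fs).ι).map (((adjR (pU fs).ι).leftAdjointUniq adj).hom.app E), inferInstance,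
    Adjunction.unit_leftAdjointUniq_hom_app (adjR (pU fs).ι) adj E⟩

include hE in
/-- the fibre of the unit: cohomology vanishes where the maps from the Koszul object vanish -/
theorem vanish_fibre {C : DCoh.D (Spec (CommRingCat.of A))} (c : C ⟶ E)
    (δ : (DCoh.Rpush (pU fs).ι).obj ((RD (pU fs).ι).obj E) ⟶ C⟦(1 : ℤ)⟧)
    (hC : Triangle.mk c ((adjR (pU fs).ι).unit.app E) δ ∈ distTriang (DCoh.D (Spec (CommRingCat.of A))))
    (i : ℤ) (h : ∀ g : (kS fs)⟦-i⟧ ⟶ E, g = 0) : IsZero (DCoh.HD C i) := by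
  haveI := quasiCompact_pU fs
  refine kS_detects fs C (isQCohD_obj₁ _ hC hE (DQPush.isQCohD_rpush _ (isQCohD_RD _ hE)))
    (suppD_of_isZero_pU fs ((Triangle.isZero₁_iff_isIso₂ _ ((RD (pU fs).ι).map_distinguished _ hC)).2
      (isIso_map_unit_adjR (pU fs).ι E))) i fun g => ?_
  obtain ⟨q, hq⟩ := Triangle.coyoneda_exact₂ _ (inv_rot_of_distTriang _ hC) g (h (g ≫ c))
  have hq0 : q = 0 := by
    apply (shiftFunctor (DCoh.D _) (1 : ℤ)).map_injective
    rw [Functor.map_zero, ← cancel_mono ((shiftFunctorCompIsoId (DCoh.D _) (-1 : ℤ) 1 (by lia)).hom.app _),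
      zero_comp, ← cancel_epi ((shiftFunctorAdd' (DCoh.D _) (-i) (1 : ℤ) (-i + 1) rfl).app (kS fs)).hom, comp_zero]
    exact kS_hom_rpush fs _ _ _
  rw [hq, hq0]
  exact zero_comp

include hE in
/-- low degrees -/
theorem unit_truncLE (a : ℤ) :
    ((∀ n : ℤ, n ≤ a → ∀ φ : (kS fs)⟦-n⟧ ⟶ E, φ = 0) →
      IsIso ((t.truncLE (a - 1)).map ((adjR (pU fs).ι).unit.app E))) ∧
    (IsIso ((t.truncLE (a - 1)).map ((adjR (pU fs).ι).unit.app E)) →
      ∀ n : ℤ, n ≤ a - 1 → ∀ φ : (kS fs)⟦-n⟧ ⟶ E, φ = 0) := by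
  constructor
  · intro h
    obtain ⟨C, c, δ, hC⟩ := distinguished_cocone_triangle₁ ((adjR (pU fs).ι).unit.app E)
    have hz : ∀ i, i ≤ a → IsZero (DCoh.HD C i) := fun i hi => vanish_fibre fs E hE c δ hC i (h i hi)
    refine (isIso_truncLT_map_iff _ (a - 1 + 1)).2 fun i hi => ?_
    haveI : Mono ((DerivedCategory.homologyFunctor _ i).map ((adjR (pU fs).ι).unit.app E)) :=
      (DerivedCategory.HomologySequence.exact₂ _ hC i).mono_g ((hz i (by omega)).eq_of_src _ _)
    haveI : Epi ((DerivedCategory.homologyFunctor _ i).map ((adjR (pU fs).ι).unit.app E)) :=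
      (DerivedCategory.HomologySequence.exact₃ _ hC i (i + 1) rfl).epi_f
      ((hz (i + 1) (by omega)).eq_of_tgt _ _)
    exact isIso_of_mono_of_epi _
  · intro hiso n hn φ
    haveI : IsIso ((t.truncLT (a - 1 + 1)).map ((adjR (pU fs).ι).unit.app E)) := hiso
    set R := (DCoh.Rpush (pU fs).ι).obj ((RD (pU fs).ι).obj E)
    haveI := quasiCompact_pU fs
    have hR : DCoh.IsQCohD R := DQPush.isQCohD_rpush _ (isQCohD_RD _ hE)
    have hvac : ∀ L : DCoh.D (Spec (CommRingCat.of A)), L.IsGE (a - 1 + 1) → Vac L (n - fs.length) n := fun L hL k _ hk => by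
      haveI := hL
      exact DerivedCategory.isZero_of_isGE L (a - 1 + 1) k (by omega)
    obtain ⟨s, hs⟩ : ∃ s : (kS fs)⟦-n⟧ ⟶ (t.truncLT (a - 1 + 1)).obj E, φ = s ≫ (t.truncLTι (a - 1 + 1)).app E :=
      Triangle.coyoneda_exact₂ _ (t.triangleLTGE_distinguished (a - 1 + 1) E) φ
      (kS_hom_eq_zero fs _ (isQCohD_truncGE hE _) n (hvac _ (HDU.isGE_truncGE E _)) _)
    have h0 : (s ≫ (t.truncLT (a - 1 + 1)).map ((adjR (pU fs).ι).unit.app E)) ≫ (t.truncLTι (a - 1 + 1)).app R = 0 := by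
      have hn' : (t.truncLT (a - 1 + 1)).map ((adjR (pU fs).ι).unit.app E) ≫ (t.truncLTι (a - 1 + 1)).app R =
          (t.truncLTι (a - 1 + 1)).app E ≫ (adjR (pU fs).ι).unit.app E := (t.truncLTι (a - 1 + 1)).naturality _
      rw [Category.assoc, hn', ← Category.assoc, ← hs]
      exact kS_hom_rpush fs _ _ _
    obtain ⟨q, hq⟩ := Triangle.coyoneda_exact₂ _
      (inv_rot_of_distTriang _ (t.triangleLTGE_distinguished (a - 1 + 1) R)) _ h0
    have hq0 : q = 0 := by
      haveI := HDU.isGE_truncGE R (a - 1 + 1)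
      refine kS_hom_eq_zero fs _ (isQCohD_shift (isQCohD_truncGE hR _) (-1)) n (fun k _ hk => ?_) q
      exact isZero_HD_shift (m := -1 + k) rfl (DerivedCategory.isZero_of_isGE _ (a - 1 + 1) _ (by omega))
    rw [hq0] at hq
    have hs0 : s = 0 := by
      rw [← cancel_mono ((t.truncLT (a - 1 + 1)).map ((adjR (pU fs).ι).unit.app E)), zero_comp]
      exact hq.trans zero_comp
    rw [hs, hs0, zero_comp]

include hE in
/-- high degrees -/
theorem unit_truncGE (a : ℤ) :
    ((∀ n : ℤ, a ≤ n → ∀ φ : (kS fs)⟦-n⟧ ⟶ E, φ = 0) →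
      IsIso ((t.truncGE a).map ((adjR (pU fs).ι).unit.app E))) ∧
    (IsIso ((t.truncGE a).map ((adjR (pU fs).ι).unit.app E)) →
      ∀ n : ℤ, a + (fs.length : ℤ) ≤ n → ∀ φ : (kS fs)⟦-n⟧ ⟶ E, φ = 0) := by
  constructor
  · intro h
    obtain ⟨C, c, δ, hC⟩ := distinguished_cocone_triangle₁ ((adjR (pU fs).ι).unit.app E)
    have hz : ∀ i, a ≤ i → IsZero (DCoh.HD C i) := fun i hi => vanish_fibre fs E hE c δ hC i (h i hi)
    refine (isIso_truncGE_map_iff _ a).2 fun i hi => ?_
    haveI : Mono ((DerivedCategory.homologyFunctor _ i).map ((adjR (pU fs).ι).unit.app E)) :=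
      (DerivedCategory.HomologySequence.exact₂ _ hC i).mono_g ((hz i hi).eq_of_src _ _)
    haveI : Epi ((DerivedCategory.homologyFunctor _ i).map ((adjR (pU fs).ι).unit.app E)) :=
      (DerivedCategory.HomologySequence.exact₃ _ hC i (i + 1) rfl).epi_f
      ((hz (i + 1) (by omega)).eq_of_tgt _ _)
    exact isIso_of_mono_of_epi _
  · intro hiso n hn φ
    haveI := hiso
    have h0 : φ ≫ (t.truncGEπ a).app E = 0 := by
      have hn' : (t.truncGEπ a).app E ≫ (t.truncGE a).map ((adjR (pU fs).ι).unit.app E) =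
          (adjR (pU fs).ι).unit.app E ≫ (t.truncGEπ a).app _ :=
        ((t.truncGEπ a).naturality ((adjR (pU fs).ι).unit.app E)).symm
      rw [← cancel_mono ((t.truncGE a).map ((adjR (pU fs).ι).unit.app E)), zero_comp, Category.assoc, hn']
      exact ((Category.assoc _ _ _).symm.trans
        (congrArg (· ≫ _) (kS_hom_rpush fs _ _ (φ ≫ (adjR (pU fs).ι).unit.app E)))).trans zero_comp
    obtain ⟨s, hs⟩ : ∃ s : (kS fs)⟦-n⟧ ⟶ (t.truncLT a).obj E, φ = s ≫ (t.truncLTι a).app E :=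
      Triangle.coyoneda_exact₂ _ (t.triangleLTGE_distinguished a E) φ h0
    have hs0 : s = 0 := kS_hom_eq_zero fs _ (isQCohD_truncLT hE a) n (fun k hk _ => by
      haveI : ((t.truncLT a).obj E).IsLE (a - 1) := inferInstanceAs (t.IsLE ((t.truncLT a).obj E) (a - 1))
      exact DerivedCategory.isZero_of_isLE _ (a - 1) k (by omega)) s
    rw [hs, hs0, zero_comp]

include hE in
/-- Koszul-orthogonal objects are direct images -/
theorem exists_rpush_iff :
    (∃ M : DCoh.D (pU fs : Scheme.{u}), DCoh.IsQCohD M ∧ Nonempty (E ≅ (DCoh.Rpush (pU fs).ι).obj M)) ↔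
      ∀ (n : ℤ) (φ : (kS fs)⟦n⟧ ⟶ E), φ = 0 := by
  constructor
  · rintro ⟨M, -, ⟨e⟩⟩ n φ
    rw [← cancel_mono e.hom, zero_comp]
    exact kS_hom_rpush fs n M _
  · intro h
    obtain ⟨C, c, δ, hC⟩ := distinguished_cocone_triangle₁ ((adjR (pU fs).ι).unit.app E)
    have hC0 : IsZero C := isZero_of_suppD_empty fun i =>
      (Devissage.support_of_isZero (vanish_fibre fs E hE c δ hC i (h (-i)))).le
    haveI : IsIso ((adjR (pU fs).ι).unit.app E) := (Triangle.isZero₁_iff_isIso₂ _ hC).1 hC0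
    exact ⟨(RD (pU fs).ι).obj E, isQCohD_RD _ hE, ⟨asIso ((adjR (pU fs).ι).unit.app E)⟩⟩

include hE in
/-- low degrees, for any choice of adjunction -/
theorem unit_truncLE' (adj : DCoh.restrictD (pU fs).ι ⊣ DCoh.Rpush (pU fs).ι) (a : ℤ) :
    ((∀ n : ℤ, n ≤ a → ∀ φ : (kS fs)⟦-n⟧ ⟶ E, φ = 0) → IsIso ((t.truncLE (a - 1)).map (adj.unit.app E))) ∧
    (IsIso ((t.truncLE (a - 1)).map (adj.unit.app E)) → ∀ n : ℤ, n ≤ a - 1 → ∀ φ : (kS fs)⟦-n⟧ ⟶ E, φ = 0) := by
  obtain ⟨φ, hφ, e⟩ := unit_invariant fs E adj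
  haveI := hφ
  haveI : IsIso ((t.truncLE (a - 1)).map φ) := inferInstance
  have he : (t.truncLE (a - 1)).map ((adjR (pU fs).ι).unit.app E) ≫ (t.truncLE (a - 1)).map φ =
      (t.truncLE (a - 1)).map (adj.unit.app E) :=
    ((t.truncLE (a - 1)).map_comp _ _).symm.trans (congrArg (t.truncLE (a - 1)).map e)
  refine ⟨fun h => ?_, fun h => (unit_truncLE fs E hE a).2 ?_⟩
  · haveI := (unit_truncLE fs E hE a).1 h
    rw [← he]
    exact IsIso.comp_isIso
  · haveI := h
    exact IsIso.of_isIso_fac_right he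

include hE in
/-- high degrees, for any choice of adjunction -/
theorem unit_truncGE' (adj : DCoh.restrictD (pU fs).ι ⊣ DCoh.Rpush (pU fs).ι) (a : ℤ) :
    ((∀ n : ℤ, a ≤ n → ∀ φ : (kS fs)⟦-n⟧ ⟶ E, φ = 0) → IsIso ((t.truncGE a).map (adj.unit.app E))) ∧
    (IsIso ((t.truncGE a).map (adj.unit.app E)) →
      ∀ n : ℤ, a + (fs.length : ℤ) ≤ n → ∀ φ : (kS fs)⟦-n⟧ ⟶ E, φ = 0) := by
  obtain ⟨φ, hφ, e⟩ := unit_invariant fs E adj
  haveI := hφ
  haveI : IsIso ((t.truncGE a).map φ) := inferInstance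
  have he : (t.truncGE a).map ((adjR (pU fs).ι).unit.app E) ≫ (t.truncGE a).map φ =
      (t.truncGE a).map (adj.unit.app E) :=
    ((t.truncGE a).map_comp _ _).symm.trans (congrArg (t.truncGE a).map e)
  refine ⟨fun h => ?_, fun h => (unit_truncGE fs E hE a).2 ?_⟩
  · haveI := (unit_truncGE fs E hE a).1 h
    rw [← he]
    exact IsIso.comp_isIso
  · haveI := h
    exact IsIso.of_isIso_fac_right he

end Punctured

end Groth.Agent.PerfGen
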