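import Groth.Agent.PerfGen.ApproxRing
import Groth.Agent.PerfGen.KosWindow

/-!
Sections factor through Koszul objects of powers.
-/

set_option autoImplicit false
set_option backward.isDefEq.respectTransparency false
set_option backward.isDefEq.respectTransparency.types false
set_option linter.style.haveILetI false
set_option linter.unusedSectionVars false

universe u

open CategoryTheory Limits Pretriangulated AlgebraicGeometry HomologicalComplex

attribute [local instance] HasDerivedCategory.standard

namespace Groth.Agent.PerfGen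

variable {A : Type u} [CommRing A] [PreservesFiniteLimits (tilde.functor (CommRingCat.of A))]

/-- `A~` is the structure sheaf -/
noncomputable def oneIso : (DCoh.tildeD (CommRingCat.of A)).obj (oneD A) ≅
    DCoh.inD _ (Coh.structureModule (Spec (CommRingCat.of A))) :=
  (DCoh.tildeD (CommRingCat.of A)).mapIso ((DerivedCategory.singleFunctorIsoCompQ _ 0).app (ModuleCat.of A A)) ≪≫
    DQCoh.tildeToDIso _ ≪≫
    DerivedCategory.Q.mapIso
      ((singleMapHomologicalComplex (tilde.functor (CommRingCat.of A)) (ComplexShape.up ℤ) 0).app (ModuleCat.of A A)) ≪≫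
    ((DerivedCategory.singleFunctorIsoCompQ _ 0).app _).symm

/-- **sections factor through Koszul objects of powers** -/
theorem exists_factor_kS (fs : List A) (E : DCoh.D (Spec (CommRingCat.of A))) (hE : DCoh.IsQCohD E)
    (hU : ∀ i : ℤ, -(fs.length : ℤ) < i → i ≤ 0 → IsZero ((DCoh.HD E i).restrict (pU fs).ι))
    (s : DCoh.inD (Spec (CommRingCat.of A)) (Coh.structureModule (Spec (CommRingCat.of A))) ⟶ E) :
    ∃ (e : ℕ) (ψ : kS (fs.map (fun a => a ^ e)) ⟶ E)
      (t : DCoh.inD (Spec (CommRingCat.of A)) (Coh.structureModule (Spec (CommRingCat.of A))) ⟶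
        kS (fs.map (fun a => a ^ e))), t ≫ ψ = s := by
  obtain ⟨hfull, -, hess⟩ := DQCoh.tildeD_affine (R := CommRingCat.of A)
  haveI := hfull
  obtain ⟨M, ⟨eM⟩⟩ := (hess E).1 hE
  obtain ⟨α, hα⟩ := (DCoh.tildeD (CommRingCat.of A)).map_surjective (oneIso.hom ≫ s ≫ eM.inv)
  have htor : ∀ f ∈ fs, TorsIn f (-(fs.length : ℤ) + 1) 0 M := by
    intro f hf i hi hi' x
    refine (support_tilde_subset_iff (R := CommRingCat.of A) _ f).1 (fun y hy => ?_) x
    have h1 : y ∈ CohB1.support (DCoh.HD E i) := by
      rw [← support_eq_of_iso ((DerivedCategory.homologyFunctor _ i).mapIso eM),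
        support_eq_of_iso (DQCoh.hdTildeIso (R := CommRingCat.of A) M i)]
      exact hy
    have h2 : y ∈ (Set.range (pU fs).ι.base)ᶜ := by
      rintro ⟨z, rfl⟩
      have hz : z ∈ CohB1.support ((DCoh.HD E i).restrict (pU fs).ι) := by
        rw [support_restrict]; exact h1
      exact (mem_support_iff _ z).1 hz ((DerSch.stalkFunctor _ z).map_isZero (hU i (by omega) hi'))
    rw [range_pU] at h2
    exact h2 hf
  obtain ⟨e, ψ, hψ⟩ := exists_factor_kD fs M htor α
  refine ⟨e, (DCoh.tildeD (CommRingCat.of A)).map ψ ≫ eM.hom,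
    oneIso.inv ≫ (DCoh.tildeD (CommRingCat.of A)).map (kι (fs.map (fun a => a ^ e))), ?_⟩
  rw [Category.assoc, ← Functor.map_comp_assoc, hψ, hα]
  simp

end Groth.Agent.PerfGen
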