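import Groth.Agent.PerfGen.Coloc
import Groth.Agent.QC.Support
import Groth.Agent.Devissage.Filt
import Groth.Prelude.Def_KLin
import Mathlib.Algebra.Homology.DerivedCategory.Linear

/-!
Maps from perfect objects into objects supported on `V(a)` are killed by a power of `a`.
-/

set_option autoImplicit false
set_option backward.isDefEq.respectTransparency false
set_option backward.isDefEq.respectTransparency.types false
set_option linter.style.haveILetI false
set_option linter.unusedSectionVars false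

universe t v u

open CategoryTheory Limits Pretriangulated AlgebraicGeometry ObjectProperty ZeroObject

namespace Groth.Agent.PerfGen

section Killed

variable {A : Type t} [CommRing A] {D : Type u} [Category.{v} D] [Preadditive D] [Linear A D]
  [HasZeroObject D] [HasShift D ℤ] [∀ n : ℤ, (shiftFunctor D n).Additive] [Pretriangulated D]
  [∀ n : ℤ, (shiftFunctor D n).Linear A]

/-- killed by a power of `a` -/
def Killed (a : A) : ObjectProperty D := fun W => ∃ n : ℕ, (a ^ n) • 𝟙 W = 0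

instance retracts_killed (a : A) : (Killed (D := D) a).IsStableUnderRetracts :=
  ⟨fun r ⟨n, h⟩ => ⟨n, by
    have := congrArg (fun φ => r.i ≫ φ ≫ r.r) h
    simpa using this⟩⟩

instance shift_killed (a : A) : (Killed (D := D) a).IsStableUnderShift ℤ :=
  ⟨fun m => ⟨fun W ⟨n, h⟩ => ⟨n, by
    rw [← (shiftFunctor D m).map_id, ← Functor.map_smul, h, Functor.map_zero]⟩⟩⟩

lemma killed_ext₂ (a : A) (T : Triangle D) (hT : T ∈ distTriang D) (h₁ : Killed a T.obj₁) (h₃ : Killed a T.obj₃) :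
    Killed a T.obj₂ := by
  obtain ⟨n, hn⟩ := h₁
  obtain ⟨m, hm⟩ := h₃
  obtain ⟨g, hg⟩ := Triangle.coyoneda_exact₂ _ hT ((a ^ m) • 𝟙 T.obj₂) (by
    have : ((a ^ m) • 𝟙 T.obj₂) ≫ T.mor₂ = T.mor₂ ≫ ((a ^ m) • 𝟙 T.obj₃) := by simp
    rw [this, hm, comp_zero])
  have h2 : ((a ^ n) • 𝟙 T.obj₁) ≫ T.mor₁ = (a ^ n) • T.mor₁ := by simp
  refine ⟨n + m, ?_⟩
  rw [pow_add, mul_smul, hg, ← Linear.comp_smul, ← h2, hn, zero_comp, comp_zero]

instance triangulatedClosed₂_killed (a : A) : (Killed (D := D) a).IsTriangulatedClosed₂ :=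
  IsTriangulatedClosed₂.mk' fun T hT h₁ h₃ => killed_ext₂ a T hT h₁ h₃

instance containsZero_killed (a : A) : (Killed (D := D) a).ContainsZero :=
  ⟨⟨0, isZero_zero D, 0, (isZero_zero D).eq_of_src _ _⟩⟩

instance isTriangulated_killed (a : A) : (Killed (D := D) a).IsTriangulated := {}

lemma killed_cone (a : A) {G C : D} {g : G ⟶ C} {h : C ⟶ G⟦(1 : ℤ)⟧}
    (hT : Triangle.mk (a • 𝟙 G) g h ∈ distTriang D) : (a ^ 2) • 𝟙 C = 0 := by
  have h12 : (a • 𝟙 G) ≫ g = 0 := comp_distTriang_mor_zero₁₂ _ hT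
  have h31 : h ≫ (a • 𝟙 G)⟦(1 : ℤ)⟧' = 0 := comp_distTriang_mor_zero₃₁ _ hT
  obtain ⟨k, hk⟩ := Triangle.yoneda_exact₃ _ hT (a • 𝟙 C) (by
    show g ≫ (a • 𝟙 C) = 0
    simpa using h12)
  change a • 𝟙 C = h ≫ k at hk
  have h0 : a • h = 0 := by simpa using h31
  rw [pow_two, mul_smul, hk, ← Linear.smul_comp, h0, zero_comp]

end Killed

attribute [local instance] HasDerivedCategory.standard

variable {A : Type u} [CommRing A] {X : Scheme.{u}} [X.Over (Spec (CommRingCat.of A))]

/-- homology commutes with scalars -/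
lemma hd_map_smul (a : A) (E : DCoh.D X) (i : ℤ) :
    (DerivedCategory.homologyFunctor X.Modules i).map (a • 𝟙 E) = a • 𝟙 (DCoh.HD E i) := by
  obtain ⟨K, ⟨e⟩⟩ : ∃ K, Nonempty (DerivedCategory.Q.obj K ≅ E) :=
    ⟨(DerivedCategory.Q : _ ⥤ DCoh.D X).objPreimage E, ⟨DerivedCategory.Q.objObjPreimageIso E⟩⟩
  have hK : (DerivedCategory.homologyFunctor X.Modules i).map (DerivedCategory.Q.map (a • 𝟙 K)) =
      a • 𝟙 _ := by
    rw [← cancel_mono ((DerivedCategory.homologyFunctorFactors X.Modules i).hom.app K)]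
    have hnat := (DerivedCategory.homologyFunctorFactors X.Modules i).hom.naturality (a • 𝟙 K)
    refine hnat.trans ?_
    have hh : (HomologicalComplex.homologyFunctor X.Modules (ComplexShape.up ℤ) i).map (a • 𝟙 K) =
        a • 𝟙 _ := by
      refine (ShortComplex.homologyMap_smul
        ((HomologicalComplex.shortComplexFunctor X.Modules (ComplexShape.up ℤ) i).map (𝟙 K)) a).trans ?_
      simp only [CategoryTheory.Functor.map_id, ShortComplex.homologyMap_id]
      rfl
    rw [hh]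
    simp
  have he : a • 𝟙 E = e.inv ≫ DerivedCategory.Q.map (a • 𝟙 K) ≫ e.hom := by
    rw [Functor.map_smul, CategoryTheory.Functor.map_id]
    simp
  rw [he, Functor.map_comp, Functor.map_comp, hK]
  simp [← Functor.map_comp]

lemma mem_zeroLocus_iff (a : A) (x : X) :
    x ∈ (X.zeroLocus (U := ⊤) {Coh.toGlobal (X ↘ Spec (CommRingCat.of A)) a} : Set X) ↔
      x ∉ X.basicOpen (U := ⊤) (Coh.toGlobal (X ↘ Spec (CommRingCat.of A)) a) := by
  rw [Scheme.mem_zeroLocus_iff]
  exact ⟨fun h => h _ rfl, fun h f hf => by cases hf; exact h⟩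

lemma isUnit_toGlobal_basicOpen (a : A) {W : X.Opens}
    (hW : W ≤ X.basicOpen (U := ⊤) (Coh.toGlobal (X ↘ Spec (CommRingCat.of A)) a)) :
    IsUnit (QC.resO X (le_top : W ≤ ⊤) (Coh.toGlobal (X ↘ Spec (CommRingCat.of A)) a)) := by
  rw [← QC.resO_resO hW (X.basicOpen_le _)]
  exact (RingedSpace.isUnit_res_basicOpen _ _).map _

/-- modules killed by a power of `a` are supported on `V(a)` -/
lemma support_subset_of_pow_smul {M : X.Modules} (a : A) (n : ℕ) (h : (a ^ n) • 𝟙 M = 0) :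
    CohB1.support M ⊆ (X.zeroLocus (U := ⊤) {Coh.toGlobal (X ↘ Spec (CommRingCat.of A)) a} : Set X) := by
  intro x hx
  rw [mem_zeroLocus_iff]
  intro hxa
  revert hx
  refine (fun h => fun h' => h h') ((QC.notMem_support_iff x).2 fun U hxU s => ?_)
  refine ⟨U ⊓ X.basicOpen (U := ⊤) (Coh.toGlobal (X ↘ Spec (CommRingCat.of A)) a), inf_le_left, ⟨hxU, hxa⟩, ?_⟩
  have hs := congrArg (fun φ : M ⟶ M => φ.app U s) h
  simp only [KLin.smul_app_apply, Scheme.Modules.Hom.id_app] at hs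
  have hs' : QC.res M (inf_le_left : U ⊓ X.basicOpen (U := ⊤) (Coh.toGlobal (X ↘ Spec (CommRingCat.of A)) a) ≤ U)
      (QC.resO X (le_top : U ≤ ⊤) (Coh.toGlobal (X ↘ Spec (CommRingCat.of A)) (a ^ n)) • s) = 0 := by
    rw [show QC.resO X (le_top : U ≤ ⊤) (Coh.toGlobal (X ↘ Spec (CommRingCat.of A)) (a ^ n)) • s = 0 from hs,
      map_zero]
  rw [QC.res_smul, QC.resO_resO, map_pow, map_pow] at hs'
  exact ((isUnit_toGlobal_basicOpen a inf_le_right).pow n).smul_eq_zero.1 hs'

/-- a quasi-coherent module supported on `V(a)` on which `a` acts bijectively is zero -/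
lemma isZero_of_isIso_smul {N : X.Modules} (hN : Coh.IsQCoh N) (a : A) (hiso : IsIso (a • 𝟙 N))
    (hsupp : CohB1.support N ⊆ (X.zeroLocus (U := ⊤) {Coh.toGlobal (X ↘ Spec (CommRingCat.of A)) a} : Set X)) :
    IsZero N := by
  haveI : N.IsQuasicoherent := hN
  haveI := hiso
  refine Devissage.isZero_of_support (Set.eq_empty_of_forall_notMem fun x => ?_)
  obtain ⟨_, ⟨U : X.Opens, hU : IsAffineOpen U, rfl⟩, hxU, -⟩ :=
    X.isBasis_affineOpens.exists_subset_of_mem_open (Set.mem_univ x) isOpen_univ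
  rw [QC.notMem_support_iff_affine hU hxU]
  intro m
  refine ⟨1, by simpa using hxU, ?_⟩
  rw [one_smul]
  set f := QC.resO X (le_top : U ≤ ⊤) (Coh.toGlobal (X ↘ Spec (CommRingCat.of A)) a)
  have h0 : QC.res N (X.basicOpen_le f) m = 0 := by
    refine QC.section_eq_of_locally fun y hy => ?_
    have hy' : y ∈ X.basicOpen (U := ⊤) (Coh.toGlobal (X ↘ Spec (CommRingCat.of A)) a) := by
      have := hy
      rw [show X.basicOpen f = U ⊓ X.basicOpen (U := ⊤) (Coh.toGlobal (X ↘ Spec (CommRingCat.of A)) a) from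
        X.basicOpen_res _ (homOfLE (le_top : U ≤ ⊤)).op] at this
      exact this.2
    obtain ⟨W, hW, hyW, e⟩ := (QC.notMem_support_iff y).1 (fun h => (mem_zeroLocus_iff a y).1 (hsupp h) hy')
      (X.basicOpen f) hy (QC.res N (X.basicOpen_le f) m)
    exact ⟨W, hW, hyW, e.trans (map_zero _).symm⟩
  obtain ⟨n, hn⟩ := (QC.isLoc_of_isQCoh hU (M := N)).exists_pow_smul_eq_zero f m h0
  have hinj : Function.Injective fun s : Γ(N, U) => f • s := by
    intro s s' hs
    have happ : ∀ s : Γ(N, U), (a • 𝟙 N).app U s = f • s := fun s => KLin.smul_app_apply a (𝟙 N) U s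
    have h1 : (a • 𝟙 N).app U s = (a • 𝟙 N).app U s' := (happ s).trans (hs.trans (happ s').symm)
    have h2 := congrArg (fun t => (inv (a • 𝟙 N)).app U t) h1
    have h3 : ∀ s : Γ(N, U), (inv (a • 𝟙 N)).app U ((a • 𝟙 N).app U s) = s := fun s => by
      have := congrArg (fun φ : N ⟶ N => φ.app U s) (IsIso.hom_inv_id (a • 𝟙 N))
      simpa using this
    rwa [h3, h3] at h2
  clear h0
  induction n generalizing m with
  | zero => simpa using hn
  | succ n ih =>
    exact hinj (show f • m = f • (0 : Γ(N, U)) by rw [smul_zero]; exact ih _ (by rw [← mul_smul, ← pow_succ]; exact hn))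

section Main

variable [CompactSpace X] [QuasiSeparatedSpace X]

/-- **maps from a perfect object into an object supported on `V(a)` are killed by a power of `a`** -/
theorem exists_pow_smul_eq_zero (a : A) {E E' : DCoh.D X} (hE : DCoh.IsPerfect E) (hE' : DCoh.IsQCohD E')
    (hsupp : SuppD (X.zeroLocus (U := ⊤) {Coh.toGlobal (X ↘ Spec (CommRingCat.of A)) a} : Set X) E')
    (α : E ⟶ E') : ∃ n : ℕ, (a ^ n) • α = 0 := by
  let T : Set X := (X.zeroLocus (U := ⊤) {Coh.toGlobal (X ↘ Spec (CommRingCat.of A)) a} : Set X)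
  have hT : IsClosed T := X.zeroLocus_isClosed _
  obtain ⟨G, hG, hgen, hGp⟩ := exists_gen_qcohD X
  obtain ⟨C, g, h, hC⟩ := distinguished_cocone_triangle (a • 𝟙 G)
  have hC2 : (a ^ 2) • 𝟙 C = 0 := killed_cone a hC
  have hCp : DCoh.IsPerfect C := DQCoh.perfect_obj₃ _ hC hGp hGp
  have hCT : SuppD T C := fun i => support_subset_of_pow_smul a 2 (by
    have := congrArg (DerivedCategory.homologyFunctor X.Modules i).map hC2
    rwa [hd_map_smul, Functor.map_zero] at this)
  have hCgen : Gen (PT T) C := by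
    intro M hM hz
    have hz' : ∀ (k n : ℤ) (f : C⟦n⟧ ⟶ M⟦k⟧), f = 0 := by
      intro k n f
      apply (shiftFunctor (DCoh.D X) (-k)).map_injective
      rw [Functor.map_zero, ← cancel_epi ((shiftFunctorAdd (DCoh.D X) n (-k)).app C).hom,
        ← cancel_mono ((shiftFunctorCompIsoId (DCoh.D X) k (-k) (by lia)).hom.app M), comp_zero, zero_comp]
      exact hz _ _
    have hbij₀ : ∀ k : ℤ, Function.Bijective fun t : G ⟶ M⟦k⟧ => a • t := by
      intro k
      refine ⟨fun t t' htt' => ?_, fun t => ?_⟩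
      · obtain ⟨s, hs⟩ := Triangle.yoneda_exact₂ _ hC (t - t') (by
          show (a • 𝟙 G) ≫ (t - t') = 0
          simp [smul_sub, show a • t = a • t' from htt'])
        have : s = 0 := by
          rw [← cancel_epi ((shiftFunctorZero (DCoh.D X) ℤ).hom.app C), comp_zero]
          exact hz' k 0 _
        subst this
        exact sub_eq_zero.1 (hs.trans comp_zero)
      · obtain ⟨s, hs⟩ := Triangle.yoneda_exact₂ _ (inv_rot_of_distTriang _ hC) t (hz' k (-1) _)
        refine ⟨s, ?_⟩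
        change t = (a • 𝟙 G) ≫ s at hs
        rw [hs]
        simp
    have hbij : ∀ n : ℤ, Function.Bijective fun t : G⟦n⟧ ⟶ M => t ≫ (a • 𝟙 M) := by
      intro n
      let i := (shiftFunctorCompIsoId (DCoh.D X) n (-n) (by lia)).app G
      let φ : (G⟦n⟧ ⟶ M) → (G ⟶ M⟦-n⟧) := fun t => i.inv ≫ t⟦-n⟧'
      have hφ : Function.Bijective φ := by
        refine ⟨fun t t' h => (shiftFunctor (DCoh.D X) (-n)).map_injective ((cancel_epi i.inv).1 h), fun v => ?_⟩
        obtain ⟨t, ht⟩ := (shiftFunctor (DCoh.D X) (-n)).map_surjective (i.hom ≫ v)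
        exact ⟨t, by simp [φ, ht]⟩
      have hcomm : φ ∘ (fun t : G⟦n⟧ ⟶ M => t ≫ (a • 𝟙 M)) = (fun t => a • t) ∘ φ := by
        funext t
        simp [φ]
      exact (Function.Bijective.of_comp_iff' hφ _).1 (hcomm ▸ (hbij₀ (-n)).comp hφ)
    obtain ⟨N, g', h', hN⟩ := distinguished_cocone_triangle (a • 𝟙 M)
    haveI : IsIso (a • 𝟙 M) := (Triangle.isZero₃_iff_isIso₁ _ hN).1
      (hgen N (isQCohD_obj₃ _ hN hM.1 hM.1) (hom_eq_zero_of_bijective hN hbij))
    refine isZero_of_suppD_empty fun i => (Devissage.support_of_isZero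
      (isZero_of_isIso_smul (hM.1 i) a ?_ (hM.2 i))).le
    rw [← hd_map_smul]
    infer_instance
  obtain ⟨W, p, q, hW, rfl⟩ := exists_fac (localizing_PT hT) (localizing_qcohD X) (fun E h => h.1)
    ⟨isQCohD_of_isPerfect hCp, hCT⟩ (cpt_of_perfect hCp) hCgen ⟨hE', hsupp⟩ (cpt_of_perfect hE) α
  haveI : (only C).Nonempty := ⟨⟨C, rfl⟩⟩
  obtain ⟨n, hn⟩ : Killed a W :=
    (triangEnvelope_le_iff (P := only C)).2 (fun Z hZ => by cases hZ; exact ⟨2, hC2⟩) _ hW.1
  refine ⟨n, ?_⟩
  have : p ≫ ((a ^ n) • 𝟙 W) ≫ q = (a ^ n) • (p ≫ q) := by simp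
  rw [← this, hn, zero_comp, comp_zero]

end Main

end Groth.Agent.PerfGen
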