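import Groth.Agent.PerfGen.Coloc
import Groth.Agent.PerfHom.Basic
import Groth.Agent.Devissage.Filt

/-!
Perfect generators detect cohomology sheaves in windows of bounded width.
-/

set_option autoImplicit false
set_option backward.isDefEq.respectTransparency false
set_option backward.isDefEq.respectTransparency.types false
set_option linter.style.haveILetI false
set_option linter.unusedSectionVars false

universe u

open CategoryTheory Limits Pretriangulated AlgebraicGeometry ObjectProperty ZeroObject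

attribute [local instance] HasDerivedCategory.standard

namespace Groth.Agent.PerfGen

open Groth.Agent.DQCoh (RD rdIso rdCongr rdComp)

variable {U V X : Scheme.{u}}

/-- the cohomology sheaves vanish in `[a, b]` -/
def Vac (E : DCoh.D X) (a b : ℤ) : Prop := ∀ k : ℤ, a ≤ k → k ≤ b → IsZero (DCoh.HD E k)

/-- maps out of `G⟦-j⟧` vanish for `j ∈ [a, b]` -/
def HomVac (G E : DCoh.D X) (a b : ℤ) : Prop :=
  ∀ j : ℤ, a ≤ j → j ≤ b → ∀ g : G⟦-j⟧ ⟶ E, g = 0

lemma HomVac.mono {G E : DCoh.D X} {a b a' b' : ℤ} (h : HomVac G E a b) (ha : a ≤ a') (hb : b' ≤ b) :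
    HomVac G E a' b' := fun j h1 h2 => h j (ha.trans h1) (h2.trans hb)

/-- `G` detects cohomology sheaves of objects supported on `T` -/
def Det (T : Set X) (G : DCoh.D X) : Prop :=
  ∃ w : ℕ, ∀ M : DCoh.D X, PT T M → ∀ i : ℤ, HomVac G M (i - w) (i + w) → IsZero (DCoh.HD M i)

lemma isZero_HD_shift {E : DCoh.D X} {n k m : ℤ} (hm : n + k = m) (h : IsZero (DCoh.HD E m)) :
    IsZero (DCoh.HD (E⟦n⟧) k) :=
  h.of_iso (((DerivedCategory.homologyFunctor X.Modules 0).shiftIso n k m hm).app E)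

lemma isZero_HD_of_shift {E : DCoh.D X} {n k m : ℤ} (hm : n + k = m) (h : IsZero (DCoh.HD (E⟦n⟧) k)) :
    IsZero (DCoh.HD E m) :=
  h.of_iso (((DerivedCategory.homologyFunctor X.Modules 0).shiftIso n k m hm).app E).symm

lemma isZero_HD_mid (T : Triangle (DCoh.D X)) (hT : T ∈ distTriang (DCoh.D X)) (i : ℤ)
    (h₁ : IsZero (DCoh.HD T.obj₁ i)) (h₃ : IsZero (DCoh.HD T.obj₃ i)) : IsZero (DCoh.HD T.obj₂ i) :=
  (DerivedCategory.HomologySequence.exact₂ T hT i).isZero_of_both_zeros (h₁.eq_of_src _ _) (h₃.eq_of_tgt _ _)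

/-- maps out of a perfect object only see a window -/
theorem exists_homVac_of_vac [CompactSpace X] [QuasiSeparatedSpace X] {P : DCoh.D X} (hP : DCoh.IsPerfect P) :
    ∃ w : ℕ, ∀ L : DCoh.D X, DCoh.IsQCohD L → ∀ i : ℤ, Vac L (i - w) (i + w) → ∀ g : P⟦-i⟧ ⟶ L, g = 0 := by
  obtain ⟨K, ⟨e⟩⟩ : ∃ K, Nonempty (DerivedCategory.Q.obj K ≅ P) :=
    ⟨(DerivedCategory.Q : _ ⥤ DCoh.D X).objPreimage P, ⟨DerivedCategory.Q.objObjPreimageIso P⟩⟩
  have hK : DCoh.IsPerfect (DCoh.toD X K) := DQCoh.perfect_of_iso e.symm hP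
  obtain ⟨c, d, -, hloc⟩ := PerfHom.exists_locIn hK
  obtain ⟨N, hN⟩ := PerfHom.exists_window X
  refine ⟨N + c.natAbs + d.natAbs, fun L hL i hvac g => ?_⟩
  have h := hN c d K hloc hK (L⟦i⟧) (isQCohD_shift hL i)
    (fun k h1 h2 => isZero_HD_shift (m := i + k) rfl (hvac _ (by omega) (by omega)))
    (e.hom ≫ (shiftFunctorCompIsoId (DCoh.D X) (-i) i (by lia)).inv.app P ≫ g⟦i⟧')
  apply (shiftFunctor (DCoh.D X) i).map_injective
  rw [Functor.map_zero, ← cancel_epi ((shiftFunctorCompIsoId (DCoh.D X) (-i) i (by lia)).inv.app P),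
    ← cancel_epi e.hom]
  simpa using h

/-- direct images only see a window -/
theorem exists_rpush_vac (f : U ⟶ X) [QuasiCompact f] [QuasiSeparated f] [CompactSpace X] [DCoh.HasRpush f] :
    ∃ w : ℕ, ∀ E : DCoh.D U, DCoh.IsQCohD E → ∀ i : ℤ, Vac E (i - w) i →
      IsZero (DCoh.HD ((DCoh.Rpush f).obj E) i) := by
  obtain ⟨N, hN⟩ := DQPush.exists_trunc_bound f
  refine ⟨N, fun E₀ hE₀ i hvac₀ => ?_⟩
  haveI : SiteCmp.HasRpushD (ModSite.RMor.ofScheme f) := ‹DCoh.HasRpush f›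
  refine isZero_HD_of_shift (n := i) (k := 0) (add_zero i) (IsZero.of_iso ?_
    ((DerivedCategory.homologyFunctor X.Modules 0).mapIso ((RPushSite.shiftIso (ModSite.RMor.ofScheme f) i).app E₀).symm))
  let M := E₀⟦i⟧
  have hM : DCoh.IsQCohD M := isQCohD_shift hE₀ i
  have hz : ∀ k : ℤ, -(N : ℤ) ≤ k → k ≤ 0 → IsZero (DCoh.HD M k) := fun k h1 h2 =>
    isZero_HD_shift (m := i + k) rfl (hvac₀ _ (by omega) (by omega))
  let t := DerivedCategory.TStructure.t (C := U.Modules)
  let M' := (t.truncGE (-(N : ℤ))).obj M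
  haveI hge : M'.IsGE 1 := (DerivedCategory.isGE_iff _ _).2 fun k hk => by
    rcases lt_or_ge k (-(N : ℤ)) with hk' | hk'
    · haveI : M'.IsGE (-(N : ℤ)) := HDU.isGE_truncGE M _
      exact DerivedCategory.isZero_of_isGE M' (-(N : ℤ)) k hk'
    · haveI := HDU.isIso_H_truncGEπ M (-(N : ℤ)) k hk'
      exact (hz k hk' (by omega)).of_iso
        (asIso ((DerivedCategory.homologyFunctor U.Modules k).map ((t.truncGEπ (-(N : ℤ))).app M))).symm
  haveI := DQPush.isGE_rpush f M' 1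
  haveI := (hN M hM).2 N 0 (by omega)
  exact (DerivedCategory.isZero_of_isGE _ 1 0 (by omega)).of_iso
    (asIso ((DerivedCategory.homologyFunctor X.Modules 0).map ((DCoh.Rpush f).map
      ((t.truncGEπ (-(N : ℤ))).app M))))

section Affine

variable {A : Type u} [CommRing A]

/-- the Koszul object detects cohomology in a single degree -/
theorem isZero_H_of_kD (l : List A) : ∀ M : Dual.D A, (∀ f ∈ l, IsTors f M) → ∀ n : ℤ,
    (∀ α : (kD l)⟦n⟧ ⟶ M, α = 0) → IsZero ((DerivedCategory.homologyFunctor (ModuleCat.{u} A) (-n)).obj M) := by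
  induction l with
  | nil =>
    intro M _ n h
    haveI : Subsingleton ((DerivedCategory.homologyFunctor (ModuleCat.{u} A) (-n)).obj M) := by
      refine subsingleton_of_forall_eq 0 fun x => ?_
      obtain ⟨α, hα⟩ := exists_ev0 (M⟦-n⟧) ((hShift M (-n)).inv.hom x)
      have hα0 : α = 0 := by
        let e := shiftFunctorCompIsoId (Dual.D A) (-n) n (by lia)
        have := h (kNil.hom⟦n⟧' ≫ α⟦n⟧' ≫ e.hom.app M)
        rw [← Category.assoc, ← Functor.map_comp] at this
        apply (shiftFunctor (Dual.D A) n).map_injective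
        rw [Functor.map_zero, ← cancel_epi (kNil.hom⟦n⟧'), comp_zero, ← Functor.map_comp,
          ← cancel_mono (e.hom.app M), zero_comp]
        exact this
      apply (hShift M (-n)).symm.toLinearEquiv.injective
      change (hShift M (-n)).inv.hom x = (hShift M (-n)).inv.hom 0
      rw [map_zero, ← hα, hα0]
      simp [DRingKP.ev0]
    exact ModuleCat.isZero_of_subsingleton _
  | cons f l ih =>
    intro M hM n h
    refine ih M (fun g hg => hM g (List.mem_cons_of_mem _ hg)) n fun α => ?_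
    obtain ⟨b, c, hT⟩ := exists_kTri f l
    have hT' := Triangle.shift_distinguished _ hT n
    obtain ⟨N, hN⟩ := (torsHom_kD f l).shift n M (hM f (List.mem_cons_self ..)) α
    have step : ∀ β : (kD l)⟦n⟧ ⟶ M, f • β = 0 → β = 0 := fun β hβ => by
      obtain ⟨γ, hγ⟩ := Triangle.yoneda_exact₂ _ hT' β (by
        change ((n.negOnePow : ℤˣ) • (f • 𝟙 (kD l))⟦n⟧') ≫ β = 0
        rw [Functor.map_smul, CategoryTheory.Functor.map_id, Linear.units_smul_comp, Linear.smul_comp, Category.id_comp,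
          hβ, smul_zero])
      have hγ0 : γ = 0 := h γ
      rw [hγ, hγ0, comp_zero]
    induction N with
    | zero => simpa using hN
    | succ N ihN =>
      refine ihN (step _ ?_)
      rw [← mul_smul, ← pow_succ']; exact hN

theorem exists_det_spec (T : Set (Spec (CommRingCat.of A))) (hT : IsClosed T) (hTc : IsCompact Tᶜ) :
    ∃ G : DCoh.D (Spec (CommRingCat.of A)), DCoh.IsPerfect G ∧ SuppD T G ∧ Det T G := by
  classical
  haveI : PreservesFiniteLimits (tilde.functor (CommRingCat.of A)) := QC.tilde_preservesFiniteLimits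
  obtain ⟨hfull, hfaith, hess⟩ := DQCoh.tildeD_affine (R := CommRingCat.of A)
  haveI := hfull
  haveI := hfaith
  obtain ⟨t, ht⟩ := PrimeSpectrum.isCompact_isOpen_iff.1 ⟨hTc, hT.isOpen_compl⟩
  have ht' : T = PrimeSpectrum.zeroLocus (t : Set A) := compl_injective ht.symm
  have hsub : ∀ M : Dual.D A, SuppD T ((DCoh.tildeD (CommRingCat.of A)).obj M) ↔ ∀ f ∈ t.toList, IsTors f M := by
    intro M
    constructor
    · intro h f hf
      refine (suppD_tildeD_iff M f).1 (suppD_mono ?_ h)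
      rw [ht']
      exact PrimeSpectrum.zeroLocus_anti_mono (Set.singleton_subset_iff.2 (Finset.mem_toList.1 hf))
    · intro h i x hx
      rw [ht']
      intro f hf
      exact Set.singleton_subset_iff.1 ((suppD_tildeD_iff M f).2 (h f (Finset.mem_toList.2 hf)) i hx)
  let G := (DCoh.tildeD (CommRingCat.of A)).obj (kD t.toList)
  refine ⟨G, (DQCoh.perfect_tilde_iff _).2 (isPerfect_kD _), (hsub _).2 fun f hf => ?_, 0, fun E hE i h => ?_⟩
  · obtain ⟨N, hN⟩ := exists_pow_smul_kD _ f hf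
    exact isTors_of_smul_id hN
  · obtain ⟨M, ⟨e⟩⟩ := (hess E).1 hE.1
    have h0 := isZero_H_of_kD t.toList M ((hsub M).1 (suppD_of_iso e.symm hE.2)) (-i) fun α =>
      (DCoh.tildeD (CommRingCat.of A)).map_injective (by
        have h1 := h i (by simp) (by simp) (((DCoh.tildeD (CommRingCat.of A)).commShiftIso (-i)).inv.app (kD t.toList) ≫
          (DCoh.tildeD (CommRingCat.of A)).map α ≫ e.hom)
        rw [← cancel_epi (((DCoh.tildeD (CommRingCat.of A)).commShiftIso (-i)).inv.app (kD t.toList)),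
          ← cancel_mono e.hom, Category.assoc, h1]
        simp)
    rw [neg_neg] at h0
    exact ((tilde.functor (CommRingCat.of A)).map_isZero h0).of_iso
      ((DerivedCategory.homologyFunctor _ i).mapIso e.symm ≪≫ DQCoh.hdTildeIso (R := CommRingCat.of A) M i)

end Affine

/-- detection on a scheme -/
def HasDet (X : Scheme.{u}) : Prop :=
  ∀ T : Set X, IsClosed T → IsCompact Tᶜ → ∃ G : DCoh.D X, DCoh.IsPerfect G ∧ SuppD T G ∧ Det T G

/-- **the induction step** -/
theorem hasDet_of_cover [CompactSpace X] [QuasiSeparatedSpace X] [CompactSpace U] [CompactSpace V]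
    (j : U ⟶ X) (k : V ⟶ X) [IsOpenImmersion j] [IsOpenImmersion k]
    (hcov : Set.range j.base ∪ Set.range k.base = Set.univ) (hU : HasDet U) (hV : HasDet V) : HasDet X := by
  intro T hT hTc
  haveI : QuasiCompact j := quasiCompact_of_compactSpace j
  haveI : QuasiCompact k := quasiCompact_of_compactSpace k
  haveI : QuasiSeparated j := inferInstance
  haveI : QuasiSeparated k := inferInstance
  haveI : QuasiSeparatedSpace V := quasiSeparatedSpace_of_quasiSeparated k
  haveI : QuasiSeparatedSpace U := quasiSeparatedSpace_of_quasiSeparated j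
  have hWc : IsCompact ((interO j k : V.Opens) : Set V) :=
    k.isCompact_preimage (U := j.opensRange) (isCompact_range j.continuous)
  haveI : CompactSpace (interO j k : Scheme.{u}) := isCompact_iff_compactSpace.1 hWc
  haveI : QuasiSeparatedSpace (interO j k : Scheme.{u}) := quasiSeparatedSpace_of_quasiSeparated (interO j k).ι
  have hcU : IsCompact (j.base ⁻¹' T)ᶜ := j.isCompact_preimage (U := ⟨Tᶜ, hT.isOpen_compl⟩) hTc
  have hcV : IsCompact (k.base ⁻¹' T)ᶜ := k.isCompact_preimage (U := ⟨Tᶜ, hT.isOpen_compl⟩) hTc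
  obtain ⟨GU, hGU, hGUT, wU, hwU⟩ := hU _ (hT.preimage j.continuous) hcU
  have hF : PerfT ((interO j k).ι.base ⁻¹' (k.base ⁻¹' T)) ((RD (toU j k)).obj GU) := by
    refine ⟨isPerfect_RD _ hGU, ?_⟩
    have h := suppD_RD (toU j k) hGUT
    rw [← Set.preimage_comp] at h ⊢
    have he : j.base ∘ (toU j k).base = k.base ∘ (interO j k).ι.base := funext fun w => by
      simp only [Function.comp_apply, ← Scheme.Hom.comp_apply, toU_fac]
    rwa [he] at h
  let GU' := GU ⊞ GU⟦(1 : ℤ)⟧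
  obtain ⟨GV, hGV, ⟨eV⟩⟩ := exists_extend (hasGen V) (interO j k).ι (hT.preimage k.continuous) hcV hF
  haveI := preservesBinaryBiproducts_of_preservesBiproducts (RD (toU j k))
  let φ : (RD (toU j k)).obj GU' ≅ (RD (interO j k).ι).obj GV :=
    (RD (toU j k)).mapBiprod _ _ ≪≫ biprod.mapIso (Iso.refl _) (((RD (toU j k)).commShiftIso (1 : ℤ)).app GU) ≪≫
      eV.symm
  obtain ⟨G₁, ⟨e₁⟩, ⟨e₂⟩⟩ := exists_glue j k GU' GV φ
  have hGU' : PerfT (j.base ⁻¹' T) GU' := perfT_biprod (hT.preimage j.continuous) ⟨hGU, hGUT⟩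
    ⟨DQCoh.perfect_shift hGU 1, ((localizing_PT (hT.preimage j.continuous)).shift
      ⟨isQCohD_of_isPerfect hGU, hGUT⟩ 1).2⟩
  have hG₁ : PerfT T G₁ := ⟨isPerfect_of_cover j k hcov (DQCoh.perfect_of_iso e₁.symm hGU'.1)
      (DQCoh.perfect_of_iso e₂.symm hGV.1),
    suppD_of_cover j k hcov (suppD_of_iso e₁.symm hGU'.2) (suppD_of_iso e₂.symm hGV.2)⟩
  let Z : Set V := k.base ⁻¹' T ∩ (Set.range (interO j k).ι.base)ᶜ
  have hZ : IsClosed Z := (hT.preimage k.continuous).inter (interO j k).ι.opensRange.isOpen.isClosed_compl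
  obtain ⟨K₀, hK₀, hK₀Z, wV, hwV⟩ := hV Z hZ (isCompact_compl_inter (interO j k).ι hcV)
  let K := (DCoh.Rpush k).obj K₀
  have hKj : IsZero ((RD j).obj K) := by
    refine IsZero.of_iso ((DCoh.Rpush (interO k j).ι).map_isZero ?_) ((bcO k j).app K₀)
    refine (isZero_RD_iff _ K₀).2 (suppD_mono ?_ hK₀Z)
    rintro v ⟨-, hv⟩ ⟨w, rfl⟩
    rw [Scheme.Opens.range_ι] at hv
    exact hv ⟨(interO k j).ι.base w, by rw [← Scheme.Hom.comp_apply, ← toU_fac, Scheme.Hom.comp_apply]⟩
  have hK : PerfT T K := ⟨isPerfect_of_cover j k hcov (perfT_zero (T := Set.univ) hKj).1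
      (DQCoh.perfect_of_iso (asIso ((adjR k).counit.app K₀)).symm hK₀),
    suppD_rpush k hT (suppD_mono Set.inter_subset_left hK₀Z)⟩
  have hG : PerfT T (G₁ ⊞ K) := perfT_biprod hT hG₁ hK
  obtain ⟨d₁, hd₁⟩ := exists_homVac_of_vac hG₁.1
  obtain ⟨rj, hrj⟩ := exists_rpush_vac j
  obtain ⟨rk, hrk⟩ := exists_rpush_vac k
  refine ⟨G₁ ⊞ K, hG.1, hG.2, rj + wU + d₁ + rk + wV + 1, fun M hM i hzero => ?_⟩
  have h₁ : HomVac G₁ M (i - (rj + wU + d₁ + rk + wV + 1 : ℕ)) (i + (rj + wU + d₁ + rk + wV + 1 : ℕ)) :=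
    fun n hn hn' g => by
    have h := hzero n hn hn' ((biprod.fst : G₁ ⊞ K ⟶ G₁)⟦-n⟧' ≫ g)
    rw [← Category.id_comp g, ← (shiftFunctor (DCoh.D X) (-n)).map_id G₁, ← (biprod.inl_fst : biprod.inl ≫ (biprod.fst : G₁ ⊞ K ⟶ G₁) = 𝟙 G₁), Functor.map_comp,
      Category.assoc, h, comp_zero]
  have h₂ : HomVac K M (i - (rj + wU + d₁ + rk + wV + 1 : ℕ)) (i + (rj + wU + d₁ + rk + wV + 1 : ℕ)) :=
    fun n hn hn' g => by
    have h := hzero n hn hn' ((biprod.snd : G₁ ⊞ K ⟶ K)⟦-n⟧' ≫ g)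
    rw [← Category.id_comp g, ← (shiftFunctor (DCoh.D X) (-n)).map_id K, ← (biprod.inr_snd : biprod.inr ≫ (biprod.snd : G₁ ⊞ K ⟶ K) = 𝟙 K), Functor.map_comp,
      Category.assoc, h, comp_zero]
  let R := (DCoh.Rpush j).obj ((RD j).obj M)
  obtain ⟨C, c, δ, hC⟩ := distinguished_cocone_triangle₁ ((adjR j).unit.app M)
  have hR : PT T R := ⟨DQPush.isQCohD_rpush j (isQCohD_RD j hM.1), suppD_rpush j hT (suppD_RD j hM.2)⟩
  have hCj : IsZero ((RD j).obj C) :=
    (Triangle.isZero₁_iff_isIso₂ _ ((RD j).map_distinguished _ hC)).2 (isIso_map_unit_adjR j M)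
  have hCq : DCoh.IsQCohD C := isQCohD_obj₁ _ hC hM.1 hR.1
  haveI hCk := isIso_unit_of_cover j k hcov hCj
  -- the part supported outside `U`
  have hCkvac : Vac ((RD k).obj C) (i - (rj + wU + d₁ + rk + 1 : ℕ)) (i + (rj + wU + d₁ + rk + 1 : ℕ)) := by
    intro m hm hm'
    refine hwV _ ⟨isQCohD_RD k hCq, suppD_inter (suppD_RD k (suppD_obj₁ hT _ hC hM.2 hR.2)) ?_⟩ m
      fun n hn hn' g => ?_
    · exact (isZero_RD_iff _ _).1 (((RD (toU j k)).map_isZero hCj).of_iso ((rdSquare j k).app C).symm)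
    · let iK : (RD k).obj (K⟦-n⟧) ≅ K₀⟦-n⟧ :=
        ((RD k).commShiftIso (-n)).app K ≪≫ (shiftFunctor _ (-n)).mapIso (asIso ((adjR k).counit.app K₀))
      rw [← cancel_epi iK.hom, comp_zero]
      apply ((adjR k).homEquiv _ _).injective
      rw [Adjunction.homEquiv_unit, Adjunction.homEquiv_unit, Functor.map_zero, comp_zero,
        ← cancel_mono (inv ((adjR k).unit.app C)), zero_comp]
      set h := ((adjR k).unit.app (K⟦-n⟧) ≫ (DCoh.Rpush k).map (iK.hom ≫ g)) ≫ inv ((adjR k).unit.app C)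
      obtain ⟨q, hq⟩ := Triangle.coyoneda_exact₂ _ (inv_rot_of_distTriang _ hC) h
        (h₂ n (by omega) (by omega) (h ≫ c))
      have hq0 : q = 0 := by
        apply (shiftFunctor (DCoh.D X) (1 : ℤ)).map_injective
        rw [Functor.map_zero, ← cancel_mono ((shiftFunctorCompIsoId (DCoh.D X) (-1 : ℤ) 1 (by lia)).hom.app R),
          zero_comp]
        refine hom_rpush_eq_zero j ?_ _
        exact IsZero.of_iso ((shiftFunctor _ (1 : ℤ)).map_isZero (IsZero.of_iso ((shiftFunctor _ (-n)).map_isZero hKj)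
          (((RD j).commShiftIso (-n)).app K))) (((RD j).commShiftIso (1 : ℤ)).app (K⟦-n⟧))
      rw [hq, hq0]
      exact zero_comp
  have hCvac : Vac C (i - (rj + wU + d₁ + 1 : ℕ)) (i + (rj + wU + d₁ + 1 : ℕ)) := fun m hm hm' =>
    (hrk _ (isQCohD_RD k hCq) m fun p hp hp' => hCkvac p (by omega) (by omega)).of_iso
      ((DerivedCategory.homologyFunctor X.Modules m).mapIso (asIso ((adjR k).unit.app C)))
  -- the part over `U`
  have hMjvac : Vac ((RD j).obj M) (i - rj) i := by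
    intro m hm hm'
    refine hwU _ ⟨isQCohD_RD j hM.1, suppD_RD j hM.2⟩ m fun n hn hn' g => ?_
    let f₁ : (RD j).obj (G₁⟦-n⟧) ⟶ GU⟦-n⟧ :=
      ((RD j).commShiftIso (-n)).hom.app G₁ ≫ (e₁.hom ≫ (biprod.fst : GU' ⟶ GU))⟦-n⟧'
    haveI : Epi f₁ := by
      haveI : IsSplitEpi (e₁.hom ≫ (biprod.fst : GU' ⟶ GU)) :=
        IsSplitEpi.mk' ⟨biprod.inl ≫ e₁.inv, by simp⟩
      exact epi_comp _ _
    rw [← cancel_epi f₁, comp_zero]
    apply ((adjR j).homEquiv _ _).injective
    rw [Adjunction.homEquiv_unit, Adjunction.homEquiv_unit, Functor.map_zero, comp_zero]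
    set h := (adjR j).unit.app (G₁⟦-n⟧) ≫ (DCoh.Rpush j).map (f₁ ≫ g)
    have hδ : h ≫ δ = 0 := hd₁ _ (isQCohD_shift hCq 1) n (fun p hp hp' =>
      isZero_HD_shift (m := 1 + p) rfl (hCvac _ (by omega) (by omega))) _
    obtain ⟨s, hs⟩ := Triangle.coyoneda_exact₃ _ hC h hδ
    have hs0 : s = 0 := h₁ n (by omega) (by omega) s
    subst hs0
    exact hs.trans zero_comp
  exact isZero_HD_mid _ hC i (hCvac i (by omega) (by omega))
    (hrj _ (isQCohD_RD j hM.1) i hMjvac)

/-- **perfect detection with supports** -/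
theorem hasDet (X : Scheme.{u}) [CompactSpace X] [QuasiSeparatedSpace X] : HasDet X := by
  suffices H : ∀ S : X.Opens, IsCompact (S : Set X) → HasDet (S : Scheme.{u}) by
    haveI : CompactSpace ((⊤ : X.Opens) : Scheme.{u}) := isCompact_iff_compactSpace.1 isCompact_univ
    exact hasDet_of_cover (⊤ : X.Opens).ι (⊤ : X.Opens).ι (by simp) (H ⊤ isCompact_univ) (H ⊤ isCompact_univ)
  intro S hS
  refine compact_open_induction_on S hS ?_ ?_
  · intro T hT _
    refine ⟨0, (perfT_zero (T := T) (isZero_zero _)).1, (perfT_zero (isZero_zero _)).2, 0, fun M _ i _ => ?_⟩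
    exact Devissage.isZero_of_support (Set.eq_empty_of_forall_notMem fun x _ => x.2.elim)
  · intro S hS U ih
    let Z : X.Opens := S ⊔ U.1
    have hUc : IsCompact (U.1 : Set X) := U.2.isCompact
    haveI : CompactSpace (Z : Scheme.{u}) := isCompact_iff_compactSpace.1 (by simpa [Z] using hS.union hUc)
    haveI : QuasiSeparatedSpace (Z : Scheme.{u}) := quasiSeparatedSpace_of_quasiSeparated Z.ι
    haveI : CompactSpace (S : Scheme.{u}) := isCompact_iff_compactSpace.1 hS
    haveI : IsAffine (U.1 : Scheme.{u}) := U.2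
    let j : (S : Scheme.{u}) ⟶ (Z : Scheme.{u}) := X.homOfLE le_sup_left
    let k₀ : (U.1 : Scheme.{u}) ⟶ (Z : Scheme.{u}) := X.homOfLE le_sup_right
    let k : Spec Γ((U.1 : Scheme.{u}), ⊤) ⟶ (Z : Scheme.{u}) := (U.1 : Scheme.{u}).isoSpec.inv ≫ k₀
    refine hasDet_of_cover j k (Set.eq_univ_of_forall fun z => ?_) ih fun T hT hTc => exists_det_spec T hT hTc
    rcases z.2 with hz | hz
    · exact Or.inl ⟨⟨z.1, hz⟩, Scheme.homOfLE_apply' _ _ _⟩
    · refine Or.inr ⟨(U.1 : Scheme.{u}).isoSpec.hom.base ⟨z.1, hz⟩, ?_⟩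
      rw [show k = _ from rfl, ← Scheme.Hom.comp_apply, Iso.hom_inv_id_assoc]
      exact Scheme.homOfLE_apply' _ _ _

/-- objects to which a given generator gives window detection -/
def HomWin (G : DCoh.D X) : ObjectProperty (DCoh.D X) := fun P =>
  ∃ w : ℕ, ∀ (E : DCoh.D X) (i : ℤ), HomVac G E (i - w) (i + w) → ∀ g : P⟦-i⟧ ⟶ E, g = 0

instance retracts_homWin (G : DCoh.D X) : (HomWin G).IsStableUnderRetracts :=
  ⟨fun r ⟨w, h⟩ => ⟨w, fun E i hE g => by
    rw [← Category.id_comp g, ← (shiftFunctor (DCoh.D X) (-i)).map_id, ← r.retract, Functor.map_comp,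
      Category.assoc]
    exact (congrArg _ (h E i hE _)).trans comp_zero⟩⟩

lemma homWin_self (G : DCoh.D X) : HomWin G G := ⟨0, fun E i h g => h i (by simp) (by simp) g⟩

instance shift_homWin (G : DCoh.D X) : (HomWin G).IsStableUnderShift ℤ :=
  ⟨fun n => ⟨fun P ⟨w, h⟩ => ⟨w + n.natAbs, fun E i hE g => by
    rw [← cancel_epi ((shiftFunctorAdd' (DCoh.D X) n (-i) (-(i - n)) (by lia)).app P).hom, comp_zero]
    exact h E (i - n) (hE.mono (by omega) (by omega)) _⟩⟩⟩

lemma homWin_ext₂ (G : DCoh.D X) (T : Triangle (DCoh.D X)) (hT : T ∈ distTriang (DCoh.D X))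
    (h₁ : HomWin G T.obj₁) (h₃ : HomWin G T.obj₃) : HomWin G T.obj₂ := by
  obtain ⟨w₁, h₁⟩ := h₁
  obtain ⟨w₃, h₃⟩ := h₃
  refine ⟨w₁ + w₃, fun E i hE g => ?_⟩
  obtain ⟨s, hs⟩ := Triangle.yoneda_exact₂ _ (Triangle.shift_distinguished _ hT (-i)) g
    (h₁ E i (hE.mono (by omega) (by omega)) _)
  have : s = 0 := h₃ E i (hE.mono (by omega) (by omega)) _
  rw [hs, this, comp_zero]

instance triangulatedClosed₂_homWin (G : DCoh.D X) : (HomWin G).IsTriangulatedClosed₂ :=
  IsTriangulatedClosed₂.mk' fun T hT h₁ h₃ => homWin_ext₂ G T hT h₁ h₃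

instance containsZero_homWin (G : DCoh.D X) : (HomWin G).ContainsZero :=
  ⟨⟨0, isZero_zero _, 0, fun E i _ g => ((shiftFunctor (DCoh.D X) (-i)).map_isZero (isZero_zero _)).eq_of_src _ _⟩⟩

instance isTriangulated_homWin (G : DCoh.D X) : (HomWin G).IsTriangulated := {}

variable [CompactSpace X] [QuasiSeparatedSpace X]

/-- every perfect generator detects cohomology in windows -/
theorem det_of_gen {G : DCoh.D X} (hG : DCoh.IsPerfect G) (hgen : Gen (DCoh.IsQCohD (X := X)) G) :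
    Det Set.univ G := by
  obtain ⟨G₀, hG₀, -, w₀, hw₀⟩ := hasDet X Set.univ isClosed_univ (by rw [Set.compl_univ]; exact isCompact_empty)
  haveI : (only G).Nonempty := ⟨⟨G, rfl⟩⟩
  obtain ⟨w, hw⟩ : HomWin G G₀ := (triangEnvelope_le_iff (P := only G)).2
    (fun Z hZ => by cases hZ; exact homWin_self G) _
    (envelope_of_gen (localizing_qcohD X) (cpt_of_perfect hG) hgen (cpt_of_perfect hG₀))
  exact ⟨w₀ + w, fun M hM i h => hw₀ M hM i fun j hj hj' g => hw M j (h.mono (by omega) (by omega)) g⟩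

end Groth.Agent.PerfGen
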