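import Groth.Agent.PerfGen.TwistSigma
import Groth.Agent.PerfGen.Tors
import Groth.Agent.PerfGen.Window
import Groth.Agent.PerfGen.KosFactor
import Groth.Agent.DualSch.SelfDual
import Mathlib.Algebra.Homology.DerivedCategory.Linear

/-!
Tensor powers of a line bundle with enough sections with affine generating loci generate `D_QCoh`.
-/

set_option autoImplicit false
set_option backward.isDefEq.respectTransparency false
set_option backward.isDefEq.respectTransparency.types false
set_option linter.style.haveILetI false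
set_option linter.unusedSectionVars false

universe t v u

open CategoryTheory Limits Pretriangulated AlgebraicGeometry

attribute [local instance] HasDerivedCategory.standard

namespace Groth.Agent.PerfGen

open Groth.Agent.DQCoh (RD rdIso rC)

section Cone

variable {A : Type u} [CommRing A] {X : Scheme.{u}} [X.Over (Spec (CommRingCat.of A))]

/-- the cone of `a` on a generator generates the objects supported on `V(a)` -/
theorem gen_of_cone {T : Set X} (hT : IsClosed T) {G G' C : DCoh.D X} (hgen : Gen (PT T) G) (a : A) (e : G' ≅ G)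
    {g : G ⟶ C} {h : C ⟶ G'⟦(1 : ℤ)⟧} (hC : Triangle.mk (e.hom ≫ (a • 𝟙 G)) g h ∈ distTriang (DCoh.D X)) :
    Gen (PT (T ∩ (X.zeroLocus (U := ⊤) {Coh.toGlobal (X ↘ Spec (CommRingCat.of A)) a} : Set X))) C := by
  intro M hM hz
  have hC' : Triangle.mk (a • 𝟙 G) g (h ≫ e.hom⟦(1 : ℤ)⟧') ∈ distTriang (DCoh.D X) :=
    isomorphic_distinguished _ hC _
      (Triangle.isoMk _ _ e.symm (Iso.refl _) (Iso.refl _) (by simp; rfl) (by simp) (by simp [← Functor.map_comp]))
  have hz' : ∀ (k n : ℤ) (f : C⟦n⟧ ⟶ M⟦k⟧), f = 0 := by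
    intro k n f
    apply (shiftFunctor (DCoh.D X) (-k)).map_injective
    rw [Functor.map_zero, ← cancel_epi ((shiftFunctorAdd (DCoh.D X) n (-k)).app C).hom,
      ← cancel_mono ((shiftFunctorCompIsoId (DCoh.D X) k (-k) (by lia)).hom.app M), comp_zero, zero_comp]
    exact hz _ _
  have hbij₀ : ∀ k : ℤ, Function.Bijective fun t : G ⟶ M⟦k⟧ => a • t := by
    intro k
    refine ⟨fun t t' htt' => ?_, fun t => ?_⟩
    · obtain ⟨s, hs⟩ := Triangle.yoneda_exact₂ _ hC' (t - t') (by
        show (a • 𝟙 G) ≫ (t - t') = 0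
        simp [smul_sub, show a • t = a • t' from htt'])
      have : s = 0 := by
        rw [← cancel_epi ((shiftFunctorZero (DCoh.D X) ℤ).hom.app C), comp_zero]
        exact hz' k 0 _
      subst this
      exact sub_eq_zero.1 (hs.trans comp_zero)
    · obtain ⟨s, hs⟩ := Triangle.yoneda_exact₂ _ (inv_rot_of_distTriang _ hC') t (hz' k (-1) _)
      refine ⟨s, ?_⟩
      change t = (a • 𝟙 G) ≫ s at hs
      rw [hs]
      simp
  have hbij : ∀ n : ℤ, Function.Bijective fun t : G⟦n⟧ ⟶ M => t ≫ (a • 𝟙 M) := by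
    intro n
    let i := (shiftFunctorCompIsoId (DCoh.D X) n (-n) (by lia)).app G
    let φ : (G⟦n⟧ ⟶ M) → (G ⟶ M⟦-n⟧) := fun t => i.inv ≫ t⟦-n⟧'
    have hφ : Function.Bijective φ := by
      refine ⟨fun t t' h => (shiftFunctor (DCoh.D X) (-n)).map_injective ((cancel_epi i.inv).1 h), fun v => ?_⟩
      obtain ⟨t, ht⟩ := (shiftFunctor (DCoh.D X) (-n)).map_surjective (i.hom ≫ v)
      exact ⟨t, by simp [φ, ht]⟩
    have hcomm : φ ∘ (fun t : G⟦n⟧ ⟶ M => t ≫ (a • 𝟙 M)) = (fun t => a • t) ∘ φ := by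
      funext t
      simp [φ]
    exact (Function.Bijective.of_comp_iff' hφ _).1 (hcomm ▸ (hbij₀ (-n)).comp hφ)
  obtain ⟨N, g', h', hN⟩ := distinguished_cocone_triangle (a • 𝟙 M)
  have hMT : SuppD T M := suppD_mono Set.inter_subset_left hM.2
  haveI : IsIso (a • 𝟙 M) := (Triangle.isZero₃_iff_isIso₁ _ hN).1
    (hgen N ((localizing_PT hT).obj₃ _ hN ⟨hM.1, hMT⟩ ⟨hM.1, hMT⟩) (hom_eq_zero_of_bijective hN hbij))
  refine isZero_of_suppD_empty fun i => (Devissage.support_of_isZero
    (isZero_of_isIso_smul (hM.1 i) a ?_ ((hM.2 i).trans Set.inter_subset_right))).le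
  rw [← hd_map_smul]
  infer_instance

end Cone

/-- the structure sheaf generates on an affine scheme -/
theorem gen_unit_affine (U : Scheme.{u}) [IsAffine U] :
    Gen (DCoh.IsQCohD (X := U)) (DCoh.inD U (Coh.structureModule U)) := by
  intro M hM hz
  let A := Γ(U, ⊤)
  let k : Spec (CommRingCat.of A) ⟶ U := U.isoSpec.inv
  haveI : IsOpenImmersion k := inferInstanceAs (IsOpenImmersion U.isoSpec.inv)
  have hk : Set.range k.base = Set.univ := Set.range_eq_univ.2 fun x => ⟨U.isoSpec.hom.base x, by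
    show (U.isoSpec.hom ≫ U.isoSpec.inv).base x = x
    rw [Iso.hom_inv_id]; rfl⟩
  haveI : PreservesFiniteLimits (tilde.functor (CommRingCat.of A)) := QC.tilde_preservesFiniteLimits
  obtain ⟨hfull, hfaith, hess⟩ := DQCoh.tildeD_affine (R := CommRingCat.of A)
  haveI := hfull
  haveI := hfaith
  obtain ⟨M', ⟨e⟩⟩ := (hess _).1 (isQCohD_RD k hM)
  obtain ⟨eO⟩ := DualSch.nonempty_restrict_structureModule k
  have hu : IsIso ((adjR k).unit.app M) :=
    isIso_of_cover k k (by rw [hk, Set.union_self]) _ (isIso_map_unit_adjR k M) (isIso_map_unit_adjR k M)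
  have hM' : ∀ n : ℤ, ∀ α : (kD ([] : List A))⟦n⟧ ⟶ M', α = 0 := by
    intro n α
    apply (DCoh.tildeD (CommRingCat.of A)).map_injective
    let i : (RD k).obj ((DCoh.inD U (Coh.structureModule U))⟦n⟧) ≅ (DCoh.tildeD (CommRingCat.of A)).obj ((kD ([] : List A))⟦n⟧) :=
      ((RD k).commShiftIso n).app _ ≪≫ (shiftFunctor _ n).mapIso (eO ≪≫ (DCoh.tildeD (CommRingCat.of A)).mapIso kNil.symm) ≪≫
        (((DCoh.tildeD (CommRingCat.of A)).commShiftIso n).app _).symm
    rw [Functor.map_zero, ← cancel_epi i.hom, ← cancel_mono e.hom, comp_zero, zero_comp]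
    apply ((adjR k).homEquiv _ _).injective
    rw [Adjunction.homEquiv_unit, Adjunction.homEquiv_unit, Functor.map_zero, comp_zero,
      ← cancel_mono (inv ((adjR k).unit.app M)), zero_comp]
    exact hz n _
  have hzero : IsZero M' := by
    rw [IsZero.iff_id_eq_zero]
    haveI : IsIso (0 : M' ⟶ M') := by
      rw [DerivedCategory.isIso_iff]
      intro i
      have h1 := isZero_H_of_kD ([] : List A) M' (by simp) (-i) (hM' (-i))
      rw [neg_neg] at h1
      exact h1.isIso h1 _
    have h1 := IsIso.hom_inv_id (0 : M' ⟶ M')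
    rw [zero_comp] at h1
    exact h1.symm
  haveI := DerPush.isRightAdjoint_rpush k
  haveI : PreservesLimitsOfSize.{0, 0} (DCoh.Rpush k) := inferInstance
  haveI : (DCoh.Rpush k).Additive := Functor.additive_of_preserves_binary_products _
  exact ((DCoh.Rpush k).map_isZero (((DCoh.tildeD (CommRingCat.of A)).map_isZero hzero).of_iso e.symm)).of_iso
    (asIso ((adjR k).unit.app M))

/-! ### the induction over the sections -/

section Main

variable {X : Scheme.{u}} {L : X.Modules} (L' : X.Modules) (η : CohB1.tensorMod L' L ≅ Coh.structureModule X)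
  {ι : Type} (s : ι → (Coh.structureModule X ⟶ L))

lemma toGlobal_toSpecΓ (U : Scheme.{u}) (f : Γ(U, ⊤)) : Coh.toGlobal U.toSpecΓ f = f := by
  show U.toSpecΓ.appTop ((Scheme.ΓSpecIso (CommRingCat.of Γ(U, ⊤))).inv _) = _
  rw [Scheme.toSpecΓ_appTop]
  exact congrArg (fun φ => φ.hom f) (Scheme.ΓSpecIso (Γ(U, ⊤))).inv_hom_id

/-- iterated `- ⊗ L'` -/
noncomputable def itT : ℕ → X.Modules ⥤ X.Modules
  | 0 => 𝟭 _
  | e + 1 => tFun L' ⋙ itT e

instance additive_itT : ∀ e : ℕ, (itT L' e).Additive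
  | 0 => inferInstanceAs ((𝟭 X.Modules).Additive)
  | e + 1 => haveI := additive_itT e; inferInstanceAs ((tFun L' ⋙ itT L' e).Additive)

/-- iterated twists of complexes -/
noncomputable abbrev itC (e : ℕ) (C : CochainComplex X.Modules ℤ) : CochainComplex X.Modules ℤ :=
  ((itT L' e).mapHomologicalComplex (ComplexShape.up ℤ)).obj C

/-- multiplication by a section on complexes -/
noncomputable def sigmaC (t : Coh.structureModule X ⟶ L) (C : CochainComplex X.Modules ℤ) :
    ((tFun L').mapHomologicalComplex (ComplexShape.up ℤ)).obj C ⟶ C where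
  f p := (sigma L' η t).app (C.X p)
  comm' p q _ := ((sigma L' η t).naturality (C.d p q)).symm

/-- the Koszul complexes -/
noncomputable def kosJ : List ι → CochainComplex X.Modules ℤ
  | [] => (HomologicalComplex.single X.Modules (ComplexShape.up ℤ) 0).obj (Coh.structureModule X)
  | i :: l => CochainComplex.mappingCone (sigmaC L' η (s i) (kosJ l))

/-- where all the sections of the list fail to generate -/
def vanJ : List ι → Set X
  | [] => Set.univ
  | i :: l => vanJ l ∩ ((CohB1.genLocus L (s i) : X.Opens) : Set X)ᶜ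

lemma isClosed_vanJ : ∀ l : List ι, IsClosed (vanJ s l)
  | [] => isClosed_univ
  | i :: l => (isClosed_vanJ l).inter (CohB1.genLocus L (s i)).2.isClosed_compl

lemma vanJ_subset {i : ι} : ∀ {l : List ι}, i ∈ l → vanJ s l ⊆ ((CohB1.genLocus L (s i) : X.Opens) : Set X)ᶜ
  | j :: l, h => by
    rcases List.mem_cons.1 h with rfl | h
    · exact Set.inter_subset_right
    · exact Set.inter_subset_left.trans (vanJ_subset h)

/-- no maps from the shifts and twists of `C` to `M` -/
def NoMaps (C : CochainComplex X.Modules ℤ) (M : DCoh.D X) : Prop :=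
  ∀ (e : ℕ) (n : ℤ) (g : (DerivedCategory.Q.obj (itC L' e C))⟦n⟧ ⟶ M), g = 0

lemma exists_cone_triangle (t : Coh.structureModule X ⟶ L) (C : CochainComplex X.Modules ℤ) (e : ℕ) :
    ∃ (a : DerivedCategory.Q.obj (itC L' e C) ⟶ DerivedCategory.Q.obj (itC L' e (CochainComplex.mappingCone (sigmaC L' η t C))))
      (b : DerivedCategory.Q.obj (itC L' e (CochainComplex.mappingCone (sigmaC L' η t C))) ⟶
        (DerivedCategory.Q.obj (itC L' (e + 1) C))⟦(1 : ℤ)⟧),
      Triangle.mk (DerivedCategory.Q.map (((itT L' e).mapHomologicalComplex (ComplexShape.up ℤ)).map (sigmaC L' η t C)))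
        a b ∈ distTriang (DCoh.D X) := by
  let G := (itT L' e).mapHomologicalComplex (ComplexShape.up ℤ)
  let M := DerivedCategory.Q.mapTriangle.obj (CochainComplex.mappingCone.triangle (G.map (sigmaC L' η t C)))
  let E := DerivedCategory.Q.mapIso (CochainComplex.mappingCone.mapHomologicalComplexIso (sigmaC L' η t C) (itT L' e))
  exact ⟨M.mor₂ ≫ E.inv, E.hom ≫ M.mor₃,
    isomorphic_distinguished _ (DerivedCategory.mappingCone_triangle_distinguished (G.map (sigmaC L' η t C))) _
      (Triangle.isoMk _ _ (Iso.refl _) (Iso.refl _) E (by simp [M]; rfl) (by simp [M])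
        ((congrArg ((E.hom ≫ M.mor₃) ≫ ·) ((shiftFunctor (DCoh.D X) (1 : ℤ)).map_id _)).trans (Category.comp_id _)))⟩

lemma noMaps_cone (t : Coh.structureModule X ⟶ L) (C : CochainComplex X.Modules ℤ) {M : DCoh.D X}
    (h : NoMaps L' C M) : NoMaps L' (CochainComplex.mappingCone (sigmaC L' η t C)) M := by
  intro e n g
  obtain ⟨a, b, hT⟩ := exists_cone_triangle L' η t C e
  obtain ⟨r, hr⟩ := Triangle.yoneda_exact₂ _ (Triangle.shift_distinguished _ (rot_of_distTriang _ hT) n) g
    (h e n _)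
  have hr0 : r = 0 := by
    rw [← cancel_epi ((shiftFunctorAdd' (DCoh.D X) 1 n (1 + n) rfl).hom.app _), comp_zero]
    exact h (e + 1) (1 + n) _
  rw [hr, hr0, comp_zero]

lemma noMaps_kosJ {M : DCoh.D X} (h : NoMaps L' ((HomologicalComplex.single X.Modules (ComplexShape.up ℤ) 0).obj
    (Coh.structureModule X)) M) : ∀ l : List ι, NoMaps L' (kosJ L' η s l) M
  | [] => h
  | i :: l => noMaps_cone L' η (s i) _ (noMaps_kosJ h l)

variable {L'}

lemma isoOn_itT (t : Coh.structureModule X ⟶ L) (η : CohB1.tensorMod L' L ≅ Coh.structureModule X) :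
    ∀ (e : ℕ) {M N : X.Modules} (φ : M ⟶ N), IsoOn (CohB1.genLocus L t) φ →
      IsoOn (CohB1.genLocus L t) ((itT L' e).map φ)
  | 0, _, _, _, h => h
  | e + 1, _, _, φ, h => isoOn_itT t η e ((tFun L').map φ) (isoOn_tmap t η h)

lemma rdMapQ {U : Scheme.{u}} (j : U ⟶ X) [IsOpenImmersion j] {C D : CochainComplex X.Modules ℤ} (φ : C ⟶ D) :
    (RD j).map (DerivedCategory.Q.map φ) = (rdIso j C).hom ≫ DerivedCategory.Q.map ((rC j).map φ) ≫ (rdIso j D).inv := by
  have h := (Scheme.Modules.restrictFunctor j).mapDerivedCategoryFactors.hom.naturality φ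
  rw [← cancel_mono (rdIso j D).hom]
  simp only [Category.assoc, Iso.inv_hom_id, Category.comp_id]
  exact h

lemma isIso_RD_sigma (t : Coh.structureModule X ⟶ L) (C : CochainComplex X.Modules ℤ) (e : ℕ) :
    IsIso ((RD (CohB1.genLocus L t).ι).map
      (DerivedCategory.Q.map (((itT L' e).mapHomologicalComplex (ComplexShape.up ℤ)).map (sigmaC L' η t C)))) := by
  let j := (CohB1.genLocus L t).ι
  let φ := ((itT L' e).mapHomologicalComplex (ComplexShape.up ℤ)).map (sigmaC L' η t C)
  haveI : ∀ p, IsIso (((rC j).map φ).f p) := fun p => isIso_restrict_of_isoOn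
    (isoOn_itT t η e ((sigma L' η t).app (C.X p)) fun V hV => sigma_app_bijective η t (C.X p) hV)
  haveI : IsIso ((rC j).map φ) := HomologicalComplex.Hom.isIso_of_components _
  rw [rdMapQ]
  infer_instance

lemma isZero_RD_cone (t : Coh.structureModule X ⟶ L) (C : CochainComplex X.Modules ℤ) (e : ℕ) :
    IsZero ((RD (CohB1.genLocus L t).ι).obj
      (DerivedCategory.Q.obj (itC L' e (CochainComplex.mappingCone (sigmaC L' η t C))))) := by
  obtain ⟨a, b, hT⟩ := exists_cone_triangle L' η t C e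
  exact (Triangle.isZero₃_iff_isIso₁ _ ((RD _).map_distinguished _ hT)).2 (isIso_RD_sigma η t C e)

/-- on an affine locus the Koszul complexes generate -/
theorem gen_kosJ (k : ι) (hk : IsAffineOpen (CohB1.genLocus L (s k))) : ∀ l : List ι,
    Gen (PT ((CohB1.genLocus L (s k)).ι.base ⁻¹' vanJ s l))
      ((RD (CohB1.genLocus L (s k)).ι).obj (DerivedCategory.Q.obj (kosJ L' η s l)))
  | [] => by
    intro M hM hz
    haveI : IsAffine (CohB1.genLocus L (s k) : Scheme.{u}) := hk
    let j := (CohB1.genLocus L (s k)).ι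
    let e : (RD j).obj (DerivedCategory.Q.obj (kosJ L' η s [])) ≅
        DCoh.inD _ (Coh.structureModule (CohB1.genLocus L (s k) : Scheme.{u})) :=
      (RD j).mapIso ((DerivedCategory.singleFunctorIsoCompQ X.Modules 0).app (Coh.structureModule X)).symm ≪≫
        ((Scheme.Modules.restrictFunctor j).mapDerivedCategorySingleFunctor 0).app _ ≪≫
        (DerivedCategory.singleFunctor _ 0).mapIso (Scheme.Modules.restrictUnitIso j)
    refine gen_unit_affine _ M hM.1 fun n g => ?_
    rw [← cancel_epi (e.hom⟦n⟧'), comp_zero]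
    exact hz n _
  | i :: l => by
    let U := CohB1.genLocus L (s k)
    obtain ⟨f, hf, hσ⟩ := exists_restrict_sigma η (s k) (s i)
    letI : (U : Scheme.{u}).Over (Spec (CommRingCat.of Γ((U : Scheme.{u}), ⊤))) := ⟨(U : Scheme.{u}).toSpecΓ⟩
    let C := kosJ L' η s l
    obtain ⟨a, b, hT⟩ := exists_cone_triangle L' η (s i) C 0
    let φ : ∀ t, ((tFun L').mapHomologicalComplex (ComplexShape.up ℤ)).obj C ⟶ C := fun t => sigmaC L' η (s t) C
    haveI : IsIso ((RD U.ι).map (DerivedCategory.Q.map (φ k))) := isIso_RD_sigma η (s k) C 0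
    have hmap : (RD U.ι).map (DerivedCategory.Q.map (φ i)) =
        f • (RD U.ι).map (DerivedCategory.Q.map (φ k)) := by
      have h1 : (rC U.ι).map (φ i) = f • (rC U.ι).map (φ k) :=
        HomologicalComplex.hom_ext _ _ fun p => hσ (C.X p)
      rw [rdMapQ, rdMapQ, h1, Functor.map_smul]
      simp
    let E := asIso ((RD U.ι).map (DerivedCategory.Q.map (φ k)))
    have hmor : (RD U.ι).map (DerivedCategory.Q.map (φ i)) = E.hom ≫ (f • 𝟙 _) := by
      rw [Linear.comp_smul, Category.comp_id, show E.hom = (RD U.ι).map (DerivedCategory.Q.map (φ k)) from rfl]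
      exact hmap
    have hT' := (RD U.ι).map_distinguished _ hT
    have hT'' : ∀ (m : (RD U.ι).obj (DerivedCategory.Q.obj (((tFun L').mapHomologicalComplex (ComplexShape.up ℤ)).obj C)) ⟶
        (RD U.ι).obj (DerivedCategory.Q.obj C)), (RD U.ι).map (DerivedCategory.Q.map (φ i)) = m →
        ∃ g h, Triangle.mk m g (h : (RD U.ι).obj (DerivedCategory.Q.obj (kosJ L' η s (i :: l))) ⟶ _) ∈ distTriang _ := by
      rintro m rfl
      exact ⟨_, _, hT'⟩
    obtain ⟨g, h, hC⟩ := hT'' _ hmor
    intro M hM hz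
    refine gen_of_cone ((isClosed_vanJ s l).preimage U.ι.continuous) (gen_kosJ k hk l) f E hC M
      ⟨hM.1, fun q x hx => ?_⟩ hz
    obtain ⟨h₁, h₂⟩ := hM.2 q hx
    refine ⟨h₁, (mem_zeroLocus_iff f x).2 fun hxf => h₂ ?_⟩
    change x ∈ (U : Scheme.{u}).basicOpen (Coh.toGlobal (U : Scheme.{u}).toSpecΓ f) at hxf
    exact hf.ge ((congrArg (fun r => x ∈ (U : Scheme.{u}).basicOpen r) (toGlobal_toSpecΓ _ f)).mp hxf)

variable [CompactSpace X] [QuasiSeparatedSpace X]

theorem isZero_of_noMaps_aux [Fintype ι] (haff : ∀ i, IsAffineOpen (CohB1.genLocus L (s i)))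
    (hcov : ∀ x : X, ∃ i, x ∈ CohB1.genLocus L (s i)) (c : ℕ) : ∀ l : List ι, l.Nodup →
      Fintype.card ι ≤ l.length + c → ∀ M : DCoh.D X, PT (vanJ s l) M →
      NoMaps L' (kosJ L' η s l) M → IsZero M := by
  classical
  have hall : ∀ (l : List ι), (∀ i, i ∈ l) → ∀ M : DCoh.D X, PT (vanJ s l) M → IsZero M := fun l hl M hM =>
    isZero_of_suppD_empty (suppD_mono (fun x hx => by
      obtain ⟨i, hi⟩ := hcov x
      exact vanJ_subset s (hl i) hx hi) hM.2)
  have hfull : ∀ (l : List ι), l.Nodup → Fintype.card ι ≤ l.length → ∀ i, i ∈ l := fun l hl hc i => by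
    have h : l.toFinset = Finset.univ := Finset.eq_univ_of_card _ (le_antisymm (Finset.card_le_univ _)
      (by rwa [List.toFinset_card_of_nodup hl]))
    simpa using (Finset.ext_iff.1 h i).2 (Finset.mem_univ i)
  induction c with
  | zero => exact fun l hl hc M hM _ => hall l (hfull l hl (by simpa using hc)) M hM
  | succ c ih =>
    intro l hl hc M hM hz
    by_cases hmem : ∀ i, i ∈ l
    · exact hall l hmem M hM
    obtain ⟨i, hi⟩ := not_forall.1 hmem
    let U := CohB1.genLocus L (s i)
    haveI : CompactSpace (U : Scheme.{u}) := isCompact_iff_compactSpace.1 (haff i).isCompact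
    let j := U.ι
    haveI : QuasiCompact j := quasiCompact_of_compactSpace j
    haveI : QuasiSeparated j := inferInstance
    let R := (DCoh.Rpush j).obj ((RD j).obj M)
    obtain ⟨C, a, δ, hC⟩ := distinguished_cocone_triangle₁ ((adjR j).unit.app M)
    have hV := isClosed_vanJ s l
    have hR : PT (vanJ s l) R :=
      ⟨DQPush.isQCohD_rpush j (isQCohD_RD j hM.1), suppD_rpush j hV (suppD_RD j hM.2)⟩
    have hCj : IsZero ((RD j).obj C) :=
      (Triangle.isZero₁_iff_isIso₂ _ ((RD j).map_distinguished _ hC)).2 (isIso_map_unit_adjR j M)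
    have hCsupp : PT (vanJ s (i :: l)) C := by
      refine ⟨isQCohD_obj₁ _ hC hM.1 hR.1, suppD_inter (suppD_obj₁ hV _ hC hM.2 hR.2) ?_⟩
      have := (isZero_RD_iff j C).1 hCj
      rwa [Scheme.Opens.range_ι] at this
    have hD : NoMaps L' (kosJ L' η s (i :: l)) M := noMaps_cone L' η (s i) _ hz
    have hCD : NoMaps L' (kosJ L' η s (i :: l)) C := by
      intro e n g
      obtain ⟨q, hq⟩ := Triangle.coyoneda_exact₂ _ (inv_rot_of_distTriang _ hC) g (hD e n _)
      have hq0 : q = 0 := by
        apply (shiftFunctor (DCoh.D X) (1 : ℤ)).map_injective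
        rw [Functor.map_zero, ← cancel_mono ((shiftFunctorCompIsoId (DCoh.D X) (-1 : ℤ) 1 (by lia)).hom.app R),
          zero_comp]
        refine hom_rpush_eq_zero j ?_ _
        exact IsZero.of_iso ((shiftFunctor _ (1 : ℤ)).map_isZero (IsZero.of_iso ((shiftFunctor _ n).map_isZero
          (isZero_RD_cone η (s i) (kosJ L' η s l) e)) (((RD j).commShiftIso n).app _)))
          (((RD j).commShiftIso (1 : ℤ)).app _)
      rw [hq, hq0]
      exact zero_comp
    have hC0 : IsZero C := ih (i :: l) (List.nodup_cons.2 ⟨hi, hl⟩) (by simp only [List.length_cons]; omega) C hCsupp hCD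
    haveI : IsIso ((adjR j).unit.app M) := (Triangle.isZero₁_iff_isIso₂ _ hC).1 hC0
    have hj : IsZero ((RD j).obj M) := by
      refine gen_kosJ η s i (haff i) l _ ⟨isQCohD_RD j hM.1, suppD_RD j hM.2⟩ fun n g => ?_
      let iK : (RD j).obj ((DerivedCategory.Q.obj (kosJ L' η s l))⟦n⟧) ≅
          ((RD j).obj (DerivedCategory.Q.obj (kosJ L' η s l)))⟦n⟧ := ((RD j).commShiftIso n).app _
      rw [← cancel_epi iK.hom, comp_zero]
      apply ((adjR j).homEquiv _ _).injective
      rw [Adjunction.homEquiv_unit, Adjunction.homEquiv_unit, Functor.map_zero, comp_zero,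
        ← cancel_mono (inv ((adjR j).unit.app M)), zero_comp]
      exact hz 0 n _
    haveI := DerPush.isRightAdjoint_rpush j
    haveI : PreservesLimitsOfSize.{0, 0} (DCoh.Rpush j) := inferInstance
    haveI : (DCoh.Rpush j).Additive := Functor.additive_of_preserves_binary_products _
    exact ((DCoh.Rpush j).map_isZero hj).of_iso (asIso ((adjR j).unit.app M))

include η in
/-- **generation by the negative powers of a line bundle with affine generating loci** -/
theorem isZero_of_noMaps [Fintype ι] (haff : ∀ i, IsAffineOpen (CohB1.genLocus L (s i)))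
    (hcov : ∀ x : X, ∃ i, x ∈ CohB1.genLocus L (s i)) {M : DCoh.D X} (hM : DCoh.IsQCohD M)
    (hz : ∀ (e : ℕ) (n : ℤ) (g : (DCoh.inD X ((itT L' e).obj (Coh.structureModule X)))⟦n⟧ ⟶ M), g = 0) : IsZero M := by
  refine isZero_of_noMaps_aux η s haff hcov (Fintype.card ι) [] List.nodup_nil (by simp) M ⟨hM, suppD_univ M⟩ ?_
  intro e n g
  let i : DCoh.inD X ((itT L' e).obj (Coh.structureModule X)) ≅ DerivedCategory.Q.obj (itC L' e (kosJ L' η s [])) :=
    (DerivedCategory.singleFunctorIsoCompQ X.Modules 0).app _ ≪≫ DerivedCategory.Q.mapIso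
      ((HomologicalComplex.singleMapHomologicalComplex (itT L' e) (ComplexShape.up ℤ) 0).app (Coh.structureModule X)).symm
  rw [← cancel_epi (i.hom⟦n⟧'), comp_zero]
  exact hz e n _

end Main

end Groth.Agent.PerfGen
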