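import Groth.Agent.PerfGen.QCohTri
import Groth.Agent.DQPush.OpenBC
import Groth.Agent.DQPush.Basic
import Groth.Agent.DQCoh.PerfCrit
import Groth.Agent.DQCoh.AffinePerf
import Groth.Agent.DerPush.Basic
import Mathlib.CategoryTheory.Monad.Adjunction
import Mathlib.CategoryTheory.Adjunction.Unique
import Groth.Prelude.Def_DCoh3
import Groth.Prelude.Def_CohB1

/-!
Restriction to opens and direct images from opens on `D(O_X)`, objects supported on a closed subset.
-/

set_option autoImplicit false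
set_option backward.isDefEq.respectTransparency false
set_option backward.isDefEq.respectTransparency.types false
set_option linter.style.haveILetI false
set_option linter.unusedSectionVars false

universe u

open CategoryTheory Limits Pretriangulated AlgebraicGeometry

attribute [local instance] HasDerivedCategory.standard

namespace Groth.Agent.PerfGen

open Groth.Agent.DQCoh (RD rdComp rdIso rdCongr)

variable {U V W X : Scheme.{u}}

instance hasRpush' {Y : Scheme.{u}} (f : U ⟶ Y) : DCoh.HasRpush f := DerPush.hasRpush_sch f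

theorem nonempty_adjR (j : U ⟶ X) [IsOpenImmersion j] : Nonempty (RD j ⊣ DCoh.Rpush j) :=
  KInj.nonempty_adj_Qh (Scheme.Modules.restrictAdjunction j) DerPush.exists_kInj_sch (DCoh.Rpush j)
    (DerPush.rpushUnit j)

/-- `j^* ⊣ Rj_*` -/
noncomputable def adjR (j : U ⟶ X) [IsOpenImmersion j] : RD j ⊣ DCoh.Rpush j := (nonempty_adjR j).some

/-- restriction along the identity -/
noncomputable def rdId (X : Scheme.{u}) : RD (𝟙 X) ≅ 𝟭 (DCoh.D X) :=
  Localization.liftNatIso DerivedCategory.Q (HomologicalComplex.quasiIso X.Modules (ComplexShape.up ℤ))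
    (DerivedCategory.Q ⋙ RD (𝟙 X)) (DerivedCategory.Q ⋙ 𝟭 _) _ _
    ((Scheme.Modules.restrictFunctor (𝟙 X)).mapDerivedCategoryFactors ≪≫
      Functor.isoWhiskerRight (NatIso.mapHomologicalComplex Scheme.Modules.restrictFunctorId (ComplexShape.up ℤ)) _ ≪≫
      Functor.isoWhiskerRight (Functor.mapHomologicalComplexIdIso _ _) _ ≪≫ Functor.leftUnitor _ ≪≫
      (Functor.rightUnitor _).symm)

instance isIso_counit_adjR (j : U ⟶ X) [IsOpenImmersion j] : IsIso (adjR j).counit := by
  haveI : IsOpenImmersion (𝟙 U) := inferInstance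
  have e₁ : DCoh.Rpush j ⋙ RD j ≅ RD (𝟙 U) ⋙ DCoh.Rpush (𝟙 U) :=
    DQPush.rpushBCIso j (𝟙 U) j (𝟙 U) rfl (TopologicalSpace.Opens.ext (by simp [Set.eq_univ_iff_forall]))
  have e₂ : DCoh.Rpush (𝟙 U) ≅ 𝟭 (DCoh.D U) :=
    ((adjR (𝟙 U)).ofNatIsoLeft (rdId U)).rightAdjointUniq Adjunction.id
  exact (adjR j).isIso_counit_of_iso
    (e₁ ≪≫ Functor.isoWhiskerRight (rdId U) _ ≪≫ Functor.leftUnitor _ ≪≫ e₂)

instance isIso_counit_app_adjR (j : U ⟶ X) [IsOpenImmersion j] (E : DCoh.D U) :
    IsIso ((adjR j).counit.app E) := inferInstance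

instance additive_rpush (j : U ⟶ X) [IsOpenImmersion j] : (DCoh.Rpush j).Additive :=
  (adjR j).right_adjoint_additive

instance isIso_map_unit_adjR (j : U ⟶ X) [IsOpenImmersion j] (E : DCoh.D X) :
    IsIso ((RD j).map ((adjR j).unit.app E)) :=
  isIso_of_comp_hom_eq_id _ ((adjR j).left_triangle_components E)

/-- the open `k⁻¹(im j)` -/
noncomputable abbrev interO (j : U ⟶ X) (k : V ⟶ X) [IsOpenImmersion j] : V.Opens := k ⁻¹ᵁ j.opensRange

/-- its map to the source of `j` -/
noncomputable def toU (j : U ⟶ X) (k : V ⟶ X) [IsOpenImmersion j] : (interO j k : Scheme.{u}) ⟶ U :=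
  IsOpenImmersion.lift j ((interO j k).ι ≫ k) (by
    rintro _ ⟨w, rfl⟩
    exact w.2)

@[reassoc]
lemma toU_fac (j : U ⟶ X) (k : V ⟶ X) [IsOpenImmersion j] : toU j k ≫ j = (interO j k).ι ≫ k :=
  IsOpenImmersion.lift_fac _ _ _

instance isOpenImmersion_toU (j : U ⟶ X) (k : V ⟶ X) [IsOpenImmersion j] [IsOpenImmersion k] :
    IsOpenImmersion (toU j k) := by
  haveI : IsOpenImmersion (toU j k ≫ j) := by rw [toU_fac]; infer_instance
  exact IsOpenImmersion.of_comp _ j

lemma opensRange_toU (j : U ⟶ X) (k : V ⟶ X) [IsOpenImmersion j] [IsOpenImmersion k] :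
    (toU j k).opensRange = j ⁻¹ᵁ k.opensRange := by
  ext x
  simp only [Scheme.Hom.coe_opensRange, Set.mem_range, TopologicalSpace.Opens.map_coe, Set.mem_preimage]
  constructor
  · rintro ⟨w, rfl⟩
    exact ⟨(interO j k).ι.base w, by rw [← Scheme.Hom.comp_apply, ← toU_fac, Scheme.Hom.comp_apply]⟩
  · rintro ⟨v, hv⟩
    refine ⟨⟨v, ⟨x, hv.symm⟩⟩, ?_⟩
    apply j.injective
    rw [← Scheme.Hom.comp_apply, toU_fac, Scheme.Hom.comp_apply]
    exact hv

/-- base change between two opens -/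
noncomputable def bcO (j : U ⟶ X) (k : V ⟶ X) [IsOpenImmersion j] [IsOpenImmersion k] :
    DCoh.Rpush j ⋙ RD k ≅ RD (toU j k) ⋙ DCoh.Rpush (interO j k).ι :=
  DQPush.rpushBCIso j (interO j k).ι k (toU j k) (toU_fac j k).symm (opensRange_toU j k)

/-- the two restrictions to the intersection -/
noncomputable def rdSquare (j : U ⟶ X) (k : V ⟶ X) [IsOpenImmersion j] [IsOpenImmersion k] :
    RD j ⋙ RD (toU j k) ≅ RD k ⋙ RD (interO j k).ι :=
  (rdComp (toU j k) j).symm ≪≫ rdCongr (toU_fac j k) ≪≫ rdComp (interO j k).ι k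

/-! ### support -/

/-- the cohomology sheaves are supported on `T` -/
def SuppD {X : Scheme.{u}} (T : Set X) : ObjectProperty (DCoh.D X) := fun E =>
  ∀ i : ℤ, CohB1.support (DCoh.HD E i) ⊆ T

/-- cohomology of a restriction -/
noncomputable def hdRD (j : U ⟶ X) [IsOpenImmersion j] (E : DCoh.D X) (i : ℤ) :
    DCoh.HD ((RD j).obj E) i ≅ (Scheme.Modules.restrictFunctor j).obj (DCoh.HD E i) :=
  (DQCoh.homologyDerIso (Scheme.Modules.restrictFunctor j) i).app E

lemma mem_support_iff (M : X.Modules) (x : X) :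
    x ∈ CohB1.support M ↔ ¬ IsZero ((DerSch.stalkFunctor X x).obj M) := by
  refine not_congr ⟨fun h => ?_, fun h => ModuleCat.subsingleton_of_isZero h⟩
  haveI : Subsingleton ((DerSch.stalkFunctor X x).obj M) := h
  exact ModuleCat.isZero_of_subsingleton _

lemma support_eq_of_iso {M N : X.Modules} (e : M ≅ N) : CohB1.support M = CohB1.support N := by
  ext x
  rw [mem_support_iff, mem_support_iff]
  exact not_congr ⟨fun h => h.of_iso ((DerSch.stalkFunctor X x).mapIso e.symm),
    fun h => h.of_iso ((DerSch.stalkFunctor X x).mapIso e)⟩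

lemma support_restrict (j : U ⟶ X) [IsOpenImmersion j] (M : X.Modules) :
    CohB1.support ((Scheme.Modules.restrictFunctor j).obj M) = j.base ⁻¹' CohB1.support M := by
  ext y
  exact not_congr ((Scheme.Modules.restrictStalkNatIso j y).app M).addCommGroupIsoToAddEquiv.toEquiv.subsingleton_congr

lemma support_HD_RD (j : U ⟶ X) [IsOpenImmersion j] (E : DCoh.D X) (i : ℤ) :
    CohB1.support (DCoh.HD ((RD j).obj E) i) = j.base ⁻¹' CohB1.support (DCoh.HD E i) :=
  (support_eq_of_iso (hdRD j E i)).trans (support_restrict j _)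

lemma suppD_RD (j : U ⟶ X) [IsOpenImmersion j] {T : Set X} {E : DCoh.D X} (h : SuppD T E) :
    SuppD (j.base ⁻¹' T) ((RD j).obj E) := fun i => by
  rw [support_HD_RD]; exact Set.preimage_mono (h i)

lemma isZero_of_suppD_empty {E : DCoh.D X} (h : SuppD (∅ : Set X) E) : IsZero E := by
  rw [IsZero.iff_id_eq_zero]
  haveI : IsIso (0 : E ⟶ E) := by
    rw [DerivedCategory.isIso_iff]
    intro i
    have hh : IsZero ((DerivedCategory.homologyFunctor _ i).obj E) :=
      KFlat.isZero_of_stalks _ fun x => not_not.1 fun hx => h i ((mem_support_iff _ x).2 hx)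
    exact hh.isIso hh _
  have h0 := IsIso.hom_inv_id (0 : E ⟶ E)
  rw [zero_comp] at h0
  exact h0.symm

lemma suppD_univ (E : DCoh.D X) : SuppD (Set.univ : Set X) E := fun _ => Set.subset_univ _

lemma suppD_mono {T T' : Set X} (h : T ⊆ T') {E : DCoh.D X} (hE : SuppD T E) : SuppD T' E :=
  fun i => (hE i).trans h

/-- vanishing on an open is support in the complement -/
lemma isZero_RD_iff (j : U ⟶ X) [IsOpenImmersion j] (E : DCoh.D X) :
    IsZero ((RD j).obj E) ↔ SuppD (Set.range j.base)ᶜ E := by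
  constructor
  · rintro h i x hx ⟨y, rfl⟩
    have hy : y ∈ CohB1.support (DCoh.HD ((RD j).obj E) i) := by rw [support_HD_RD]; exact hx
    exact (mem_support_iff _ y).1 hy ((DerSch.stalkFunctor U y).map_isZero
      ((DerivedCategory.homologyFunctor U.Modules i).map_isZero h))
  · intro h
    refine isZero_of_suppD_empty fun i y hy => ?_
    rw [support_HD_RD] at hy
    exact h i hy ⟨y, rfl⟩

lemma isZero_RD_of_compl {T : Set X} (hT : IsClosed T) (E : DCoh.D X) :
    SuppD T E ↔ IsZero ((RD (Scheme.Opens.ι (⟨Tᶜ, hT.isOpen_compl⟩ : X.Opens))).obj E) := by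
  rw [isZero_RD_iff, Scheme.Opens.range_ι]
  simp

lemma suppD_inter {T T' : Set X} {E : DCoh.D X} (h : SuppD T E) (h' : SuppD T' E) : SuppD (T ∩ T') E :=
  fun i => Set.subset_inter (h i) (h' i)

/-- zero is local -/
lemma isZero_of_cover (j : U ⟶ X) (k : V ⟶ X) [IsOpenImmersion j] [IsOpenImmersion k]
    (hcov : Set.range j.base ∪ Set.range k.base = Set.univ) {E : DCoh.D X} (hj : IsZero ((RD j).obj E))
    (hk : IsZero ((RD k).obj E)) : IsZero E := by
  refine isZero_of_suppD_empty (suppD_mono ?_ (suppD_inter ((isZero_RD_iff j E).1 hj) ((isZero_RD_iff k E).1 hk)))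
  rw [← Set.compl_union, hcov, Set.compl_univ]

/-- being an isomorphism is local -/
lemma isIso_of_cover (j : U ⟶ X) (k : V ⟶ X) [IsOpenImmersion j] [IsOpenImmersion k]
    (hcov : Set.range j.base ∪ Set.range k.base = Set.univ) {E F : DCoh.D X} (f : E ⟶ F)
    (hj : IsIso ((RD j).map f)) (hk : IsIso ((RD k).map f)) : IsIso f := by
  obtain ⟨Z, a, b, hT⟩ := distinguished_cocone_triangle f
  refine (Triangle.isZero₃_iff_isIso₁ _ hT).1 (isZero_of_cover j k hcov ?_ ?_)
  · exact (Triangle.isZero₃_iff_isIso₁ _ ((RD j).map_distinguished _ hT)).2 hj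
  · exact (Triangle.isZero₃_iff_isIso₁ _ ((RD k).map_distinguished _ hT)).2 hk

/-- an object vanishing on one open comes from the other -/
theorem isIso_unit_of_cover (j : U ⟶ X) (k : V ⟶ X) [IsOpenImmersion j] [IsOpenImmersion k]
    (hcov : Set.range j.base ∪ Set.range k.base = Set.univ) {E : DCoh.D X} (hj : IsZero ((RD j).obj E)) :
    IsIso ((adjR k).unit.app E) := by
  refine isIso_of_cover j k hcov _ (hj.isIso ?_ _) (isIso_map_unit_adjR k E)
  exact IsZero.of_iso ((DCoh.Rpush (interO k j).ι).map_isZero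
    (((RD (interO k j).ι).map_isZero hj).of_iso ((rdSquare k j).app E))) ((bcO k j).app ((RD k).obj E))

/-- supports of direct images -/
lemma suppD_rpush (j : U ⟶ X) [IsOpenImmersion j] {T : Set X} (hT : IsClosed T) {E : DCoh.D U}
    (h : SuppD (j.base ⁻¹' T) E) : SuppD T ((DCoh.Rpush j).obj E) := by
  let O : X.Opens := ⟨Tᶜ, hT.isOpen_compl⟩
  refine (isZero_RD_of_compl hT _).2 ?_
  have hz : IsZero ((RD (toU j O.ι)).obj E) := by
    refine (isZero_RD_iff _ E).2 (suppD_mono ?_ h)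
    rintro x hx ⟨w, rfl⟩
    rw [Set.mem_preimage, ← Scheme.Hom.comp_apply, toU_fac, Scheme.Hom.comp_apply] at hx
    exact ((interO j O.ι).ι.base w).2 hx
  exact IsZero.of_iso ((DCoh.Rpush (interO j O.ι).ι).map_isZero hz) ((bcO j O.ι).app E)

lemma suppD_of_iso {T : Set X} {E F : DCoh.D X} (e : E ≅ F) (h : SuppD T E) : SuppD T F := fun i => by
  rw [← support_eq_of_iso ((DerivedCategory.homologyFunctor X.Modules i).mapIso e)]; exact h i

/-! ### quasi-coherence and perfection -/

lemma isQCohD_RD (j : U ⟶ X) [IsOpenImmersion j] {E : DCoh.D X} (h : DCoh.IsQCohD E) :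
    DCoh.IsQCohD ((RD j).obj E) := fun i => QC.isQCoh_of_iso (hdRD j E i).symm (QC.isQCoh_restrict j (h i))

lemma isPerfect_RD (j : U ⟶ X) [IsOpenImmersion j] {K : DCoh.D X} (h : DCoh.IsPerfect K) :
    DCoh.IsPerfect ((RD j).obj K) := by
  rw [DQCoh.perfect_iff_near]
  intro u
  obtain ⟨O, o, ho, v, hv, hP⟩ := (DQCoh.perfect_iff_near K).1 h (j.base u)
  haveI := ho
  obtain ⟨W, k, k', hk, hk', w, hw, hw', hkk⟩ := DQCoh.exists_common j o u v hv.symm
  haveI := hk
  haveI := hk'
  obtain ⟨E, hE, ⟨i⟩⟩ := DQCoh.perfOn_congr hkk.symm (DQCoh.perfOn_comp k' o hP)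
  exact ⟨W, k, hk, w, hw, E, hE, ⟨((rdComp k j).app K).symm ≪≫ i⟩⟩

lemma isPerfect_of_cover (j : U ⟶ X) (k : V ⟶ X) [IsOpenImmersion j] [IsOpenImmersion k]
    (hcov : Set.range j.base ∪ Set.range k.base = Set.univ) {K : DCoh.D X}
    (hj : DCoh.IsPerfect ((RD j).obj K)) (hk : DCoh.IsPerfect ((RD k).obj K)) : DCoh.IsPerfect K := by
  rw [DQCoh.perfect_iff_near]
  intro x
  rcases (show x ∈ Set.range j.base ∪ Set.range k.base by rw [hcov]; trivial) with ⟨u, rfl⟩ | ⟨u, rfl⟩
  · obtain ⟨O, o, ho, v, hv, hP⟩ := (DQCoh.perfect_iff_near _).1 hj u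
    haveI := ho
    exact ⟨O, o ≫ j, inferInstance, v, by rw [Scheme.Hom.comp_apply, hv], DQCoh.perfOn_push o j hP⟩
  · obtain ⟨O, o, ho, v, hv, hP⟩ := (DQCoh.perfect_iff_near _).1 hk u
    haveI := ho
    exact ⟨O, o ≫ k, inferInstance, v, by rw [Scheme.Hom.comp_apply, hv], DQCoh.perfOn_push o k hP⟩

end Groth.Agent.PerfGen
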