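import Groth.Agent.DQCoh.TopCohom
import Groth.Agent.DQCoh.Affine
import Groth.Agent.DRingKP.Finite

/-!
On an affine scheme the top cohomology of a pseudo-coherent object is hit by finitely many maps from `O`.
-/

set_option autoImplicit false
set_option backward.isDefEq.respectTransparency false
set_option backward.isDefEq.respectTransparency.types false
set_option linter.style.haveILetI false

universe u

open CategoryTheory Limits AlgebraicGeometry

attribute [local instance] HasDerivedCategory.standard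

namespace Groth.Agent.PerfGen

open Groth.Agent.DQCoh

variable {A : Type u} [CommRing A]

/-- classes in the top degree lift to maps from `A` -/
lemma exists_single_hit (M : Dual.D A) (b : ℤ) [M.IsLE b]
    (y : (DerivedCategory.homologyFunctor (ModuleCat.{u} A) b).obj M) :
    ∃ (β : (DerivedCategory.singleFunctor (ModuleCat.{u} A) b).obj (ModuleCat.of A A) ⟶ M)
      (e : (DerivedCategory.homologyFunctor (ModuleCat.{u} A) b).obj ((DerivedCategory.singleFunctor (ModuleCat.{u} A) b).obj (ModuleCat.of A A))),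
      ((DerivedCategory.homologyFunctor (ModuleCat.{u} A) b).map β).hom e = y := by
  obtain ⟨P, hP, ⟨eP⟩⟩ := DerivedCategory.exists_iso_Q_obj_of_isLE M b
  let H := DerivedCategory.homologyFunctor (ModuleCat.{u} A) b
  let ηP := (DerivedCategory.homologyFunctorFactors (ModuleCat.{u} A) b).app P
  let y₀ : P.homology b := ηP.hom.hom ((H.map eP.hom).hom y)
  obtain ⟨z, hz⟩ := (ModuleCat.epi_iff_surjective (P.homologyπ b)).1 inferInstance y₀
  let S : CochainComplex (ModuleCat.{u} A) ℤ :=
    (HomologicalComplex.single (ModuleCat.{u} A) (ComplexShape.up ℤ) b).obj (ModuleCat.of A A)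
  let x : ModuleCat.of A A ⟶ P.X b := ModuleCat.ofHom (LinearMap.toSpanSingleton A _ ((P.iCycles b).hom z))
  let φ : S ⟶ P := HomologicalComplex.mkHomFromSingle x (fun i hi =>
    (P.isZero_of_isStrictlyLE b i (by change b + 1 = i at hi; omega)).eq_of_tgt _ _)
  let c : S.cycles b := (HomologicalComplex.singleObjCyclesSelfIso (ComplexShape.up ℤ) b (ModuleCat.of A A)).inv.hom (1 : A)
  have hc : (S.iCycles b).hom c =
      (HomologicalComplex.singleObjXSelf (ComplexShape.up ℤ) b (ModuleCat.of A A)).inv.hom (1 : A) :=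
    LinearMap.congr_fun (congrArg ModuleCat.Hom.hom
      (HomologicalComplex.singleObjCyclesSelfIso_inv_iCycles (ComplexShape.up ℤ) b (ModuleCat.of A A))) (1 : A)
  have hcy : (HomologicalComplex.cyclesMap φ b).hom c = z := by
    refine (ModuleCat.mono_iff_injective (P.iCycles b)).1 inferInstance ?_
    refine (LinearMap.congr_fun (congrArg ModuleCat.Hom.hom (HomologicalComplex.cyclesMap_i φ b)) c).trans ?_
    refine (congrArg (φ.f b).hom hc).trans ?_
    have h1 : (HomologicalComplex.singleObjXSelf (ComplexShape.up ℤ) b (ModuleCat.of A A)).inv ≫ φ.f b = x := by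
      simp [φ, S]
    refine (LinearMap.congr_fun (congrArg ModuleCat.Hom.hom h1) (1 : A)).trans ?_
    exact one_smul A _
  let ηS := (DerivedCategory.homologyFunctorFactors (ModuleCat.{u} A) b).app S
  let σ := (DerivedCategory.singleFunctorIsoCompQ (ModuleCat.{u} A) b).app (ModuleCat.of A A)
  refine ⟨σ.hom ≫ DerivedCategory.Q.map φ ≫ eP.inv, (H.map σ.inv).hom (ηS.inv.hom ((S.homologyπ b).hom c)), ?_⟩
  have h2 : (HomologicalComplex.homologyMap φ b).hom ((S.homologyπ b).hom c) = y₀ :=
    ((LinearMap.congr_fun (congrArg ModuleCat.Hom.hom (HomologicalComplex.homologyπ_naturality φ b)) c).trans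
      (congrArg (P.homologyπ b).hom hcy)).trans hz
  have h3 : ηS.inv ≫ H.map σ.inv ≫ H.map (σ.hom ≫ DerivedCategory.Q.map φ ≫ eP.inv) =
      HomologicalComplex.homologyMap φ b ≫ ηP.inv ≫ H.map eP.inv := by
    rw [H.map_comp, H.map_comp, Iso.map_inv_hom_id_assoc]
    exact (Category.assoc _ _ _).symm.trans
      ((congrArg (· ≫ H.map eP.inv) ((DerivedCategory.homologyFunctorFactors (ModuleCat.{u} A) b).inv.naturality φ).symm).trans
        (Category.assoc _ _ _))
  refine (LinearMap.congr_fun (congrArg ModuleCat.Hom.hom h3) ((S.homologyπ b).hom c)).trans ?_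
  refine (congrArg (fun t => (H.map eP.inv).hom (ηP.inv.hom t)) h2).trans ?_
  have h4 : H.map eP.hom ≫ ηP.hom ≫ ηP.inv ≫ H.map eP.inv = 𝟙 _ := by
    rw [Iso.hom_inv_id_assoc, Iso.map_hom_inv_id]
  exact LinearMap.congr_fun (congrArg ModuleCat.Hom.hom h4) y

/-- finitely many maps from `O` hit the top cohomology -/
theorem exists_top_gens (K : DCoh.D (Spec (CommRingCat.of A)))
    (hK : ∀ m : ℤ, DCoh.IsPseudoCoherentD m K) (b : ℤ) [K.IsLE b] :
    ∃ (r : ℕ) (u : Fin r → ((DCoh.inD (Spec (CommRingCat.of A)) (Coh.structureModule _))⟦-b⟧ ⟶ K)),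
      ∀ (Z : (Spec (CommRingCat.of A)).Modules) (g : DCoh.HD K b ⟶ Z),
        (∀ k, (DerivedCategory.homologyFunctor _ b).map (u k) ≫ g = 0) → g = 0 := by
  let R := CommRingCat.of A
  have hq : DCoh.IsQCohD K := fun i => (isQCoh_cohomology_of_pseudoCoherent (i - 1) K (hK _)).1 i (by lia)
  obtain ⟨M, ⟨ε⟩⟩ := (tildeD_affine (R := R)).2.2 K |>.1 hq
  let T := tilde.functor R
  have hM : ∀ m, DRing.IsPseudoCoherent A m M := fun m =>
    (pseudoCoherent_tilde_iff M m).1 (pc_of_iso ε.symm (hK m))
  have hz : ∀ i, b < i → IsZero ((DerivedCategory.homologyFunctor (ModuleCat.{u} A) i).obj M) := fun i hi =>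
    isZero_of_tilde (((DerivedCategory.isZero_of_isLE K b i hi).of_iso
      ((DerivedCategory.homologyFunctor _ i).mapIso ε)).of_iso (hdTildeIso (R := R) M i).symm)
  haveI : M.IsLE b := (DerivedCategory.isLE_iff M b).2 hz
  haveI hfin := DRingKP.finite_top (hM b) (fun i hi => hz i (by lia))
  let H := DerivedCategory.homologyFunctor (ModuleCat.{u} A) b
  obtain ⟨r, y, hy⟩ := Module.Finite.exists_fin (R := A) (M := H.obj M)
  choose β e he using fun k => exists_single_hit M b (y k)
  let ζ : (DCoh.inD (Spec R) (Coh.structureModule _))⟦-b⟧ ≅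
      (DCoh.tildeD R).obj ((DerivedCategory.singleFunctor (ModuleCat.{u} A) b).obj (ModuleCat.of A A)) :=
    ((DerivedCategory.singleFunctors (Spec R).Modules).shiftIso (-b) b 0 (by lia)).app _ ≪≫
      (DerivedCategory.singleFunctor (Spec R).Modules b).mapIso (tildeSelf (R := R)).symm ≪≫
      ((T.mapDerivedCategorySingleFunctor b).app (ModuleCat.of A A)).symm
  refine ⟨r, fun k => ζ.hom ≫ (DCoh.tildeD R).map (β k) ≫ ε.hom, fun Z g hg => ?_⟩
  let G := DerivedCategory.homologyFunctor (Spec R).Modules b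
  let η := homologyDerIso T b
  have hnat : ∀ k, T.map (H.map (β k)) ≫ (η.inv.app M ≫ G.map ε.hom ≫ g) = 0 := fun k => by
    have h1 : T.map (H.map (β k)) ≫ η.inv.app M = η.inv.app _ ≫ G.map ((DCoh.tildeD R).map (β k)) :=
      η.inv.naturality (β k)
    have h2 : G.map ((DCoh.tildeD R).map (β k) ≫ ε.hom) ≫ g = 0 := by
      refine (cancel_epi (G.map ζ.hom)).1 ?_
      rw [comp_zero, ← Category.assoc, ← G.map_comp]
      exact hg k
    rw [reassoc_of% h1]
    exact (congrArg (η.inv.app _ ≫ ·)
      ((Category.assoc _ _ _).symm.trans ((congrArg (· ≫ g) (G.map_comp _ _).symm).trans h2))).trans comp_zero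
  let g' := η.inv.app M ≫ G.map ε.hom ≫ g
  have hg' : g' = 0 := by
    let adj := tilde.adjunction (R := R)
    have hk : ∀ k, ((adj.homEquiv _ _) g').hom (y k) = 0 := fun k => by
      have h0 : H.map (β k) ≫ (adj.homEquiv _ _) g' = 0 := by
        rw [← adj.homEquiv_naturality_left, hnat k]
        exact (adj.homEquiv_unit _ _ _).trans (by simp)
      rw [← he k]
      exact LinearMap.congr_fun (congrArg ModuleCat.Hom.hom h0) (e k)
    have h5 : (adj.homEquiv _ _) g' = (adj.homEquiv _ _) 0 := by
      refine ModuleCat.hom_ext (LinearMap.ext_on_range hy fun k => ?_)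
      rw [hk k, adj.homEquiv_unit]
      simp
    exact (adj.homEquiv _ _).injective h5
  have h6 : G.map ε.hom ≫ g = 0 := (cancel_epi (η.inv.app M)).1 (hg'.trans comp_zero.symm)
  exact (cancel_epi (G.map ε.hom)).1 (h6.trans comp_zero.symm)

end Groth.Agent.PerfGen
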