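import Groth.Agent.PerfGen.Basic
import Mathlib.CategoryTheory.Triangulated.Generators
import Mathlib.CategoryTheory.EssentiallySmall
import Mathlib.Logic.Small.Basic

/-!
A compact generator of a localizing subcategory is a classical generator of its compact objects.
-/

set_option autoImplicit false
set_option linter.unusedSectionVars false
universe w v u

namespace Groth.Agent.PerfGen

open CategoryTheory Limits Pretriangulated ZeroObject ObjectProperty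

variable {D : Type u} [Category.{v} D] [Preadditive D] [HasZeroObject D] [HasShift D ℤ]
  [∀ n : ℤ, (shiftFunctor D n).Additive] [Pretriangulated D] [IsTriangulated D]
  [∀ κ : Type w, HasColimitsOfShape (Discrete κ) D]

/-- a localizing subcategory: closed under shifts, cones and `w`-small direct sums -/
structure Localizing (P : ObjectProperty D) : Prop where
  shift : ∀ {X : D}, P X → ∀ n : ℤ, P (X⟦n⟧)
  obj₃ : ∀ T : Triangle D, T ∈ distTriang D → P T.obj₁ → P T.obj₂ → P T.obj₃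
  coprod : ∀ {κ : Type w} (X : κ → D) [HasCoproduct X], (∀ k, P (X k)) → P (∐ X)

/-- compact in `P` -/
def Cpt (P : ObjectProperty D) (C : D) : Prop :=
  P C ∧ ∀ {κ : Type w} (X : κ → D) [HasCoproduct X], (∀ k, P (X k)) → FinFac C X

variable {P : ObjectProperty D}

lemma FinFac.map {D' : Type*} [Category* D'] [Preadditive D'] (F : D ⥤ D') [F.Full] [F.Additive] {C : D}
    {κ : Type w} {X : κ → D} [HasCoproduct X] [HasCoproduct fun k => F.obj (X k)]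
    [PreservesColimit (Discrete.functor X) F] (h : FinFac C X) : FinFac (F.obj C) (fun k => F.obj (X k)) := by
  intro φ
  obtain ⟨ψ, hψ⟩ := F.map_surjective (φ ≫ sigmaComparison F X)
  obtain ⟨s, p, hp⟩ := h ψ
  refine ⟨s, fun k => F.map (p k), ?_⟩
  rw [← cancel_mono (sigmaComparison F X), ← hψ, hp, Functor.map_sum, Preadditive.sum_comp]
  exact Finset.sum_congr rfl fun k _ => by rw [Functor.map_comp, Category.assoc, ι_comp_sigmaComparison]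

lemma Cpt.finFac_shift (hP : Localizing.{w} P) {C : D} (hC : Cpt.{w} P C) (n : ℤ) {κ : Type w} (X : κ → D)
    [HasCoproduct X] (hX : ∀ k, P (X k)) : FinFac (C⟦n⟧) X := by
  have h := hC.2 (fun k => (X k)⟦(-n : ℤ)⟧) (fun k => hP.shift (hX k) _)
  exact (h.map (shiftFunctor D n)).of_iso_right fun k =>
    ((shiftFunctorCompIsoId D (-n) n (neg_add_cancel n)).app (X k))

lemma cpt_shift (hP : Localizing.{w} P) {C : D} (hC : Cpt.{w} P C) (n : ℤ) : Cpt.{w} P (C⟦n⟧) :=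
  ⟨hP.shift hC.1 n, fun X _ hX => hC.finFac_shift hP n X hX⟩

/-- the projection to a summand -/
noncomputable def proj {κ : Type w} (X : κ → D) [HasCoproduct X] (k : κ) : (∐ X) ⟶ X k := by
  classical exact Sigma.desc fun k' => if h : k' = k then eqToHom (by rw [h]) else 0

lemma sum_proj {C : D} {κ : Type w} (X : κ → D) [HasCoproduct X] (s : Finset κ) (p : ∀ k, C ⟶ X k) {k : κ}
    (hk : k ∈ s) : (∑ i ∈ s, p i ≫ Sigma.ι X i) ≫ proj X k = p k := by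
  classical
  rw [Preadditive.sum_comp, Finset.sum_eq_single k (fun i _ hi => by simp [proj, hi]) (fun h => absurd hk h)]
  simp [proj]

lemma FinFac.ext₂_left {T : Triangle D} (hT : T ∈ distTriang D) {κ : Type w} {X : κ → D} [HasCoproduct X]
    (h₁ : FinFac T.obj₁ X) (h₃ : FinFac T.obj₃ X) : FinFac T.obj₂ X := by
  classical
  intro φ
  obtain ⟨u, hu, hu'⟩ : ∃ u : T.obj₃⟦(-1 : ℤ)⟧ ⟶ T.obj₁, u ≫ T.mor₁ = 0 ∧
      ∀ {Z : D} (p : T.obj₁ ⟶ Z), u ≫ p = 0 → ∃ q, p = T.mor₁ ≫ q :=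
    ⟨T.invRotate.mor₁, comp_distTriang_mor_zero₁₂ _ (inv_rot_of_distTriang _ hT),
      fun p hp => Triangle.yoneda_exact₂ _ (inv_rot_of_distTriang _ hT) p hp⟩
  obtain ⟨s, p, hp⟩ := h₁ (T.mor₁ ≫ φ)
  have h0 : ∀ k ∈ s, u ≫ p k = 0 := fun k hk => by
    rw [← sum_proj X s p hk, ← hp, ← Category.assoc, ← Category.assoc, hu, zero_comp, zero_comp]
  have hq : ∀ k, ∃ q : T.obj₂ ⟶ X k, k ∈ s → p k = T.mor₁ ≫ q := fun k => by
    by_cases hk : k ∈ s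
    · obtain ⟨q, hq⟩ := hu' (p k) (h0 k hk)
      exact ⟨q, fun _ => hq⟩
    · exact ⟨0, fun h => absurd h hk⟩
  choose q hq using hq
  obtain ⟨ψ, hψ⟩ := Triangle.yoneda_exact₂ _ hT (φ - ∑ k ∈ s, q k ≫ Sigma.ι X k) (by
    rw [Preadditive.comp_sub, hp, Preadditive.comp_sum, sub_eq_zero]
    exact Finset.sum_congr rfl fun k hk => by rw [hq k hk, Category.assoc])
  obtain ⟨t, r, hr⟩ := h₃ ψ
  refine ⟨s ∪ t, fun k => (if k ∈ s then q k else 0) + (if k ∈ t then T.mor₂ ≫ r k else 0), ?_⟩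
  rw [sub_eq_iff_eq_add.1 hψ, hr, Preadditive.comp_sum]
  simp only [Preadditive.add_comp, Finset.sum_add_distrib, ite_comp, zero_comp, Finset.sum_ite_mem,
    Finset.union_inter_cancel_left, Finset.union_inter_cancel_right]
  rw [add_comm]
  congr 1
  exact Finset.sum_congr rfl fun i _ => (Category.assoc _ _ _).symm

lemma cpt_ext₂ {T : Triangle D} (hT : T ∈ distTriang D) (h₂ : P T.obj₂)
    (h₁ : Cpt.{w} P T.obj₁) (h₃ : Cpt.{w} P T.obj₃) : Cpt.{w} P T.obj₂ :=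
  ⟨h₂, fun X _ hX => FinFac.ext₂_left hT (h₁.2 X hX) (h₃.2 X hX)⟩

lemma cpt_ext₃ (hP : Localizing.{w} P) {T : Triangle D} (hT : T ∈ distTriang D)
    (h₁ : Cpt.{w} P T.obj₁) (h₂ : Cpt.{w} P T.obj₂) : Cpt.{w} P T.obj₃ :=
  cpt_ext₂ (rot_of_distTriang _ hT) (hP.obj₃ _ hT h₁.1 h₂.1) h₂ (cpt_shift hP h₁ 1)

section Fac

/-- the property of being equal to `G` -/
abbrev only (G : D) : ObjectProperty D := fun Y => Y = G

variable (G : D)

/-- compact objects in the envelope of `G` -/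
def EnvC (P : ObjectProperty D) (W : D) : Prop :=
  triangEnvelope (only G) W ∧ Cpt.{w} P W

/-- factors through a compact object of the envelope -/
def Fac (P : ObjectProperty D) {C Z : D} (φ : C ⟶ Z) : Prop :=
  ∃ (W : D) (g : C ⟶ W) (h : W ⟶ Z), EnvC.{w} G P W ∧ g ≫ h = φ

variable {G}

instance nonempty_only : (only G).Nonempty := ⟨⟨G, rfl⟩⟩

lemma envC_self (hG : Cpt.{w} P G) : EnvC.{w} G P G := ⟨le_triangEnvelope _ _ rfl, hG⟩

lemma envC_shift (hP : Localizing.{w} P) {W : D} (hW : EnvC.{w} G P W) (n : ℤ) : EnvC.{w} G P (W⟦n⟧) :=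
  ⟨(triangEnvelope (only G)).le_shift n _ hW.1, cpt_shift hP hW.2 n⟩

lemma envC_ext₃ (hP : Localizing.{w} P) (T : Triangle D) (hT : T ∈ distTriang D) (h₁ : EnvC.{w} G P T.obj₁)
    (h₂ : EnvC.{w} G P T.obj₂) : EnvC.{w} G P T.obj₃ :=
  ⟨(triangEnvelope (only G)).ext_of_isTriangulatedClosed₃ T hT h₁.1 h₂.1, cpt_ext₃ hP hT h₁.2 h₂.2⟩

lemma envC_biprod (hP : Localizing.{w} P) {W W' : D} (hW : EnvC.{w} G P W) (hW' : EnvC.{w} G P W') :
    EnvC.{w} G P (W ⊞ W') := by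
  let T := (binaryBiproductTriangle W W').invRotate
  have hT : T ∈ distTriang D := inv_rot_of_distTriang _ (binaryBiproductTriangle_distinguished W W')
  exact envC_ext₃ hP T hT (envC_shift hP hW' (-1)) hW

lemma fac_zero (hG : Cpt.{w} P G) {C Z : D} : Fac.{w} G P (0 : C ⟶ Z) :=
  ⟨G, 0, 0, envC_self hG, zero_comp⟩

lemma fac_add (hP : Localizing.{w} P) {C Z : D} {φ φ' : C ⟶ Z} (h₁ : Fac.{w} G P φ) (h₂ : Fac.{w} G P φ') :
    Fac.{w} G P (φ + φ') := by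
  obtain ⟨W, g, h, hW, rfl⟩ := h₁
  obtain ⟨W', g', h', hW', rfl⟩ := h₂
  exact ⟨W ⊞ W', biprod.lift g g', biprod.desc h h', envC_biprod hP hW hW', biprod.lift_desc⟩

lemma fac_sigma (hP : Localizing.{w} P) (hG : Cpt.{w} P G) {C Z : D} (hC : Cpt.{w} P C) {κ : Type w} {X : κ → D}
    (p : (∐ X) ⟶ Z) (hX : ∀ k, ∃ n : ℤ, Nonempty (X k ≅ G⟦n⟧)) (hXP : ∀ k, P (X k)) (c : C ⟶ ∐ X) :
    Fac.{w} G P (c ≫ p) := by
  classical
  obtain ⟨s, q, rfl⟩ := hC.2 X hXP c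
  rw [Preadditive.sum_comp]
  refine Finset.sum_induction _ (fun t => Fac.{w} G P t) (fun a b => fac_add hP) (fac_zero hG) fun k _ => ?_
  obtain ⟨n, ⟨e⟩⟩ := hX k
  exact ⟨G⟦n⟧, q k ≫ e.hom, e.inv ≫ Sigma.ι X k ≫ p, envC_shift hP (envC_self hG) n, by simp⟩

theorem fac_of_system [P.IsClosedUnderIsomorphisms] (hP : Localizing.{w} P) (hG : Cpt.{w} P G) (K : ℕ → D)
    (f : ∀ n, K n ⟶ K (n + 1))
    (h0 : ∃ (κ : Type w) (m : κ → ℤ), Nonempty (K 0 ≅ ∐ fun k => G⟦m k⟧))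
    (hstep : ∀ n, ∃ (κ : Type w) (m : κ → ℤ) (y : (∐ fun k => G⟦m k⟧) ⟶ K n)
      (z : K (n + 1) ⟶ (∐ fun k => G⟦m k⟧)⟦(1 : ℤ)⟧), Triangle.mk y (f n) z ∈ distTriang D)
    (C : D) (hC : Cpt.{w} P C) (n : ℕ) (φ : C ⟶ K n) : Fac.{w} G P φ := by
  classical
  induction n generalizing C with
  | zero =>
    obtain ⟨κ, m, ⟨e⟩⟩ := h0
    have := fac_sigma hP hG hC (X := fun k => G⟦m k⟧) e.inv (fun k => ⟨m k, ⟨Iso.refl _⟩⟩)
      (fun k => hP.shift hG.1 _) (φ ≫ e.hom)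
    rwa [Category.assoc, Iso.hom_inv_id, Category.comp_id] at this
  | succ n ih =>
    obtain ⟨κ, m, y, z, hT⟩ := hstep n
    let X : κ → D := fun k => G⟦m k⟧
    have : IsIso (sigmaComparison (shiftFunctor D (1 : ℤ)) X) := inferInstance
    obtain ⟨W, c, u, hW, hcu⟩ := fac_sigma hP hG hC (sigmaComparison (shiftFunctor D (1 : ℤ)) X)
      (fun k => ⟨m k + 1, ⟨((shiftFunctorAdd D (m k) 1).app G).symm⟩⟩)
      (fun k => hP.shift (hP.shift hG.1 _) _)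
      (φ ≫ z ≫ inv (sigmaComparison (shiftFunctor D (1 : ℤ)) X))
    replace hcu : c ≫ u = φ ≫ z := by simpa using hcu
    -- fibre of `c`
    obtain ⟨C₀, α, β, hF⟩ := distinguished_cocone_triangle₁ c
    have hF' := inv_rot_of_distTriang _ hF
    have hC₀P : P C₀ := hP.obj₃ _ (inv_rot_of_distTriang _ hF') (hP.shift hC.1 _) (hP.shift hW.2.1 _)
    have hC₀ : Cpt.{w} P C₀ := cpt_ext₂ hF' hC₀P (cpt_shift hP hW.2 (-1)) hC
    have hαc : α ≫ c = 0 := comp_distTriang_mor_zero₁₂ _ hF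
    obtain ⟨ψ, hψ⟩ : ∃ ψ : C₀ ⟶ K n, α ≫ φ = ψ ≫ f n :=
      Triangle.coyoneda_exact₂ _ (rot_of_distTriang _ hT) (α ≫ φ)
        (show (α ≫ φ) ≫ z = 0 by rw [Category.assoc, ← hcu, reassoc_of% hαc, zero_comp])
    obtain ⟨E₀, a₀, b₀, hE₀, hab⟩ := ih C₀ hC₀ ψ
    let δ : W⟦(-1 : ℤ)⟧ ⟶ C₀ := (Triangle.mk α c β).invRotate.mor₁
    have hδα : δ ≫ α = 0 := comp_distTriang_mor_zero₁₂ _ hF'
    obtain ⟨E₁, j, k', hE₁⟩ := distinguished_cocone_triangle (δ ≫ a₀)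
    have hE₁' : EnvC.{w} G P E₁ := envC_ext₃ hP _ hE₁ (envC_shift hP hW (-1)) hE₀
    obtain ⟨g, hg⟩ : ∃ g : C ⟶ E₁, a₀ ≫ j = α ≫ g :=
      Triangle.yoneda_exact₂ _ hF' (a₀ ≫ j) (by
        show δ ≫ a₀ ≫ j = 0
        rw [← Category.assoc]
        exact comp_distTriang_mor_zero₁₂ _ hE₁)
    obtain ⟨h, hh⟩ : ∃ h : E₁ ⟶ K (n + 1), b₀ ≫ f n = j ≫ h :=
      Triangle.yoneda_exact₂ _ hE₁ (b₀ ≫ f n) (by
        show (δ ≫ a₀) ≫ b₀ ≫ f n = 0
        rw [Category.assoc, reassoc_of% hab, ← hψ, reassoc_of% hδα, zero_comp])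
    obtain ⟨d, hd⟩ : ∃ d : W ⟶ K (n + 1), φ - g ≫ h = c ≫ d :=
      Triangle.yoneda_exact₂ _ hF (φ - g ≫ h) (by
        show α ≫ (φ - g ≫ h) = 0
        rw [Preadditive.comp_sub, ← reassoc_of% hg, ← hh, reassoc_of% hab, hψ, sub_self])
    rw [← sub_add_cancel φ (g ≫ h), hd]
    exact fac_add hP ⟨W, c, d, hW, rfl⟩ ⟨E₁, g, h, hE₁', rfl⟩

end Fac

/-- maps from a compact object into a telescope come from a finite stage -/
theorem exists_stage [P.IsClosedUnderIsomorphisms] (hP : Localizing.{w} P) {K : ULift.{w} ℕ → D}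
    (hK : ∀ m, P (K m)) (f : ∀ n : ℕ, K ⟨n⟩ ⟶ K ⟨n + 1⟩) {X : D} (q : (∐ K) ⟶ X) (δ : X ⟶ (∐ K)⟦(1 : ℤ)⟧)
    (hT : Triangle.mk (𝟙 _ - Sigma.desc fun m : ULift.{w} ℕ => f m.down ≫ Sigma.ι K ⟨m.down + 1⟩) q δ ∈ distTriang D)
    {C : D} (hC : Cpt.{w} P C) (v : C ⟶ X) :
    ∃ (n : ℕ) (t : C ⟶ K ⟨n⟩), v = t ≫ Sigma.ι K ⟨n⟩ ≫ q := by
  classical
  let σ : ∐ K ⟶ ∐ K := Sigma.desc fun m : ULift.{w} ℕ => f m.down ≫ Sigma.ι K ⟨m.down + 1⟩
  have hσ : ∀ n, Sigma.ι K ⟨n⟩ ≫ σ = f n ≫ Sigma.ι K ⟨n + 1⟩ := fun n =>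
    Sigma.ι_desc (fun m : ULift.{w} ℕ => f m.down ≫ Sigma.ι K ⟨m.down + 1⟩) ⟨n⟩
  have hq : ∀ n, Sigma.ι K ⟨n⟩ ≫ q = f n ≫ Sigma.ι K ⟨n + 1⟩ ≫ q := fun n => by
    have h : (𝟙 _ - σ) ≫ q = 0 := comp_distTriang_mor_zero₁₂ _ hT
    have := congrArg (fun t => Sigma.ι K ⟨n⟩ ≫ t) h
    simpa [Preadditive.sub_comp, Preadditive.comp_sub, reassoc_of% (hσ n), sub_eq_zero] using this
  have hmono : ∀ t : C⟦(-1 : ℤ)⟧ ⟶ ∐ K, t ≫ (𝟙 _ - σ) = 0 → t = 0 := by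
    intro t ht
    obtain ⟨s, x, hx⟩ := (cpt_shift hP hC (-1)).2 K hK t
    have ht' : t = t ≫ σ := sub_eq_zero.1 (by simpa [Preadditive.comp_sub] using ht)
    let pr : ∀ n : ℕ, (∐ K) ⟶ K ⟨n⟩ := fun n => Sigma.desc fun m =>
      if h : m = ⟨n⟩ then eqToHom (by rw [h]) else 0
    have hpr : ∀ n, Sigma.ι K ⟨n⟩ ≫ pr n = 𝟙 _ := fun n => by simp [pr]
    have hpr' : ∀ (n : ℕ) (m : ULift.{w} ℕ), m ≠ ⟨n⟩ → Sigma.ι K m ≫ pr n = 0 := fun n m h => by simp [pr, h]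
    have hcomp : ∀ n, t ≫ pr n = 0 := by
      intro n
      induction n with
      | zero =>
        have : σ ≫ pr 0 = 0 := Sigma.hom_ext _ _ fun ⟨m⟩ => by
          rw [reassoc_of% (hσ m), hpr' 0 ⟨m + 1⟩ (by simp [ULift.ext_iff]), comp_zero, comp_zero]
        rw [ht', Category.assoc, this, comp_zero]
      | succ n ih =>
        have : σ ≫ pr (n + 1) = pr n ≫ f n := Sigma.hom_ext _ _ fun ⟨m⟩ => by
          rw [reassoc_of% (hσ m)]
          by_cases h : m = n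
          · subst h; rw [hpr, reassoc_of% (hpr m)]; simp
          · rw [hpr' (n + 1) ⟨m + 1⟩ (by simpa [ULift.ext_iff] using h),
              reassoc_of% (hpr' n ⟨m⟩ (by simpa [ULift.ext_iff] using h))]
            simp
        rw [ht', Category.assoc, this, reassoc_of% ih, zero_comp]
    rw [hx]
    refine Finset.sum_eq_zero fun m hm => ?_
    have h3 := hcomp m.down
    rw [hx, Preadditive.sum_comp, Finset.sum_eq_single m
      (fun m' _ h => by rw [Category.assoc, hpr' m.down m' h, comp_zero]) (fun h => absurd hm h),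
      Category.assoc, hpr m.down, Category.comp_id] at h3
    rw [h3, zero_comp]
  have hv : v ≫ δ = 0 := by
    have h31 : δ ≫ (𝟙 _ - σ)⟦(1 : ℤ)⟧' = 0 := comp_distTriang_mor_zero₃₁ _ hT
    let e := shiftFunctorCompIsoId D (1 : ℤ) (-1) (by lia)
    apply (shiftFunctor D (-1 : ℤ)).map_injective
    rw [Functor.map_zero, ← cancel_mono (e.hom.app (∐ K)), zero_comp]
    refine hmono _ ?_
    have hnat : ((𝟙 _ - σ)⟦(1 : ℤ)⟧')⟦(-1 : ℤ)⟧' ≫ e.hom.app _ = e.hom.app _ ≫ (𝟙 _ - σ) :=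
      e.hom.naturality _
    rw [Category.assoc, ← hnat, ← Functor.map_comp_assoc, Category.assoc, h31]
    simp
  obtain ⟨t, rfl⟩ := Triangle.coyoneda_exact₃ _ hT v hv
  change C ⟶ ∐ K at t
  obtain ⟨s, x, hx⟩ := hC.2 K hK t
  subst hx
  have raise : ∀ n k (g : C ⟶ K ⟨n⟩), ∃ g' : C ⟶ K ⟨n + k⟩,
      g ≫ Sigma.ι K ⟨n⟩ ≫ q = g' ≫ Sigma.ι K ⟨n + k⟩ ≫ q := by
    intro n k g
    induction k with
    | zero => exact ⟨g, rfl⟩
    | succ k ih =>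
      obtain ⟨g', hg'⟩ := ih
      exact ⟨g' ≫ f (n + k), by rw [hg', hq (n + k), Category.assoc]; rfl⟩
  obtain ⟨N, hN⟩ := (s.image ULift.down).finite_toSet.bddAbove
  have hle : ∀ m ∈ s, ∃ g' : C ⟶ K ⟨N⟩, x m ≫ Sigma.ι K m ≫ q = g' ≫ Sigma.ι K ⟨N⟩ ≫ q := fun m hm => by
    obtain ⟨k, hk⟩ := Nat.exists_eq_add_of_le (hN (Finset.mem_coe.2 (Finset.mem_image_of_mem ULift.down hm)))
    subst hk
    exact raise m.down k (x m)
  choose g' hg' using hle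
  refine ⟨N, ∑ m ∈ s.attach, g' m.1 m.2, ?_⟩
  change (∑ m ∈ s, x m ≫ Sigma.ι K m) ≫ q = _
  rw [Preadditive.sum_comp, Preadditive.sum_comp, ← Finset.sum_attach s (fun m => (x m ≫ Sigma.ι K m) ≫ q)]
  exact Finset.sum_congr rfl fun m _ => (Category.assoc _ _ _).trans (hg' m.1 m.2)

/-- `G` generates `P` -/
def Gen (P : ObjectProperty D) (G : D) : Prop :=
  ∀ M : D, P M → (∀ (n : ℤ) (g : G⟦n⟧ ⟶ M), g = 0) → IsZero M

variable [LocallySmall.{w} D]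

lemma exists_cell_step (hP : Localizing.{w} P) {G : D} (hG : P G) {X K : D} (hK : P K) (u : K ⟶ X) :
    ∃ (K₁ : D) (_ : P K₁) (u₁ : K₁ ⟶ X) (f : K ⟶ K₁),
      (∃ (κ : Type w) (m : κ → ℤ) (y : (∐ fun k => G⟦m k⟧) ⟶ K)
        (z : K₁ ⟶ (∐ fun k => G⟦m k⟧)⟦(1 : ℤ)⟧), Triangle.mk y f z ∈ distTriang D) ∧
      f ≫ u₁ = u ∧ ∀ (m : ℤ) (g : G⟦m⟧ ⟶ K), g ≫ u = 0 → g ≫ f = 0 := by
  classical
  let e : (Σ m : ℤ, Shrink.{w} { g : G⟦m⟧ ⟶ K // g ≫ u = 0 }) → D := fun j => G⟦j.1⟧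
  let y : (∐ e) ⟶ K := Sigma.desc fun j => ((equivShrink _).symm j.2).1
  obtain ⟨K₁, f, z, h⟩ := distinguished_cocone_triangle y
  have hy : y ≫ u = 0 := Sigma.hom_ext _ _ fun j => by
    rw [Sigma.ι_desc_assoc, comp_zero]
    exact ((equivShrink _).symm j.2).2
  obtain ⟨u₁, hu₁⟩ : ∃ u₁ : K₁ ⟶ X, u = f ≫ u₁ := Triangle.yoneda_exact₂ _ h u hy
  refine ⟨K₁, hP.obj₃ _ h (hP.coprod _ fun j => hP.shift hG _) hK, u₁, f, ⟨(Σ m : ℤ, Shrink.{w} { g : G⟦m⟧ ⟶ K // g ≫ u = 0 }), fun j => j.1, y, z, h⟩, hu₁.symm,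
    fun m g hg => ?_⟩
  have h0 : y ≫ f = 0 := comp_distTriang_mor_zero₁₂ _ h
  have h1 : Sigma.ι e ⟨m, equivShrink _ ⟨g, hg⟩⟩ ≫ y = g :=
    (Sigma.ι_desc _ _).trans (by simp)
  rw [← h1, Category.assoc, h0, comp_zero]

lemma exists_cell_zero (hP : Localizing.{w} P) {G : D} (hG : P G) (X : D) :
    ∃ (K : D) (_ : P K) (u : K ⟶ X), (∃ (κ : Type w) (m : κ → ℤ), Nonempty (K ≅ ∐ fun k => G⟦m k⟧)) ∧
      ∀ (m : ℤ) (t : G⟦m⟧ ⟶ X), ∃ t' : G⟦m⟧ ⟶ K, t' ≫ u = t := by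
  let e : (Σ m : ℤ, Shrink.{w} (G⟦m⟧ ⟶ X)) → D := fun j => G⟦j.1⟧
  refine ⟨∐ e, hP.coprod e fun j => hP.shift hG _, Sigma.desc fun j => (equivShrink _).symm j.2,
    ⟨(Σ m : ℤ, Shrink.{w} (G⟦m⟧ ⟶ X)), fun j => j.1, ⟨Iso.refl _⟩⟩, fun m t => ⟨Sigma.ι e ⟨m, equivShrink _ t⟩, ?_⟩⟩
  exact (Sigma.ι_desc _ _).trans (Equiv.symm_apply_apply _ _)

lemma exists_cell_system (hP : Localizing.{w} P) {G : D} (hG : P G) (X : D) :
    ∃ (K : ℕ → D) (u : ∀ n, K n ⟶ X) (f : ∀ n, K n ⟶ K (n + 1)),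
      (∀ n, P (K n)) ∧ (∃ (κ : Type w) (m : κ → ℤ), Nonempty (K 0 ≅ ∐ fun k => G⟦m k⟧)) ∧
      (∀ n, ∃ (κ : Type w) (m : κ → ℤ) (y : (∐ fun k => G⟦m k⟧) ⟶ K n)
        (z : K (n + 1) ⟶ (∐ fun k => G⟦m k⟧)⟦(1 : ℤ)⟧), Triangle.mk y (f n) z ∈ distTriang D) ∧
      (∀ n, f n ≫ u (n + 1) = u n) ∧ (∀ n (m : ℤ) (g : G⟦m⟧ ⟶ K n), g ≫ u n = 0 → g ≫ f n = 0) ∧
      (∀ (m : ℤ) (t : G⟦m⟧ ⟶ X), ∃ t' : G⟦m⟧ ⟶ K 0, t' ≫ u 0 = t) := by
  obtain ⟨K₀, hK₀, u₀, h0, hsurj⟩ := exists_cell_zero hP hG X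
  choose K₁ hK₁ u₁ f hstep hcompat hkill using
    fun p : Σ' K : D, PLift (P K) × (K ⟶ X) => exists_cell_step hP hG p.2.1.down p.2.2
  let S : ℕ → Σ' K : D, PLift (P K) × (K ⟶ X) :=
    fun n => Nat.rec ⟨K₀, ⟨hK₀⟩, u₀⟩ (fun _ p => ⟨K₁ p, ⟨hK₁ p⟩, u₁ p⟩) n
  exact ⟨fun n => (S n).1, fun n => (S n).2.2, fun n => f (S n), fun n => (S n).2.1.down, h0,
    fun n => hstep (S n), fun n => hcompat (S n), fun n => hkill (S n), hsurj⟩

/-- a map from a compact object into an object generated by `G` factors through the envelope of `G` -/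
theorem exists_fac {P₁ : ObjectProperty D} [P₁.IsClosedUnderIsomorphisms] [P.IsClosedUnderIsomorphisms]
    (hP : Localizing.{w} P) (hP₁ : Localizing.{w} P₁) (hle : P ≤ P₁) {G : D} (hGP : P G) (hG : Cpt.{w} P₁ G)
    (hgen : Gen P G) {X : D} (hX : P X) {C : D} (hC : Cpt.{w} P₁ C) (φ : C ⟶ X) : Fac.{w} G P₁ φ := by
  classical
  obtain ⟨K, u, f, hK, h0, hstep, hcompat, hkill, hsurj⟩ := exists_cell_system hP hGP X
  let K' : ULift.{w} ℕ → D := fun m => K m.down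
  let σ : ∐ K' ⟶ ∐ K' := Sigma.desc fun m => f m.down ≫ Sigma.ι K' ⟨m.down + 1⟩
  obtain ⟨Xω, q, δ, hT⟩ := distinguished_cocone_triangle (𝟙 _ - σ)
  let u' : (∐ K') ⟶ X := Sigma.desc fun m => u m.down
  obtain ⟨r, hr⟩ : ∃ r : Xω ⟶ X, u' = q ≫ r :=
    Triangle.yoneda_exact₂ _ hT u' (by
      suffices h : (𝟙 (∐ K') - σ) ≫ u' = 0 from h
      refine Sigma.hom_ext _ _ fun m => ?_
      simp [σ, u', K', Preadditive.sub_comp, Preadditive.comp_sub, hcompat m.down])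
  have hqr : ∀ n, Sigma.ι K' ⟨n⟩ ≫ q ≫ r = u n := fun n => by rw [← hr]; simp [u']
  have hιq : ∀ n, Sigma.ι K' ⟨n⟩ ≫ q = f n ≫ Sigma.ι K' ⟨n + 1⟩ ≫ q := fun n => by
    have h : (𝟙 _ - σ) ≫ q = 0 := comp_distTriang_mor_zero₁₂ _ hT
    have := congrArg (fun t => Sigma.ι K' ⟨n⟩ ≫ t) h
    simpa [σ, K', Preadditive.sub_comp, Preadditive.comp_sub, sub_eq_zero] using this
  have hXω : P Xω := hP.obj₃ _ hT (hP.coprod _ fun m => hK _) (hP.coprod _ fun m => hK _)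
  have hbij : ∀ m : ℤ, Function.Bijective fun t : G⟦m⟧ ⟶ Xω => t ≫ r := by
    intro m
    refine ⟨fun t t' h => ?_, fun t => ?_⟩
    · rw [← sub_eq_zero]
      have hz : (t - t') ≫ r = 0 := by rw [Preadditive.sub_comp, sub_eq_zero]; exact h
      generalize t - t' = v at hz ⊢
      obtain ⟨n, g, rfl⟩ := exists_stage hP₁ (fun m => hle _ (hK m.down)) (fun n => f n) q δ hT (cpt_shift hP₁ hG m) v
      rw [Category.assoc, Category.assoc, hqr] at hz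
      rw [hιq, reassoc_of% (hkill n m g hz), zero_comp]
    · obtain ⟨t', ht'⟩ := hsurj m t
      refine ⟨t' ≫ Sigma.ι K' ⟨0⟩ ≫ q, ?_⟩
      show (_ ≫ _ ≫ q) ≫ r = t
      rw [Category.assoc, Category.assoc, hqr, ht']
  have : IsIso r := by
    obtain ⟨M, a, b, hM⟩ := distinguished_cocone_triangle r
    refine (Triangle.isZero₃_iff_isIso₁ _ hM).1 (hgen M (hP.obj₃ _ hM hXω hX) fun n g => ?_)
    have hg : g ≫ b = 0 := by
      let e := shiftFunctorCompIsoId D (1 : ℤ) (-1) (by lia)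
      let e' := (shiftFunctorAdd' D n (-1) (n - 1) (by lia)).app G
      apply (shiftFunctor D (-1 : ℤ)).map_injective
      rw [Functor.map_zero, ← cancel_mono (e.hom.app Xω), zero_comp, ← cancel_epi e'.hom, comp_zero]
      refine (hbij (n - 1)).1 ?_
      have h31 : b ≫ r⟦(1 : ℤ)⟧' = 0 := comp_distTriang_mor_zero₃₁ _ hM
      have hnat : (r⟦(1 : ℤ)⟧')⟦(-1 : ℤ)⟧' ≫ e.hom.app _ = e.hom.app _ ≫ r := e.hom.naturality _
      simp only [Category.assoc, zero_comp]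
      rw [← hnat, ← Functor.map_comp_assoc, Category.assoc, h31]
      simp
    obtain ⟨t, ht⟩ := Triangle.coyoneda_exact₃ _ hM g hg
    obtain ⟨t', rfl⟩ := (hbij n).2 t
    rw [ht]
    change (t' ≫ r) ≫ a = 0
    have h12 : r ≫ a = 0 := comp_distTriang_mor_zero₁₂ _ hM
    rw [Category.assoc, h12, comp_zero]
  obtain ⟨n, g, hg⟩ := exists_stage hP₁ (fun m => hle _ (hK m.down)) (fun n => f n) q δ hT hC (φ ≫ inv r)
  obtain ⟨W, a, b, hW, rfl⟩ := fac_of_system hP₁ hG K f h0 hstep C hC n g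
  refine ⟨W, a, b ≫ Sigma.ι K' ⟨n⟩ ≫ q ≫ r, hW, ?_⟩
  have h2 := congrArg (fun t => t ≫ r) hg
  simpa using h2.symm

/-- **a compact generator classically generates the compact objects** -/
theorem envelope_of_gen [P.IsClosedUnderIsomorphisms] (hP : Localizing.{w} P) {G : D} (hG : Cpt.{w} P G)
    (hgen : Gen P G) {X : D} (hX : Cpt.{w} P X) : triangEnvelope (only G) X := by
  obtain ⟨W, a, b, hW, hab⟩ := exists_fac hP hP le_rfl hG.1 hG hgen hX.1 hX (𝟙 X)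
  exact ObjectProperty.prop_of_retract _ (Retract.mk a b hab) hW.1

end Groth.Agent.PerfGen
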