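import Groth.Agent.PerfGen.Open
import Groth.Agent.PerfGen.Envelope
import Groth.Agent.DQCoh.AffinePerf
import Groth.Agent.DQCoh.Affine
import Groth.Agent.DRingKP.DCEv
import Groth.Prelude.Def_Koszul
import Groth.Agent.PerfLocal.Perfect
import Mathlib.Algebra.Homology.DerivedCategory.Linear

/-!
The Koszul complex generates the objects of `D_QCoh` of an affine scheme supported on its zero locus.
-/

set_option autoImplicit false
set_option backward.isDefEq.respectTransparency false
set_option backward.isDefEq.respectTransparency.types false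
set_option linter.style.haveILetI false
set_option linter.unusedSectionVars false

universe u

open CategoryTheory Limits Pretriangulated AlgebraicGeometry

attribute [local instance] HasDerivedCategory.standard

namespace Groth.Agent.PerfGen

variable {A : Type u} [CommRing A]

/-- the Koszul object -/
noncomputable abbrev kD (l : List A) : Dual.D A := DerivedCategory.Q.obj (Koszul.koszul A l)

/-- the cohomology is `f`-power torsion -/
def IsTors (f : A) (M : Dual.D A) : Prop :=
  ∀ (i : ℤ) (x : (DerivedCategory.homologyFunctor (ModuleCat.{u} A) i).obj M), ∃ N : ℕ, f ^ N • x = 0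

/-- `A` in degree zero -/
noncomputable abbrev oneD (A : Type u) [CommRing A] : Dual.D A :=
  (DerivedCategory.singleFunctor (ModuleCat.{u} A) 0).obj (ModuleCat.of A A)

lemma ev0_smul {M : Dual.D A} (c : A) (α : oneD A ⟶ M) : DRingKP.ev0 (c • α) = c • DRingKP.ev0 α := by
  have h : c • α = (DerivedCategory.singleFunctor (ModuleCat.{u} A) 0).map (c • 𝟙 (ModuleCat.of A A)) ≫ α := by
    rw [Functor.map_smul, CategoryTheory.Functor.map_id, Linear.smul_comp, Category.id_comp]
  rw [h, DRingKP.ev0_precomp, Linear.smul_comp, Category.id_comp]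

lemma ev0_zero (M : Dual.D A) : DRingKP.ev0 (0 : oneD A ⟶ M) = 0 := by
  simp [DRingKP.ev0]

lemma smul_eq_zero_iff_ev0 {M : Dual.D A} (c : A) (α : oneD A ⟶ M) :
    c • α = 0 ↔ c • (DRingKP.ev0 α).hom (1 : A) = 0 := by
  haveI : Projective (ModuleCat.of A A) := (IsProjective.iff_projective _).1 inferInstance
  rw [← (DRingKP.ev0_bijective (P := ModuleCat.of A A) M).1.eq_iff]
  constructor
  · intro h
    have h' : DRingKP.ev0 (c • α) = DRingKP.ev0 (0 : oneD A ⟶ M) := h
    rw [ev0_smul, ev0_zero] at h'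
    have := congrArg (fun g : ModuleCat.of A A ⟶ _ => g.hom (1 : A)) h'
    exact this
  · intro h
    change DRingKP.ev0 (c • α) = DRingKP.ev0 (0 : oneD A ⟶ M)
    rw [ev0_smul, ev0_zero]
    refine ModuleCat.hom_ext (LinearMap.ext_ring ?_)
    exact h

lemma exists_ev0 (M : Dual.D A) (x : (DerivedCategory.homologyFunctor (ModuleCat.{u} A) 0).obj M) :
    ∃ α : oneD A ⟶ M, (DRingKP.ev0 α).hom (1 : A) = x := by
  haveI : Projective (ModuleCat.of A A) := (IsProjective.iff_projective _).1 inferInstance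
  obtain ⟨α, hα⟩ := (DRingKP.ev0_bijective (P := ModuleCat.of A A) M).2 (ModuleCat.ofHom (LinearMap.toSpanSingleton A _ x))
  exact ⟨α, by rw [show DRingKP.ev0 α = _ from hα]; simp⟩

/-- cohomology of shifts -/
noncomputable def hShift (M : Dual.D A) (i : ℤ) :
    (DerivedCategory.homologyFunctor (ModuleCat.{u} A) 0).obj (M⟦i⟧) ≅
      (DerivedCategory.homologyFunctor (ModuleCat.{u} A) i).obj M :=
  ((DerivedCategory.homologyFunctor (ModuleCat.{u} A) 0).shiftIso i 0 i (by lia)).app M

lemma IsTors.shift {f : A} {M : Dual.D A} (h : IsTors f M) (n : ℤ) : IsTors f (M⟦n⟧) := fun i x => by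
  let e := ((DerivedCategory.homologyFunctor (ModuleCat.{u} A) 0).shiftIso n i (n + i) rfl).app M
  obtain ⟨N, hN⟩ := h (n + i) (e.hom.hom x)
  refine ⟨N, e.toLinearEquiv.injective ?_⟩
  change e.hom.hom (f ^ N • x) = e.hom.hom 0
  rw [map_smul, hN, map_zero]

lemma isTors_of_smul_id {f : A} {M : Dual.D A} {N : ℕ} (h : f ^ N • 𝟙 M = 0) : IsTors f M := fun i x => by
  obtain ⟨α, hα⟩ := exists_ev0 (M⟦i⟧) ((hShift M i).inv.hom x)
  refine ⟨N, (hShift M i).symm.toLinearEquiv.injective ?_⟩
  change (hShift M i).inv.hom (f ^ N • x) = (hShift M i).inv.hom 0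
  have h1 : f ^ N • α = 0 := by
    rw [← Category.comp_id α, ← Linear.comp_smul, ← (shiftFunctor (Dual.D A) i).map_id M, ← Functor.map_smul, h,
      Functor.map_zero, comp_zero]
  rw [map_smul, map_zero, ← hα]
  exact (smul_eq_zero_iff_ev0 _ _).1 h1

/-- maps into torsion objects are torsion -/
def TorsHom (f : A) (C : Dual.D A) : Prop :=
  ∀ M : Dual.D A, IsTors f M → ∀ α : C ⟶ M, ∃ N : ℕ, f ^ N • α = 0

lemma torsHom_one (f : A) : TorsHom f (oneD A) := fun M hM α => by
  obtain ⟨N, hN⟩ := hM 0 ((DRingKP.ev0 α).hom (1 : A))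
  exact ⟨N, (smul_eq_zero_iff_ev0 _ _).2 hN⟩

lemma TorsHom.of_iso {f : A} {C C' : Dual.D A} (e : C ≅ C') (h : TorsHom f C) : TorsHom f C' := fun M hM α => by
  obtain ⟨N, hN⟩ := h M hM (e.hom ≫ α)
  refine ⟨N, ?_⟩
  rw [← cancel_epi e.hom, Linear.comp_smul, hN, comp_zero]

lemma TorsHom.shift {f : A} {C : Dual.D A} (h : TorsHom f C) (n : ℤ) : TorsHom f (C⟦n⟧) := fun M hM α => by
  let e := shiftFunctorCompIsoId (Dual.D A) n (-n) (add_neg_cancel n)
  obtain ⟨N, hN⟩ := h (M⟦(-n : ℤ)⟧) (hM.shift _) (e.inv.app C ≫ α⟦(-n : ℤ)⟧')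
  refine ⟨N, (shiftFunctor (Dual.D A) (-n : ℤ)).map_injective ?_⟩
  rw [Functor.map_smul, Functor.map_zero, ← cancel_epi (e.inv.app C), comp_zero, Linear.comp_smul]
  exact hN

lemma TorsHom.ext₂ {f : A} {T : Triangle (Dual.D A)} (hT : T ∈ distTriang (Dual.D A)) (h₁ : TorsHom f T.obj₁)
    (h₃ : TorsHom f T.obj₃) : TorsHom f T.obj₂ := fun M hM α => by
  obtain ⟨N, hN⟩ := h₁ M hM (T.mor₁ ≫ α)
  obtain ⟨γ, hγ⟩ := Triangle.yoneda_exact₂ _ hT (f ^ N • α) (by rw [Linear.comp_smul, hN])
  obtain ⟨L, hL⟩ := h₃ M hM γ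
  refine ⟨L + N, ?_⟩
  rw [pow_add, mul_smul, hγ, ← Linear.comp_smul, hL, comp_zero]

lemma exists_kTri (f : A) (l : List A) : ∃ (b : kD l ⟶ kD (f :: l)) (c : kD (f :: l) ⟶ (kD l)⟦(1 : ℤ)⟧),
    Triangle.mk (f • 𝟙 (kD l)) b c ∈ distTriang (Dual.D A) := by
  have h := DerivedCategory.mappingCone_triangle_distinguished (f • 𝟙 (Koszul.koszul A l))
  have e : DerivedCategory.Q.map (f • 𝟙 (Koszul.koszul A l)) = f • 𝟙 (kD l) := by
    rw [Functor.map_smul, CategoryTheory.Functor.map_id]
  rw [← e]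
  exact ⟨_, _, h⟩

lemma isPerfect_kD (l : List A) : DRing.IsPerfect A (kD l) := by
  induction l with
  | nil =>
    refine ⟨Koszul.koszul A [], 0, 0, fun i hi => ?_, fun i => ?_, ⟨Iso.refl _⟩⟩
    · exact HomologicalComplex.isZero_single_obj_X (ComplexShape.up ℤ) 0 _ i (by lia)
    · by_cases hi : i = 0
      · subst hi
        exact PerfLocal.finiteProjective_of_iso
          (HomologicalComplex.singleObjXSelf (ComplexShape.up ℤ) 0 (ModuleCat.of A A)).symm
          ⟨inferInstance, inferInstance⟩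
      · exact PerfLocal.finiteProjective_of_isZero
          (HomologicalComplex.isZero_single_obj_X (ComplexShape.up ℤ) 0 _ i hi)
  | cons f l ih =>
    obtain ⟨b, c, h⟩ := exists_kTri f l
    exact PerfLocal.isPerfect_obj₃ _ h ih ih

/-- `kD []` is `A` -/
noncomputable def kNil : kD ([] : List A) ≅ oneD A :=
  ((DerivedCategory.singleFunctorIsoCompQ (ModuleCat.{u} A) 0).app (ModuleCat.of A A)).symm

lemma torsHom_kD (f : A) (l : List A) : TorsHom f (kD l) := by
  induction l with
  | nil => exact (torsHom_one f).of_iso kNil.symm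
  | cons g l ih =>
    obtain ⟨b, c, h⟩ := exists_kTri g l
    exact TorsHom.ext₂ (rot_of_distTriang _ h) ih (ih.shift 1)

lemma exists_pow_smul_kD (l : List A) : ∀ g ∈ l, ∃ N : ℕ, g ^ N • 𝟙 (kD l) = 0 := by
  induction l with
  | nil => simp
  | cons f l ih =>
    intro g hg
    obtain ⟨b, c, h⟩ := exists_kTri f l
    have key : ∀ a : A, a • b = 0 → a • c = 0 → (a * a) • 𝟙 (kD (f :: l)) = 0 := by
      intro a hb hc
      obtain ⟨γ, hγ⟩ := Triangle.yoneda_exact₃ _ h (a • 𝟙 (kD (f :: l)))
        (show b ≫ (a • 𝟙 (kD (f :: l))) = 0 by rw [Linear.comp_smul, Category.comp_id, hb])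
      have hγ' : a • 𝟙 (kD (f :: l)) = c ≫ γ := hγ
      rw [mul_smul, hγ', ← Linear.smul_comp, hc, zero_comp]
    rcases List.mem_cons.1 hg with rfl | hg
    · refine ⟨2, ?_⟩
      rw [pow_two]
      refine key g ?_ ?_
      · have := comp_distTriang_mor_zero₁₂ _ h
        change (g • 𝟙 (kD l)) ≫ b = 0 at this
        rw [Linear.smul_comp, Category.id_comp] at this
        exact this
      · have := comp_distTriang_mor_zero₃₁ _ h
        change c ≫ (g • 𝟙 (kD l))⟦(1 : ℤ)⟧' = 0 at this
        rw [Functor.map_smul, CategoryTheory.Functor.map_id, Linear.comp_smul, Category.comp_id] at this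
        exact this
    · obtain ⟨N, hN⟩ := ih g hg
      refine ⟨N + N, ?_⟩
      rw [pow_add]
      refine key _ ?_ ?_
      · rw [← Category.id_comp b, ← Linear.smul_comp, hN, zero_comp]
      · rw [← Category.comp_id c, ← Linear.comp_smul, ← (shiftFunctor (Dual.D A) (1 : ℤ)).map_id (kD l),
          ← Functor.map_smul, hN, Functor.map_zero, comp_zero]

/-- the Koszul object detects torsion objects -/
theorem isZero_of_kD (l : List A) : ∀ M : Dual.D A, (∀ f ∈ l, IsTors f M) →
    (∀ (n : ℤ) (α : (kD l)⟦n⟧ ⟶ M), α = 0) → IsZero M := by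
  induction l with
  | nil =>
    intro M _ h
    have hz : ∀ i : ℤ, IsZero ((DerivedCategory.homologyFunctor (ModuleCat.{u} A) i).obj M) := fun i => by
      haveI : Subsingleton ((DerivedCategory.homologyFunctor (ModuleCat.{u} A) i).obj M) := by
        refine subsingleton_of_forall_eq 0 fun x => ?_
        obtain ⟨α, hα⟩ := exists_ev0 (M⟦i⟧) ((hShift M i).inv.hom x)
        have hα0 : α = 0 := by
          let e := shiftFunctorCompIsoId (Dual.D A) i (-i) (add_neg_cancel i)
          have := h (-i) (kNil.hom⟦(-i : ℤ)⟧' ≫ α⟦(-i : ℤ)⟧' ≫ e.hom.app M)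
          rw [← Category.assoc, ← Functor.map_comp] at this
          apply (shiftFunctor (Dual.D A) (-i : ℤ)).map_injective
          rw [Functor.map_zero, ← cancel_epi (kNil.hom⟦(-i : ℤ)⟧'), comp_zero, ← Functor.map_comp,
            ← cancel_mono (e.hom.app M), zero_comp]
          exact this
        apply (hShift M i).symm.toLinearEquiv.injective
        change (hShift M i).inv.hom x = (hShift M i).inv.hom 0
        rw [map_zero, ← hα, hα0]
        simp [DRingKP.ev0]
      exact ModuleCat.isZero_of_subsingleton _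
    rw [IsZero.iff_id_eq_zero]
    haveI : IsIso (0 : M ⟶ M) := by
      rw [DerivedCategory.isIso_iff]
      exact fun i => (hz i).isIso (hz i) _
    have h0 := IsIso.hom_inv_id (0 : M ⟶ M)
    rw [zero_comp] at h0
    exact h0.symm
  | cons f l ih =>
    intro M hM h
    refine ih M (fun g hg => hM g (List.mem_cons_of_mem _ hg)) fun n α => ?_
    obtain ⟨b, c, hT⟩ := exists_kTri f l
    have hT' := Triangle.shift_distinguished _ hT n
    obtain ⟨N, hN⟩ := (torsHom_kD f l).shift n M (hM f (List.mem_cons_self ..)) α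
    have step : ∀ β : (kD l)⟦n⟧ ⟶ M, f • β = 0 → β = 0 := fun β hβ => by
      obtain ⟨γ, hγ⟩ := Triangle.yoneda_exact₂ _ hT' β (by
        change ((n.negOnePow : ℤˣ) • (f • 𝟙 (kD l))⟦n⟧') ≫ β = 0
        rw [Functor.map_smul, CategoryTheory.Functor.map_id, Linear.units_smul_comp, Linear.smul_comp, Category.id_comp,
          hβ, smul_zero])
      have hγ0 : γ = 0 := h n γ
      rw [hγ, hγ0, comp_zero]
    induction N with
    | zero => simpa using hN
    | succ N ihN =>
      refine ihN (step _ ?_)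
      rw [← mul_smul, ← pow_succ']; exact hN

/-- the support of `N~` -/
lemma support_tilde_subset_iff {R : CommRingCat.{u}} (N : ModuleCat.{u} R) (f : R) :
    (∀ x : Spec R, ¬ Subsingleton ((tilde N).presheaf.stalk x) → f ∈ x.asIdeal) ↔
      ∀ m : N, ∃ k : ℕ, f ^ k • m = 0 := by
  constructor
  · intro h m
    have : f ∈ (Ideal.torsionOf R N m).radical := by
      rw [Ideal.radical_eq_sInf, Submodule.mem_sInf]
      intro J hJ
      obtain ⟨x, rfl⟩ : ∃ x : PrimeSpectrum.Top R, x.asIdeal = J := ⟨⟨J, hJ.2⟩, rfl⟩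
      haveI : x.asIdeal.IsPrime := x.isPrime
      by_contra hf
      refine hf (h x fun hs => ?_)
      haveI : IsLocalizedModule x.asIdeal.primeCompl (tilde.toStalk N x).hom := inferInstance
      haveI := hs
      obtain ⟨s, hs'⟩ := (IsLocalizedModule.eq_zero_iff x.asIdeal.primeCompl (tilde.toStalk N x).hom (m := m)).1
        (Subsingleton.elim (α := (tilde N).presheaf.stalk x) _ _)
      exact s.2 (hJ.1 ((Ideal.mem_torsionOf_iff _ _).2 hs'))
    obtain ⟨k, hk⟩ := this
    exact ⟨k, (Ideal.mem_torsionOf_iff _ _).1 hk⟩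
  · intro h x hx
    by_contra hf
    haveI : x.asIdeal.IsPrime := x.isPrime
    haveI : IsLocalizedModule x.asIdeal.primeCompl (tilde.toStalk N x).hom := inferInstance
    refine hx (subsingleton_of_forall_eq 0 fun y => ?_)
    obtain ⟨⟨m, s⟩, hms⟩ := IsLocalizedModule.surj x.asIdeal.primeCompl (tilde.toStalk N x).hom y
    obtain ⟨k, hk⟩ := h m
    have h0 : (tilde.toStalk N x).hom m = 0 :=
      (IsLocalizedModule.eq_zero_iff x.asIdeal.primeCompl _).2
        ⟨⟨f ^ k, fun hc => hf (x.isPrime.mem_of_pow_mem k hc)⟩, hk⟩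
    rw [h0] at hms
    refine ((Module.End.isUnit_iff _).1 (IsLocalizedModule.map_units (tilde.toStalk N x).hom s)).injective ?_
    refine Eq.trans ?_ (map_zero (algebraMap R (Module.End R _) (s : R))).symm
    exact hms

/-- support of a tilde object -/
lemma suppD_tildeD_iff [PreservesFiniteLimits (tilde.functor (CommRingCat.of A))] (M : Dual.D A) (f : A) :
    SuppD (X := Spec (CommRingCat.of A)) (PrimeSpectrum.zeroLocus {f})
      ((DCoh.tildeD (CommRingCat.of A)).obj M) ↔ IsTors f M := by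
  refine forall_congr' fun i => ?_
  refine Iff.trans ?_ (support_tilde_subset_iff (R := CommRingCat.of A)
    ((DerivedCategory.homologyFunctor (ModuleCat.{u} A) i).obj M) f)
  have e := Set.ext_iff.1 (support_eq_of_iso (DQCoh.hdTildeIso (R := CommRingCat.of A) M i))
  exact ⟨fun h x hx => h ((e x).2 hx) (Set.mem_singleton f),
    fun h x hx => Set.singleton_subset_iff.2 (h x ((e x).1 hx))⟩

/-- quasi-coherent objects supported on `T` -/
def PT {X : Scheme.{u}} (T : Set X) : ObjectProperty (DCoh.D X) := fun E => DCoh.IsQCohD E ∧ SuppD T E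

/-- **the affine case** -/
theorem exists_gen_spec (T : Set (Spec (CommRingCat.of A))) (hT : IsClosed T) (hTc : IsCompact Tᶜ) :
    ∃ G : DCoh.D (Spec (CommRingCat.of A)), DCoh.IsPerfect G ∧ SuppD T G ∧ Gen (PT T) G := by
  classical
  haveI : PreservesFiniteLimits (tilde.functor (CommRingCat.of A)) := QC.tilde_preservesFiniteLimits
  obtain ⟨hfull, hfaith, hess⟩ := DQCoh.tildeD_affine (R := CommRingCat.of A)
  haveI := hfull
  haveI := hfaith
  obtain ⟨t, ht⟩ := PrimeSpectrum.isCompact_isOpen_iff.1 ⟨hTc, hT.isOpen_compl⟩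
  have ht' : T = PrimeSpectrum.zeroLocus (t : Set A) := compl_injective ht.symm
  have hsub : ∀ M : Dual.D A, SuppD T ((DCoh.tildeD (CommRingCat.of A)).obj M) ↔ ∀ f ∈ t.toList, IsTors f M := by
    intro M
    constructor
    · intro h f hf
      refine (suppD_tildeD_iff M f).1 (suppD_mono ?_ h)
      rw [ht']
      exact PrimeSpectrum.zeroLocus_anti_mono (Set.singleton_subset_iff.2 (Finset.mem_toList.1 hf))
    · intro h i x hx
      rw [ht']
      intro f hf
      exact Set.singleton_subset_iff.1 ((suppD_tildeD_iff M f).2 (h f (Finset.mem_toList.2 hf)) i hx)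
  let G := (DCoh.tildeD (CommRingCat.of A)).obj (kD t.toList)
  refine ⟨G, (DQCoh.perfect_tilde_iff _).2 (isPerfect_kD _), (hsub _).2 fun f hf => ?_, fun E hE h => ?_⟩
  · obtain ⟨N, hN⟩ := exists_pow_smul_kD _ f hf
    exact isTors_of_smul_id hN
  · obtain ⟨M, ⟨e⟩⟩ := (hess E).1 hE.1
    refine IsZero.of_iso ((DCoh.tildeD (CommRingCat.of A)).map_isZero (isZero_of_kD t.toList M
      ((hsub M).1 (suppD_of_iso e.symm hE.2)) fun n α => (DCoh.tildeD (CommRingCat.of A)).map_injective ?_)) e.symm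
    have h1 := h n (((DCoh.tildeD (CommRingCat.of A)).commShiftIso n).inv.app (kD t.toList) ≫
      (DCoh.tildeD (CommRingCat.of A)).map α ≫ e.hom)
    rw [← cancel_epi (((DCoh.tildeD (CommRingCat.of A)).commShiftIso n).inv.app (kD t.toList)),
      ← cancel_mono e.hom, Category.assoc, h1]
    simp

end Groth.Agent.PerfGen
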