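import Groth.Agent.PerfGen.Window
import Groth.Agent.HDU.Tower

/-!
Boundedness tested by maps out of perfect objects.
-/

set_option autoImplicit false
set_option backward.isDefEq.respectTransparency false
set_option backward.isDefEq.respectTransparency.types false
set_option linter.style.haveILetI false
set_option linter.unusedSectionVars false

universe u

open CategoryTheory Limits Pretriangulated AlgebraicGeometry ObjectProperty

attribute [local instance] HasDerivedCategory.standard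

namespace Groth.Agent.PerfGen

open DerivedCategory.TStructure

variable {X : Scheme.{u}}

lemma isQCohD_truncGE {E : DCoh.D X} (hE : DCoh.IsQCohD E) (a : ℤ) : DCoh.IsQCohD ((t.truncGE a).obj E) := fun i => by
  rcases lt_or_ge i a with hi | hi
  · haveI : ((t.truncGE a).obj E).IsGE a := HDU.isGE_truncGE E a
    exact DQCoh.isQCoh_of_isZero (DerivedCategory.isZero_of_isGE _ a i hi)
  · haveI := HDU.isIso_H_truncGEπ E a i hi
    exact QC.isQCoh_of_iso (asIso ((DerivedCategory.homologyFunctor X.Modules i).map ((t.truncGEπ a).app E))) (hE i)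

lemma isQCohD_truncLT {E : DCoh.D X} (hE : DCoh.IsQCohD E) (a : ℤ) : DCoh.IsQCohD ((t.truncLT a).obj E) :=
  isQCohD_obj₁ _ (t.triangleLTGE_distinguished a E) hE (isQCohD_truncGE hE a)

variable [CompactSpace X] [QuasiSeparatedSpace X]

/-- maps out of a perfect object vanish in high degrees for bounded above targets -/
theorem exists_homVac_isLE {P : DCoh.D X} (hP : DCoh.IsPerfect P) :
    ∃ w : ℕ, ∀ (L : DCoh.D X), DCoh.IsQCohD L → ∀ b : ℤ, L.IsLE b → ∀ i : ℤ, b + w < i →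
      ∀ g : P⟦-i⟧ ⟶ L, g = 0 := by
  obtain ⟨w, hw⟩ := exists_homVac_of_vac hP
  refine ⟨w, fun L hL b hb i hi g => hw L hL i (fun k hk _ => ?_) g⟩
  haveI := hb
  exact DerivedCategory.isZero_of_isLE L b k (by omega)

/-- maps out of a perfect object vanish in low degrees for bounded below targets -/
theorem exists_homVac_isGE {P : DCoh.D X} (hP : DCoh.IsPerfect P) :
    ∃ w : ℕ, ∀ (L : DCoh.D X), DCoh.IsQCohD L → ∀ a : ℤ, L.IsGE a → ∀ i : ℤ, i + w < a →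
      ∀ g : P⟦-i⟧ ⟶ L, g = 0 := by
  obtain ⟨w, hw⟩ := exists_homVac_of_vac hP
  refine ⟨w, fun L hL a ha i hi g => hw L hL i (fun k _ hk => ?_) g⟩
  haveI := ha
  exact DerivedCategory.isZero_of_isGE L a k (by omega)

theorem exists_isGE_iff {G : DCoh.D X} (hG : DCoh.IsPerfect G) (hgen : Gen (DCoh.IsQCohD (X := X)) G)
    (E : DCoh.D X) (hE : DCoh.IsQCohD E) :
    (∃ a : ℤ, E.IsGE a) ↔ ∃ N : ℤ, ∀ i : ℤ, i ≤ N → ∀ φ : G⟦-i⟧ ⟶ E, φ = 0 := by
  refine ⟨fun ⟨a, ha⟩ => ?_, fun ⟨N, hN⟩ => ?_⟩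
  · obtain ⟨w, hw⟩ := exists_homVac_isGE hG
    exact ⟨a - w - 1, fun i hi => hw E hE a ha i (by omega)⟩
  · obtain ⟨w, hw⟩ := det_of_gen hG hgen
    exact ⟨N - w, (DerivedCategory.isGE_iff E _).2 fun i hi =>
      hw E ⟨hE, suppD_univ E⟩ i fun j _ hj => hN j (by omega)⟩

theorem exists_isLE_iff {G : DCoh.D X} (hG : DCoh.IsPerfect G) (hgen : Gen (DCoh.IsQCohD (X := X)) G)
    (E : DCoh.D X) (hE : DCoh.IsQCohD E) :
    (∃ b : ℤ, E.IsLE b) ↔ ∃ N : ℤ, ∀ i : ℤ, N ≤ i → ∀ φ : G⟦-i⟧ ⟶ E, φ = 0 := by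
  refine ⟨fun ⟨b, hb⟩ => ?_, fun ⟨N, hN⟩ => ?_⟩
  · obtain ⟨w, hw⟩ := exists_homVac_isLE hG
    exact ⟨b + w + 1, fun i hi => hw E hE b hb i (by omega)⟩
  · obtain ⟨w, hw⟩ := det_of_gen hG hgen
    exact ⟨N + w, (DerivedCategory.isLE_iff E _).2 fun i hi =>
      hw E ⟨hE, suppD_univ E⟩ i fun j hj _ => hN j (by omega)⟩

lemma hom_eq_zero_mid (T : Triangle (DCoh.D X)) (hT : T ∈ distTriang (DCoh.D X)) (P : DCoh.D X)
    (h₁ : ∀ g : P ⟶ T.obj₁, g = 0) (h₃ : ∀ g : P ⟶ T.obj₃, g = 0) (g : P ⟶ T.obj₂) : g = 0 := by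
  obtain ⟨s, hs⟩ := Triangle.coyoneda_exact₂ _ hT g (h₃ _)
  rw [hs, h₁ s, zero_comp]

theorem exists_high_iff_truncGE {P : DCoh.D X} (hP : DCoh.IsPerfect P) (E : DCoh.D X) (hE : DCoh.IsQCohD E) (a : ℤ) :
    (∃ N : ℤ, ∀ i : ℤ, N ≤ i → ∀ φ : P⟦-i⟧ ⟶ E, φ = 0) ↔
    (∃ N : ℤ, ∀ i : ℤ, N ≤ i → ∀ φ : P⟦-i⟧ ⟶ (t.truncGE a).obj E, φ = 0) := by
  obtain ⟨w, hw⟩ := exists_homVac_isLE hP
  have hT := t.triangleLTGE_distinguished a E
  have hle : ((t.truncLT a).obj E).IsLE (a - 1) := inferInstanceAs (t.IsLE ((t.truncLT a).obj E) (a - 1))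
  have hq := isQCohD_truncLT hE a
  refine ⟨fun ⟨N, hN⟩ => ⟨max N (a + w), fun i hi φ => ?_⟩, fun ⟨N, hN⟩ => ⟨max N (a + w), fun i hi φ => ?_⟩⟩
  · haveI := hle
    exact hom_eq_zero_mid _ (rot_of_distTriang _ hT) _ (hN i (by omega))
      (hw _ (isQCohD_shift hq 1) (a - 2) (t.isLE_shift _ (a - 1) 1 (a - 2) (by omega)) i (by omega)) φ
  · exact hom_eq_zero_mid _ hT _ (hw _ hq (a - 1) hle i (by omega)) (hN i (by omega)) φ

theorem exists_low_iff_truncLE {P : DCoh.D X} (hP : DCoh.IsPerfect P) (E : DCoh.D X) (hE : DCoh.IsQCohD E) (a : ℤ) :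
    (∃ N : ℤ, ∀ i : ℤ, i ≤ N → ∀ φ : P⟦-i⟧ ⟶ E, φ = 0) ↔
    (∃ N : ℤ, ∀ i : ℤ, i ≤ N → ∀ φ : P⟦-i⟧ ⟶ (t.truncLE a).obj E, φ = 0) := by
  obtain ⟨w, hw⟩ := exists_homVac_isGE hP
  have hT := t.triangleLTGE_distinguished (a + 1) E
  have hge : ((t.truncGE (a + 1)).obj E).IsGE (a + 1) := HDU.isGE_truncGE E (a + 1)
  have hq := isQCohD_truncGE hE (a + 1)
  refine ⟨fun ⟨N, hN⟩ => ⟨min N (a - w), fun i hi φ => ?_⟩, fun ⟨N, hN⟩ => ⟨min N (a - w), fun i hi φ => ?_⟩⟩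
  · haveI := hge
    exact hom_eq_zero_mid _ (inv_rot_of_distTriang _ hT) _
      (hw _ (isQCohD_shift hq (-1)) (a + 2) (t.isGE_shift _ (a + 1) (-1) (a + 2) (by omega)) i (by omega))
      (hN i (by omega)) φ
  · exact hom_eq_zero_mid _ hT _ (hN i (by omega)) (hw _ hq (a + 1) hge i (by omega)) φ

end Groth.Agent.PerfGen
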