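import Groth.Agent.PerfGen.ApproxResults
import Groth.Agent.DQPush.Basic
import Groth.Agent.DQPush.Restrict
import Groth.Agent.DQCoh.Pseudo

/-!
Pseudo-coherence of `Rf_*` from the perfect case.
-/

set_option autoImplicit false
set_option backward.isDefEq.respectTransparency false
set_option backward.isDefEq.respectTransparency.types false
set_option linter.style.haveILetI false

universe u

open CategoryTheory Limits Pretriangulated AlgebraicGeometry

attribute [local instance] HasDerivedCategory.standard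

namespace Groth.Agent.PerfGen

open Groth.Agent.DQCoh

variable {X S : Scheme.{u}}

/-- pseudo-coherence may be checked on an open covering of the target -/
theorem pc_rpush_of_local (f : X ⟶ S) [QuasiCompact f] [QuasiSeparated f] [DCoh.HasRpush f] (E : DCoh.D X) (m : ℤ)
    (h : ∀ V : S.Opens, IsAffineOpen V → ∀ [DCoh.HasRpush (f ∣_ V)],
      DCoh.IsPseudoCoherentD m ((DCoh.Rpush (f ∣_ V)).obj ((RD (f ⁻¹ᵁ V).ι).obj E))) :
    DCoh.IsPseudoCoherentD m ((DCoh.Rpush f).obj E) := by
  rw [pc_iff_near]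
  intro s
  obtain ⟨V, hV, hsV, -⟩ := exists_isAffineOpen_mem_and_subset (X := S) (x := s) (U := ⊤) trivial
  haveI := DerPush.hasRpush_sch (f ∣_ V)
  obtain ⟨e⟩ := DQPush.nonempty_rpushRestrIso f V
  have hp : DCoh.IsPseudoCoherentD m ((RD V.ι).obj ((DCoh.Rpush f).obj E)) :=
    pc_of_iso (e.app E).symm (h V hV)
  obtain ⟨O, o, ho, w, hw, hP⟩ := (pc_iff_near m _).1 hp ⟨s, hsV⟩
  haveI := ho
  exact ⟨O, o ≫ V.ι, inferInstance, w, by rw [Scheme.Hom.comp_apply, hw]; rfl, pcOn_push o V.ι hP⟩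

/-- from perfect objects to pseudo-coherent objects over a quasi-compact quasi-separated base -/
theorem pc_rpush_of_perfect (f : X ⟶ S) [QuasiCompact f] [QuasiSeparated f] [CompactSpace S] [QuasiSeparatedSpace S]
    [DCoh.HasRpush f] (h : ∀ P : DCoh.D X, DCoh.IsPerfect P → DCoh.IsPerfect ((DCoh.Rpush f).obj P))
    (E : DCoh.D X) (hE : ∀ m : ℤ, DCoh.IsPseudoCoherentD m E) (m : ℤ) :
    DCoh.IsPseudoCoherentD m ((DCoh.Rpush f).obj E) := by
  haveI : SiteCmp.HasRpushD (ModSite.RMor.ofScheme f) := ‹DCoh.HasRpush f›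
  haveI : CompactSpace X := QuasiCompact.compactSpace_of_compactSpace f
  haveI : QuasiSeparatedSpace X := quasiSeparatedSpace_of_quasiSeparated f
  obtain ⟨r, hr⟩ := hasApprox X Set.univ isClosed_univ (by simp)
  obtain ⟨N, hN⟩ := DQPush.exists_amplitude f
  have hq : DCoh.IsQCohD E := fun i => (isQCoh_cohomology_of_pseudoCoherent (i - 1) E (hE _)).1 i (by lia)
  obtain ⟨P, C, a, g, w, hT, hP, hC⟩ := hr (m - N) E hq (hE _) (fun i _ => Set.subset_univ _)
  haveI hCle : C.IsLE (m - N - 1) := (DerivedCategory.isLE_iff _ _).2 fun i hi => hC i (by lia)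
  have hPq : DCoh.IsQCohD P :=
    fun i => (isQCoh_cohomology_of_pseudoCoherent (i - 1) P (pc_of_perfect hP.1 _)).1 i (by lia)
  obtain ⟨w', hT'⟩ := RPushSite.exists_rpush_triangle (ModSite.RMor.ofScheme f) _ _ _ hT
  refine pc_obj₂ _ hT' m (pc_of_perfect (h P hP.1) m) (pc_of_isAbove ?_)
  exact fun i hi => hN C (isQCohD_obj₃ _ hT hPq hq) (m - N - 1) hCle i (by lia)

end Groth.Agent.PerfGen
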