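import Groth.Agent.PerfGen.PnTwistD
import Groth.Agent.PerfGen.PnFlat
import Groth.Agent.PerfGen.PushPC
import Groth.Agent.PerfGen.Bounds
import Groth.Agent.PerfPush.Sections
import Groth.Agent.CohFinite.RPushVanish
import Groth.Agent.RPushSite.SingleHomology
import Groth.Agent.DQPush.Affine
import Groth.Agent.ProjCech.Main
import Groth.Agent.W7Hull.InvNear
import Groth.Agent.ResDesc.ResProp
import Groth.Agent.LocFree.Props
import Groth.Agent.TMul.GlobGen

/-!
Pseudo-coherence on `P^n_R` is detected by `Rπ_*(K ⊗ O(d))`, `0 ≤ d ≤ n`.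
-/

set_option autoImplicit false
set_option backward.isDefEq.respectTransparency false
set_option backward.isDefEq.respectTransparency.types false
set_option linter.style.haveILetI false
set_option maxHeartbeats 1000000

universe u

open CategoryTheory Limits Pretriangulated AlgebraicGeometry TopologicalSpace

attribute [local instance] HasDerivedCategory.standard

noncomputable section

namespace Groth.Agent.PerfGen

open Groth.Agent.DQCoh

/-- over an affine base `R^p f_* F = 0` when `H^p(X, F) = 0` -/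
theorem isZero_rpush_of_subsingleton_hh {X S : Scheme.{u}} [IsAffine S] (f : X ⟶ S) [QuasiCompact f] [QuasiSeparated f]
    [HasInjectiveResolutions X.Modules] (F : X.Modules) (hF : Coh.IsQCoh F) (p : ℕ)
    (h : Subsingleton (Coh.HH X F p)) : IsZero ((Coh.Rpush f p).obj F) := by
  have hV : IsAffineOpen (⊤ : S.Opens) := isAffineOpen_top S
  letI hU : (f ⁻¹ᵁ (⊤ : S.Opens)).toScheme.Over (Spec (CommRingCat.of Γ(S, ⊤))) :=
    ⟨(f ∣_ ⊤) ≫ hV.isoSpec.hom⟩
  letI hX : X.Over (Spec (CommRingCat.of Γ(S, ⊤))) := ⟨f ≫ S.toSpecΓ⟩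
  obtain ⟨e₁⟩ := W7Cech.nonempty_rpush_sections f F hF p hV
  let j : (f ⁻¹ᵁ (⊤ : S.Opens)).toScheme ⟶ X := (f ⁻¹ᵁ (⊤ : S.Opens)).ι
  haveI : IsIso j := inferInstanceAs (IsIso X.topIso.hom)
  haveI : (F.restrict j).IsQuasicoherent := QC.isQCoh_restrict j hF
  have hj : j ≫ (X ↘ Spec (CommRingCat.of Γ(S, ⊤))) =
      ((f ⁻¹ᵁ (⊤ : S.Opens)).toScheme ↘ Spec (CommRingCat.of Γ(S, ⊤))) := by
    change j ≫ f ≫ S.toSpecΓ = (f ∣_ ⊤) ≫ hV.isoSpec.hom
    rw [IsAffineOpen.isoSpec_hom, Scheme.Opens.toSpecΓ_top, ← Category.assoc, ← Category.assoc, morphismRestrict_ι]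
  obtain ⟨e₂⟩ := CohFinite.hh_push_linear Γ(S, ⊤) j hj (F.restrict j) (CohQC.directAcyclic_of_isAffineHom j _) p
  haveI := PerfPush.isIso_restrict_unit j F
  let e₃ := CohFinite.hhEquiv Γ(S, ⊤) (asIso ((Scheme.Modules.restrictAdjunction j).unit.app F)).symm p
  haveI : Subsingleton (Coh.HH X ((𝟭 X.Modules).obj F) p) := h
  haveI : Subsingleton Γ((Coh.Rpush f p).obj F, ⊤) := ((e₁.trans e₂).trans e₃).injective.subsingleton
  exact CohFinite.isZero_of_affine_cover _ (RPushQC.isQCoh_rpush f F hF p) (fun _ : Unit => (⊤ : S.Opens))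
    (fun _ => hV) (fun x => ⟨(), trivial⟩) fun _ s => Subsingleton.elim _ _

variable (n : ℕ) (R : Type u) [CommRing R] [DCoh.HasRpush (CohB1.ProjSpace.toSpec n R)]

lemma proper_flat_lfp : IsProper (CohB1.ProjSpace.toSpec n R) ∧ Flat (CohB1.ProjSpace.toSpec n R) ∧
    LocallyOfFinitePresentation (CohB1.ProjSpace.toSpec n R) :=
  ⟨ProjMor.isProper_toSpec n R, flat_lfp_toSpec n R⟩

lemma isQCoh_tw (d : ℤ) : Coh.IsQCoh (tw n R d) :=
  LocFree.isQCoh_of_isFinLocFree (ResDesc.isFinLocFree_of_isInvertible (CohFinite.isInvertible_twist n R d))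

lemma isPerfect_tw (d : ℤ) : DCoh.IsPerfect (DCoh.inD (CohB1.ProjSpace n R) (tw n R d)) :=
  PerfPush.isPerfect_inD_finLocFree (ResDesc.isFinLocFree_of_isInvertible (CohFinite.isInvertible_twist n R d))

/-- `Rπ_* O(e)` lives in degrees `≤ 0` for `e ≥ -n` -/
theorem isZero_hd_rpush_tw (e : ℤ) (he : -(n : ℤ) ≤ e) (i : ℤ) (hi : 0 < i) :
    IsZero (DCoh.HD ((DCoh.Rpush (CohB1.ProjSpace.toSpec n R)).obj (DCoh.inD _ (tw n R e))) i) := by
  let π := CohB1.ProjSpace.toSpec n R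
  haveI := (proper_flat_lfp n R).1
  haveI := DQPush.hasInj (CohB1.ProjSpace n R)
  haveI : HasInjectiveResolutions (ModSite.Mod (CohB1.ProjSpace n R).sheaf) := DQPush.hasInj (CohB1.ProjSpace n R)
  haveI : SiteCmp.HasRpushD (ModSite.RMor.ofScheme π) := ‹DCoh.HasRpush (CohB1.ProjSpace.toSpec n R)›
  obtain ⟨p, rfl⟩ := Int.eq_ofNat_of_zero_le hi.le
  obtain ⟨a⟩ := RPushSite.nonempty_homology_single (ModSite.RMor.ofScheme π) (tw n R e) p
  refine IsZero.of_iso (isZero_rpush_of_subsingleton_hh π _ (isQCoh_tw n R e) p ?_) a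
  exact ProjCech.twist_vanish n e p (by omega) (by omega)

/-- `Rπ_*(O(-d)⟦-b⟧ ⊗ O(e))` lives in degrees `≤ b` -/
theorem isZero_hd_twPush_tw (d : ℕ) (hd : d ≤ n) (e : ℕ) (b i : ℤ) (hi : b < i) :
    IsZero (DCoh.HD ((twPush n R (e : ℤ)).obj ((DCoh.inD _ (tw n R (-(d : ℤ))))⟦-b⟧)) i) := by
  haveI := (proper_flat_lfp n R).1
  obtain ⟨t⟩ := nonempty_twD_tw n R (-(d : ℤ)) (e : ℤ) ((e : ℤ) - d) (by ring)
  haveI : SiteCmp.HasRpushD (ModSite.RMor.ofScheme (CohB1.ProjSpace.toSpec n R)) :=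
    ‹DCoh.HasRpush (CohB1.ProjSpace.toSpec n R)›
  let s := (DerivedCategory.homologyFunctor _ i).mapIso
      ((RPushSite.shiftIso (ModSite.RMor.ofScheme (CohB1.ProjSpace.toSpec n R)) (-b)).app
        (DCoh.inD _ (tw n R ((e : ℤ) - d)))) ≪≫
    ((DerivedCategory.homologyFunctor _ 0).shiftIso (-b) i (-b + i) rfl).app _
  exact (isZero_hd_rpush_tw n R _ (by omega) (-b + i) (by omega)).of_iso
    ((DerivedCategory.homologyFunctor _ i).mapIso ((DCoh.Rpush _).mapIso
      (((twD n R (e : ℤ)).commShiftIso (-b)).app _ ≪≫ (shiftFunctor _ (-b)).mapIso t)) ≪≫ s)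

lemma isQCohD_twD (d : ℤ) {E : DCoh.D (CohB1.ProjSpace n R)} (hE : DCoh.IsQCohD E) :
    DCoh.IsQCohD ((twD n R d).obj E) := fun i => by
  haveI : (DCoh.HD E i).IsQuasicoherent := hE i
  have h : Coh.IsQCoh (CohB1.tensorMod (DCoh.HD E i) (tw n R d)) :=
    TMul.isQCoh_tensor (CohFinite.isInvertible_twist n R d)
  exact QC.isQCoh_of_iso ((homologyDerIso (DCoh.tensorRightMod (tw n R d)) i).app E).symm h

lemma isLE_twD (d : ℤ) (E : DCoh.D (CohB1.ProjSpace n R)) (b : ℤ) [E.IsLE b] : ((twD n R d).obj E).IsLE b :=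
  (DerivedCategory.isLE_iff _ _).2 fun i hi =>
    ((DCoh.tensorRightMod (tw n R d)).map_isZero (DerivedCategory.isZero_of_isLE E b i hi)).of_iso
      ((homologyDerIso (DCoh.tensorRightMod (tw n R d)) i).app E)

lemma exists_twPush_triangle (d : ℤ) (T : Triangle (DCoh.D (CohB1.ProjSpace n R))) (hT : T ∈ distTriang _) :
    ∃ c, Triangle.mk ((twPush n R d).map T.mor₁) ((twPush n R d).map T.mor₂) c ∈ distTriang _ := by
  haveI : SiteCmp.HasRpushD (ModSite.RMor.ofScheme (CohB1.ProjSpace.toSpec n R)) :=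
    ‹DCoh.HasRpush (CohB1.ProjSpace.toSpec n R)›
  exact RPushSite.exists_rpush_triangle (ModSite.RMor.ofScheme (CohB1.ProjSpace.toSpec n R)) _ _ _
    ((twD n R d).map_distinguished _ hT)

/-- the easy direction -/
theorem pc_twPush (d : ℤ) (E : DCoh.D (CohB1.ProjSpace n R)) (hE : ∀ m : ℤ, DCoh.IsPseudoCoherentD m E) (m : ℤ) :
    DCoh.IsPseudoCoherentD m ((twPush n R d).obj E) := by
  let X := CohB1.ProjSpace n R
  let π := CohB1.ProjSpace.toSpec n R
  obtain ⟨hp, hf, hl⟩ := proper_flat_lfp n R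
  haveI : CompactSpace X := QuasiCompact.compactSpace_of_compactSpace π
  haveI : QuasiSeparatedSpace X := quasiSeparatedSpace_of_quasiSeparated π
  obtain ⟨r, hr⟩ := hasApprox X Set.univ isClosed_univ (by simp)
  obtain ⟨N, hN⟩ := DQPush.exists_amplitude π
  have hq : DCoh.IsQCohD E := fun i => (isQCoh_cohomology_of_pseudoCoherent (i - 1) E (hE _)).1 i (by lia)
  obtain ⟨P, C, a, g, w, hT, hP, hC⟩ := hr (m - N) E hq (hE _) (fun i _ => Set.subset_univ _)
  haveI hCle : C.IsLE (m - N - 1) := (DerivedCategory.isLE_iff _ _).2 fun i hi => hC i (by lia)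
  have hperf : DCoh.IsPerfect ((twPush n R d).obj P) := by
    haveI := KFlat.hasLTensorMod (tw n R d)
    obtain ⟨t⟩ := nonempty_lTensorMod_twD n R d P
    have hfree := ResDesc.isFinLocFree_of_isInvertible (CohFinite.isInvertible_twist n R d)
    exact DQCoh.perfect_of_iso ((DCoh.Rpush π).mapIso t) (PerfPush.pushPerf π hP.1 (tw n R d)
      (LocFree.isFP_of_isFinLocFree hfree) (W7Hull.isFlatOver_of_isInvertible π (CohFinite.isInvertible_twist n R d))
      (ClSubLib.isProperOver_of_subset π (𝟙 _) _ (QC.isClosed_support (haveI := LocFree.isFP_of_isFinLocFree hfree; inferInstanceAs (SheafOfModules.IsFiniteType (R := (CohB1.ProjSpace n R).ringCatSheaf) (tw n R d)))) (by simp)))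
  obtain ⟨w', hT'⟩ := exists_twPush_triangle n R d _ hT
  refine pc_obj₂ _ hT' m (pc_of_perfect hperf m) (pc_of_isAbove ?_)
  haveI := isLE_twD n R d C (m - N - 1)
  exact fun i hi => hN ((twD n R d).obj C) (isQCohD_twD n R d (isQCohD_obj₃ _ hT (isQCohD_of_isPerfect hP.1) hq))
    (m - N - 1) inferInstance i (by lia)

/-- a perfect generator made of twists -/
def twGen : ℕ → DCoh.D (CohB1.ProjSpace n R)
  | 0 => DCoh.inD _ (tw n R (-((0 : ℕ) : ℤ)))
  | k + 1 => twGen k ⊞ DCoh.inD _ (tw n R (-((k + 1 : ℕ) : ℤ)))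

lemma isPerfect_twGen : ∀ k, DCoh.IsPerfect (twGen n R k)
  | 0 => isPerfect_tw n R _
  | k + 1 => DQCoh.perfect_obj₂ _ (binaryBiproductTriangle_distinguished (twGen n R k)
      (DCoh.inD _ (tw n R (-((k + 1 : ℕ) : ℤ))))) (isPerfect_twGen k) (isPerfect_tw n R _)

lemma hom_twGen_eq_zero_iff (q : ℤ) (M : DCoh.D (CohB1.ProjSpace n R)) : ∀ k : ℕ,
    (∀ g : (twGen n R k)⟦q⟧ ⟶ M, g = 0) ↔
      ∀ d : ℕ, d ≤ k → ∀ g : (DCoh.inD _ (tw n R (-(d : ℤ))))⟦q⟧ ⟶ M, g = 0
  | 0 => ⟨fun h d hd => by obtain rfl : d = 0 := by omega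
                           exact h, fun h => h 0 le_rfl⟩
  | k + 1 => by
    let A := twGen n R k
    let B := DCoh.inD _ (tw n R (-((k + 1 : ℕ) : ℤ)))
    let S := shiftFunctor (DCoh.D (CohB1.ProjSpace n R)) q
    refine ⟨fun h d hd g => ?_, fun h g => ?_⟩
    · rcases Nat.lt_or_eq_of_le hd with hd | rfl
      · refine (hom_twGen_eq_zero_iff q M k).1 (fun g' => ?_) d (by omega) g
        have := h (S.map (biprod.fst : A ⊞ B ⟶ A) ≫ g')
        rw [← Category.id_comp g', ← S.map_id, ← biprod.inl_fst (X := A) (Y := B), S.map_comp, Category.assoc]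
        exact (congrArg (S.map _ ≫ ·) this).trans comp_zero
      · have := h (S.map (biprod.snd : A ⊞ B ⟶ B) ≫ g)
        rw [← Category.id_comp g, ← S.map_id, ← biprod.inr_snd (X := A) (Y := B), S.map_comp, Category.assoc]
        exact (congrArg (S.map _ ≫ ·) this).trans comp_zero
    · have h1 : S.map (biprod.inl : A ⟶ A ⊞ B) ≫ g = 0 :=
        (hom_twGen_eq_zero_iff q M k).2 (fun d hd => h d (by omega)) _
      have h2 : S.map (biprod.inr : B ⟶ A ⊞ B) ≫ g = 0 := h (k + 1) le_rfl _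
      calc g = S.map (𝟙 (A ⊞ B)) ≫ g := by rw [S.map_id]; exact (Category.id_comp g).symm
        _ = 0 := by
          rw [← biprod.total, S.map_add, Preadditive.add_comp, S.map_comp, S.map_comp, Category.assoc,
            Category.assoc, h1, h2, comp_zero, comp_zero, add_zero]

/-- a uniform bound -/
theorem exists_isLE_of_twPush :
    ∃ w : ℕ, ∀ (C : DCoh.D (CohB1.ProjSpace n R)) (b : ℤ), DCoh.IsQCohD C →
      (∀ d : ℕ, d ≤ n → DCoh.IsQCohD ((twPush n R d).obj C) ∧ ((twPush n R d).obj C).IsLE b) → C.IsLE (b + w) := by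
  let X := CohB1.ProjSpace n R
  let π := CohB1.ProjSpace.toSpec n R
  obtain ⟨hp, -, -⟩ := proper_flat_lfp n R
  haveI : CompactSpace X := QuasiCompact.compactSpace_of_compactSpace π
  haveI : QuasiSeparatedSpace X := quasiSeparatedSpace_of_quasiSeparated π
  haveI := KFlat.hasLpull π
  have hgen : Gen (DCoh.IsQCohD (X := X)) (twGen n R n) := fun M hM h =>
    isZero_of_hom_twists n R M hM fun d hd q g => (hom_twGen_eq_zero_iff n R q M n).1 (h q) d hd g
  obtain ⟨w, hw⟩ := det_of_gen (isPerfect_twGen n R n) hgen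
  obtain ⟨w', hw'⟩ := exists_homVac_isLE (PerfPush.isPerfect_unit (Spec (CommRingCat.of R)))
  refine ⟨w' + w, fun C b hC h => (DerivedCategory.isLE_iff _ _).2 fun i hi => ?_⟩
  refine hw C ⟨hC, suppD_univ C⟩ i fun j hj _ => (hom_twGen_eq_zero_iff n R (-j) C n).2 fun d hd g => ?_
  obtain ⟨adj⟩ := nonempty_twPull_adj n R (d : ℤ)
  obtain ⟨t⟩ := nonempty_twPull_unit n R (d : ℤ) (-j)
  rw [← cancel_epi t.hom, comp_zero]
  apply (adj.homEquiv _ _).injective
  obtain ⟨hq, hle⟩ := h d hd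
  exact (hw' _ hq b hle j (by push_cast at hi; omega) _).trans (hw' _ hq b hle j (by push_cast at hi; omega) _).symm

/-- killing the top cohomology -/
theorem pc_of_gens (m b : ℤ)
    (hlow : ∀ C : DCoh.D (CohB1.ProjSpace n R), DCoh.IsQCohD C →
      (∀ d : ℕ, d ≤ n → (∀ k : ℤ, DCoh.IsPseudoCoherentD k ((twPush n R d).obj C)) ∧
        ((twPush n R d).obj C).IsLE (b - 1)) → DCoh.IsPseudoCoherentD m C)
    (l : ℕ) : ∀ (C : DCoh.D (CohB1.ProjSpace n R)), DCoh.IsQCohD C →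
      (∀ d : ℕ, d ≤ n → (∀ k : ℤ, DCoh.IsPseudoCoherentD k ((twPush n R d).obj C)) ∧
        ((twPush n R d).obj C).IsLE b) →
      ∀ (δ : Fin l → Fin (n + 1))
        (u : ∀ k, (DCoh.inD (Spec (CommRingCat.of R)) (Coh.structureModule _))⟦-b⟧ ⟶ (twPush n R ((δ k : ℕ) : ℤ)).obj C),
        (∀ (d : Fin (n + 1)) (Z : (Spec (CommRingCat.of R)).Modules)
          (g : DCoh.HD ((twPush n R ((d : ℕ) : ℤ)).obj C) b ⟶ Z),
          (∀ k (hk : δ k = d), (DerivedCategory.homologyFunctor _ b).map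
            (u k ≫ eqToHom (congrArg (fun d : Fin (n + 1) => (twPush n R ((d : ℕ) : ℤ)).obj C) hk)) ≫ g = 0) → g = 0) →
        DCoh.IsPseudoCoherentD m C := by
  induction l with
  | zero =>
    intro C hC h δ u hu
    refine hlow C hC fun d hd => ⟨(h d hd).1, (DerivedCategory.isLE_iff _ _).2 fun i hi => ?_⟩
    rcases eq_or_lt_of_le (show b ≤ i by omega) with rfl | hi'
    · rw [IsZero.iff_id_eq_zero]
      exact hu ⟨d, by omega⟩ _ _ fun k => k.elim0
    · haveI := (h d hd).2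
      exact DerivedCategory.isZero_of_isLE _ b i hi'
  | succ l ih =>
    intro C hC h δ u hu
    haveI := KFlat.hasLpull (CohB1.ProjSpace.toSpec n R)
    have hd₀ : (δ 0 : ℕ) ≤ n := Nat.lt_succ_iff.1 (δ 0).2
    obtain ⟨adj⟩ := nonempty_twPull_adj n R ((δ 0 : ℕ) : ℤ)
    let O₁ := (DCoh.inD (Spec (CommRingCat.of R)) (Coh.structureModule _))⟦-b⟧
    let P := (twPull n R ((δ 0 : ℕ) : ℤ)).obj O₁
    obtain ⟨t⟩ := nonempty_twPull_unit n R ((δ 0 : ℕ) : ℤ) (-b)
    let a : P ⟶ C := (adj.homEquiv O₁ C).symm (u 0)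
    obtain ⟨C₁, g₁, g₂, hT⟩ := Pretriangulated.distinguished_cocone_triangle a
    have hperf : DCoh.IsPerfect P := perfect_of_iso t.symm (perfect_shift (isPerfect_tw n R _) _)
    have hPz : ∀ (e : ℕ) (i : ℤ), b < i → IsZero (DCoh.HD ((twPush n R (e : ℤ)).obj P) i) := fun e i hi =>
      (isZero_hd_twPush_tw n R _ hd₀ e b i hi).of_iso
        ((DerivedCategory.homologyFunctor _ i).mapIso ((twPush n R (e : ℤ)).mapIso t))
    have hepi : ∀ (e : ℕ) (i : ℤ), b ≤ i →
        Epi ((DerivedCategory.homologyFunctor _ i).map ((twPush n R (e : ℤ)).map g₁)) := fun e i hi => by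
      obtain ⟨c, hT'⟩ := exists_twPush_triangle n R (e : ℤ) _ hT
      exact (DerivedCategory.HomologySequence.epi_homologyMap_mor₂_iff _ hT' i (i + 1) rfl).2
        ((hPz e (i + 1) (by omega)).eq_of_tgt _ _)
    refine pc_obj₂ _ hT m (pc_of_perfect hperf m) (ih C₁ (isQCohD_obj₃ _ hT (isQCohD_of_isPerfect hperf) hC)
      (fun d hd => ⟨fun k => ?_, (DerivedCategory.isLE_iff _ _).2 fun i hi => ?_⟩) (fun k => δ k.succ)
      (fun k => u k.succ ≫ (twPush n R _).map g₁) fun d Z g hg => ?_)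
    · obtain ⟨c, hT'⟩ := exists_twPush_triangle n R (d : ℤ) _ hT
      exact pc_obj₃ _ hT' k (pc_twPush n R _ P (fun j => pc_of_perfect hperf j) _) ((h d hd).1 k)
    · haveI := (h d hd).2
      haveI := hepi d i (by omega)
      exact IsZero.of_epi ((DerivedCategory.homologyFunctor _ i).map ((twPush n R (d : ℤ)).map g₁))
        (DerivedCategory.isZero_of_isLE _ b i hi)
    · haveI := hepi (d : ℕ) b le_rfl
      refine (cancel_epi ((DerivedCategory.homologyFunctor _ b).map ((twPush n R ((d : ℕ) : ℤ)).map g₁))).1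
        (Eq.trans (hu d Z _ fun k hk => ?_) comp_zero.symm)
      subst hk
      rw [eqToHom_refl, Category.comp_id, ← Category.assoc, ← Functor.map_comp]
      induction k using Fin.cases with
      | zero =>
        have h0 : u 0 ≫ (twPush n R ((δ 0 : ℕ) : ℤ)).map g₁ = 0 := by
          have ha : a ≫ g₁ = 0 := comp_distTriang_mor_zero₁₂ _ hT
          have hu0 : u 0 = adj.unit.app O₁ ≫ (twPush n R ((δ 0 : ℕ) : ℤ)).map a :=
            ((adj.homEquiv O₁ C).apply_symm_apply (u 0)).symm.trans (adj.homEquiv_unit _ _ _)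
          haveI := (twPull n R ((δ 0 : ℕ) : ℤ))
          rw [hu0, Category.assoc, ← Functor.map_comp, ha]
          haveI := DerPush.isRightAdjoint_rpush (CohB1.ProjSpace.toSpec n R)
          haveI : (twPush n R ((δ 0 : ℕ) : ℤ)).PreservesZeroMorphisms := by
            haveI : (twPush n R ((δ 0 : ℕ) : ℤ)).IsRightAdjoint := adj.isRightAdjoint
            exact inferInstance
          rw [Functor.map_zero, comp_zero]
        rw [h0, Functor.map_zero, zero_comp]
      | succ k =>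
        have := hg k rfl
        rwa [eqToHom_refl, Category.comp_id] at this

/-- **pseudo-coherence on `P^n` is detected by `Rπ_*(- ⊗ O(d))`, `0 ≤ d ≤ n`** -/
theorem pc_of_twPush (C₀ : DCoh.D (CohB1.ProjSpace n R)) (hC₀ : DCoh.IsQCohD C₀)
    (h : ∀ d : ℕ, d ≤ n → ∀ m : ℤ, DCoh.IsPseudoCoherentD m ((twPush n R d).obj C₀)) (m : ℤ) :
    DCoh.IsPseudoCoherentD m C₀ := by
  obtain ⟨w, hw⟩ := exists_isLE_of_twPush n R
  have key : ∀ (j : ℕ) (C : DCoh.D (CohB1.ProjSpace n R)), DCoh.IsQCohD C →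
      (∀ d : ℕ, d ≤ n → (∀ k : ℤ, DCoh.IsPseudoCoherentD k ((twPush n R d).obj C)) ∧
        ((twPush n R d).obj C).IsLE (m - w - 1 + j)) → DCoh.IsPseudoCoherentD m C := by
    intro j
    induction j with
    | zero =>
      intro C hC hd
      haveI := hw C (m - w - 1) hC fun d hdn => by
        obtain ⟨h1, h2⟩ := hd d hdn
        exact ⟨fun i => (isQCoh_cohomology_of_pseudoCoherent (i - 1) _ (h1 _)).1 i (by lia), by simpa using h2⟩
      exact pc_of_isAbove fun i hi => DerivedCategory.isZero_of_isLE C (m - w - 1 + w) i (by lia)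
    | succ j ih =>
      intro C hC hd
      have hr : ∀ d : Fin (n + 1), ∃ (r : ℕ) (u : Fin r →
          ((DCoh.inD (Spec (CommRingCat.of R)) (Coh.structureModule _))⟦-(m - w - 1 + (j + 1 : ℕ))⟧ ⟶
            (twPush n R ((d : ℕ) : ℤ)).obj C)),
          ∀ (Z : (Spec (CommRingCat.of R)).Modules)
            (g : DCoh.HD ((twPush n R ((d : ℕ) : ℤ)).obj C) (m - w - 1 + (j + 1 : ℕ)) ⟶ Z),
            (∀ k, (DerivedCategory.homologyFunctor _ _).map (u k) ≫ g = 0) → g = 0 := fun d => by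
        obtain ⟨h1, h2⟩ := hd d (Nat.lt_succ_iff.1 d.2)
        haveI := h2
        exact exists_top_gens _ h1 _
      choose r u hu using hr
      let σ := Fintype.equivFin (Σ d : Fin (n + 1), Fin (r d))
      refine pc_of_gens n R m (m - w - 1 + (j + 1 : ℕ)) (fun C' hC' h' => ih C' hC' fun d hdn => ?_)
        (Fintype.card (Σ d : Fin (n + 1), Fin (r d))) C hC hd (fun k => (σ.symm k).1)
        (fun k => u (σ.symm k).1 (σ.symm k).2) fun d Z g hg => hu d Z g fun k => ?_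
      · obtain ⟨h1, h2⟩ := h' d hdn
        exact ⟨h1, by rwa [show m - w - 1 + ((j + 1 : ℕ) : ℤ) - 1 = m - w - 1 + (j : ℤ) by push_cast; ring] at h2⟩
      · have key : ∀ (p : Σ d : Fin (n + 1), Fin (r d)), σ.symm (σ ⟨d, k⟩) = p → ∀ hp : p.1 = d,
            (DerivedCategory.homologyFunctor _ _).map
              (u p.1 p.2 ≫ eqToHom (congrArg (fun d : Fin (n + 1) => (twPush n R ((d : ℕ) : ℤ)).obj C) hp)) ≫ g = 0 := by
          rintro p rfl hp
          exact hg (σ ⟨d, k⟩) hp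
        simpa using key ⟨d, k⟩ (σ.symm_apply_apply _) rfl
  have hb : ∀ d : Fin (n + 1), ∃ b : ℤ, ((twPush n R ((d : ℕ) : ℤ)).obj C₀).IsLE b := fun d =>
    DQPush.exists_isLE_of_pc (h d (Nat.lt_succ_iff.1 d.2) 0)
  choose b hb using hb
  obtain ⟨B, hB⟩ := (Finset.univ.image b).bddAbove
  refine key (B - (m - w - 1)).toNat C₀ hC₀ fun d hd => ⟨h d hd, ?_⟩
  haveI := hb ⟨d, by omega⟩
  refine (DerivedCategory.isLE_iff _ _).2 fun i hi =>
    DerivedCategory.isZero_of_isLE ((twPush n R (d : ℤ)).obj C₀) (b ⟨d, Nat.lt_succ_of_le hd⟩) i ?_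
  have := hB (Finset.mem_coe.2 (Finset.mem_image_of_mem b (Finset.mem_univ (⟨d, by omega⟩ : Fin (n + 1)))))
  omega

end Groth.Agent.PerfGen
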