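import Groth.Agent.PerfGen.Approx

/-!
Forms of approximation by perfect complexes.
-/

set_option autoImplicit false
set_option backward.isDefEq.respectTransparency false
set_option backward.isDefEq.respectTransparency.types false
set_option linter.style.haveILetI false
set_option linter.unusedSectionVars false

universe u

open CategoryTheory Limits Pretriangulated AlgebraicGeometry TopologicalSpace

attribute [local instance] HasDerivedCategory.standard

namespace Groth.Agent.PerfGen

open Groth.Agent.DQCoh (RD)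

variable {X : Scheme.{u}}

/-- extension from an open containing the support -/
theorem approx_of_opens (U : X.Opens) {T : Set X} (hT : IsClosed T) (hTU : T ⊆ (U : Set X)) (E : DCoh.D X) (m : ℤ)
    (happ : Approx (U.ι.base ⁻¹' T) m ((RD U.ι).obj E)) (hsupp : SuppFrom T m E) : Approx T m E :=
  approx_of_open U.ι hT (by rw [Scheme.Opens.range_ι]; exact hTU) happ hsupp

lemma isCompact_preimage_of_isEmbedding {α β : Type*} [TopologicalSpace α] [TopologicalSpace β] {f : α → β}
    (hf : Topology.IsEmbedding f) {s : Set β} (h : IsCompact (s ∩ Set.range f)) : IsCompact (f ⁻¹' s) := by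
  rw [hf.isCompact_iff, Set.image_preimage_eq_inter_range]
  exact h

/-- affine version -/
theorem approx_affine [IsAffine X] (fs : Finset Γ(X, ⊤)) (m : ℤ) (E : DCoh.D X) (hq : DCoh.IsQCohD E)
    (hpc : DCoh.IsPseudoCoherentD m E)
    (hsupp : SuppFrom (X.zeroLocus (U := ⊤) (↑fs : Set Γ(X, ⊤)) : Set X) (m - (fs.card : ℤ) + 1) E) :
    Approx (X.zeroLocus (U := ⊤) (↑fs : Set Γ(X, ⊤)) : Set X) m E := by
  classical
  set T : Set X := (X.zeroLocus (U := ⊤) (↑fs : Set Γ(X, ⊤)) : Set X)
  let k : Spec Γ(X, ⊤) ⟶ X := X.isoSpec.inv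
  have hrange : Set.range k.base = Set.univ := Set.range_eq_univ.2 fun x => ⟨X.isoSpec.hom.base x, by
    rw [← Scheme.Hom.comp_apply, Iso.hom_inv_id]; rfl⟩
  have hpre : k.base ⁻¹' T = (PrimeSpectrum.zeroLocus {a | a ∈ fs.toList} : Set (Spec Γ(X, ⊤))) := by
    rw [show {a | a ∈ fs.toList} = (fs : Set Γ(X, ⊤)) from Set.ext fun a => Finset.mem_toList]
    rw [show T = X.toSpecΓ.base ⁻¹' (PrimeSpectrum.zeroLocus (fs : Set Γ(X, ⊤))) from
      (X.toSpecΓ_preimage_zeroLocus _).symm]
    ext y
    have hy : X.toSpecΓ.base (k.base y) = y := by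
      show (X.isoSpec.inv ≫ X.isoSpec.hom).base y = y
      rw [Iso.inv_hom_id]
      rfl
    simp only [Set.mem_preimage]
    exact (congrArg (· ∈ PrimeSpectrum.zeroLocus (fs : Set Γ(X, ⊤))) hy).to_iff
  refine approx_of_open k (X.zeroLocus_isClosed _) (by rw [hrange]; exact Set.subset_univ _) ?_ ?_
  · rw [hpre]
    refine approx_spec fs.toList m _ (isQCohD_RD k hq) (DQCoh.pc_restrict k hpc) ?_
    rw [← hpre, Finset.length_toList]
    intro i hi
    rw [support_HD_RD]
    exact Set.preimage_mono (hsupp i hi)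
  · rcases (Nat.eq_zero_or_pos fs.card) with h0 | h0
    · intro i _ x _
      rw [Finset.card_eq_zero] at h0
      simp [T, h0]
    · exact suppFrom_mono (by omega) hsupp

/-- the induction step for open subsets -/
theorem hasApprox_union (U V : X.Opens) (hU : IsCompact (U : Set X)) (hV : IsAffineOpen V)
    (hUV : IsCompact ((U ⊓ V : X.Opens) : Set X)) (hcov : U ⊔ V = ⊤)
    (hAU : ∀ T : Set (U : Scheme.{u}), IsClosed T → IsRetrocompact Tᶜ → HasApprox T) {T : Set X} (hT : IsClosed T)
    (hTc : IsRetrocompact Tᶜ) : HasApprox T := by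
  haveI : CompactSpace (U : Scheme.{u}) := isCompact_iff_compactSpace.1 hU
  let k : Spec (CommRingCat.of Γ(X, V)) ⟶ X := hV.fromSpec
  have hk : Set.range k.base = (V : Set X) := hV.range_fromSpec
  refine hasApprox_of_cover U.ι k ?_ ?_ hT ?_ (hAU _ (hT.preimage U.ι.continuous) fun W hW hWo => ?_)
  · rw [hk, Scheme.Opens.range_ι, ← Opens.coe_sup, hcov]
    rfl
  · show IsCompact (k.base ⁻¹' Set.range U.ι.base)
    refine isCompact_preimage_of_isEmbedding k.isOpenEmbedding.isEmbedding ?_
    rw [hk]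
    simpa using hUV
  · show IsCompact (k.base ⁻¹' Tᶜ)
    refine isCompact_preimage_of_isEmbedding k.isOpenEmbedding.isEmbedding ?_
    rw [hk]
    exact hTc hV.isCompact V.2
  · rw [← Set.preimage_compl, U.ι.isOpenEmbedding.isEmbedding.isCompact_iff, Set.image_preimage_inter]
    exact hTc (hW.image U.ι.continuous) (U.ι.isOpenEmbedding.isOpenMap _ hWo)

/-- approximation in the spelled out form -/
theorem hasApprox' [CompactSpace X] [QuasiSeparatedSpace X] (T : Set X) (hT : IsClosed T) (hTc : IsCompact Tᶜ) :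
    ∃ r : ℤ, ∀ (m : ℤ) (E : DCoh.D X), DCoh.IsQCohD E → DCoh.IsPseudoCoherentD (m - r) E →
      (∀ i : ℤ, m - r ≤ i → CohB1.support (DCoh.HD E i) ⊆ T) →
      ∃ (P : DCoh.D X) (α : P ⟶ E), DCoh.IsPerfect P ∧ (∀ i : ℤ, CohB1.support (DCoh.HD P i) ⊆ T) ∧
        (∀ i : ℤ, m < i → IsIso ((DerivedCategory.homologyFunctor X.Modules i).map α)) ∧
        Epi ((DerivedCategory.homologyFunctor X.Modules m).map α) := by
  obtain ⟨r, hr⟩ := hasApprox X T hT hTc
  exact ⟨r, fun m E h1 h2 h3 => (approx_iff T m E).1 (hr m E h1 h2 h3)⟩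

lemma hasApprox_iff (T : Set X) : HasApprox T ↔
    ∃ r : ℤ, ∀ (m : ℤ) (E : DCoh.D X), DCoh.IsQCohD E → DCoh.IsPseudoCoherentD (m - r) E →
      (∀ i : ℤ, m - r ≤ i → CohB1.support (DCoh.HD E i) ⊆ T) →
      ∃ (P : DCoh.D X) (α : P ⟶ E), DCoh.IsPerfect P ∧ (∀ i : ℤ, CohB1.support (DCoh.HD P i) ⊆ T) ∧
        (∀ i : ℤ, m < i → IsIso ((DerivedCategory.homologyFunctor X.Modules i).map α)) ∧
        Epi ((DerivedCategory.homologyFunctor X.Modules m).map α) :=
  exists_congr fun _ => forall_congr' fun m => forall_congr' fun E => imp_congr_right fun _ =>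
    imp_congr_right fun _ => imp_congr_right fun _ => approx_iff T m E

end Groth.Agent.PerfGen
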