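import Groth.Agent.PerfGen.InvTwistD
import Groth.Agent.PerfGen.TwistGen
import Groth.Agent.DerPush.Basic
import Groth.Agent.SymAlg.InvDual
import Groth.Agent.TMul.Pullback
import Groth.Agent.TMul.AmpleBasis
import Groth.Agent.HDU.Section
import Groth.Prelude.Def_DCoh2
import Groth.Prelude.Def_DDual2

/-!
`RΓ(X, K ⊗ L^n) ≠ 0` for some `n` when `L` is ample and `K ≠ 0` is quasi-coherent.
-/

set_option autoImplicit false
set_option backward.isDefEq.respectTransparency false
set_option backward.isDefEq.respectTransparency.types false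
set_option linter.style.haveILetI false
set_option maxHeartbeats 1000000

universe u

open CategoryTheory Limits Pretriangulated AlgebraicGeometry TopologicalSpace Opposite CochainComplex HomComplex

attribute [local instance] HasDerivedCategory.standard

noncomputable section

namespace Groth.Agent.PerfGen

variable {X : Scheme.{u}}

/-- maps from `O[q]` into a K-injective complex without cohomology of global sections vanish -/
lemma hom_unit_eq_zero_of_gamma (I : CochainComplex X.Modules ℤ) [I.IsKInjective] (q : ℤ)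
    (h : (((DCoh.gammaAb X).mapHomologicalComplex (ComplexShape.up ℤ)).obj I).ExactAt (-q))
    (g : (DCoh.inD X (Coh.structureModule X))⟦q⟧ ⟶ DerivedCategory.Q.obj I) : g = 0 := by
  let S : CochainComplex X.Modules ℤ :=
    (HomologicalComplex.single X.Modules (ComplexShape.up ℤ) (-q)).obj (Coh.structureModule X)
  let σ : DerivedCategory.Q.obj S ≅ (DCoh.inD X (Coh.structureModule X))⟦q⟧ :=
    ((DerivedCategory.singleFunctorIsoCompQ X.Modules (-q)).app _).symm ≪≫
      (((DerivedCategory.singleFunctors X.Modules).shiftIso q (-q) 0 (by lia)).app _).symm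
  obtain ⟨φh, hφh⟩ := (CochainComplex.IsKInjective.Qh_map_bijective
    ((HomotopyCategory.quotient X.Modules (ComplexShape.up ℤ)).obj S) I).2
      ((DerivedCategory.quotientCompQhIso X.Modules).hom.app S ≫ σ.hom ≫ g ≫
        (DerivedCategory.quotientCompQhIso X.Modules).inv.app I)
  obtain ⟨φ, rfl⟩ := (HomotopyCategory.quotient X.Modules (ComplexShape.up ℤ)).map_surjective φh
  have hg : DerivedCategory.Q.map φ = σ.hom ≫ g := by
    have h1 := (DerivedCategory.quotientCompQhIso X.Modules).hom.naturality φ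
    simp only [Functor.comp_map] at h1
    rw [hφh] at h1
    simpa using h1.symm
  let e := (HomologicalComplex.singleObjXSelf (ComplexShape.up ℤ) (-q) (Coh.structureModule X)).inv
  let x : Γ(I.X (-q), ⊤) := TMul.val (e ≫ φ.f (-q)) ⊤
  have hdx : (I.d (-q) (-q + 1)).app ⊤ x = 0 := by
    have h0 : (e ≫ φ.f (-q)) ≫ I.d (-q) (-q + 1) = 0 := by
      rw [Category.assoc, φ.comm, (HomologicalComplex.isZero_single_obj_X (ComplexShape.up ℤ) (-q)
        (Coh.structureModule X) (-q + 1) (by omega)).eq_of_tgt (S.d _ _) 0, zero_comp, comp_zero]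
    have := TMul.val_comp (e ≫ φ.f (-q)) (I.d (-q) (-q + 1)) ⊤
    rw [h0] at this
    exact this.symm.trans rfl
  rw [HomologicalComplex.exactAt_iff' _ (-q - 1) (-q) (-q + 1) (by simp) (by simp),
    ShortComplex.ab_exact_iff] at h
  obtain ⟨y, hy⟩ := h x hdx
  let ψ : Coh.structureModule X ⟶ I.X (-q - 1) := TMul.homOf y
  have hψ : ψ ≫ I.d (-q - 1) (-q) = e ≫ φ.f (-q) := by
    refine TMul.hom_ext_val ?_
    rw [TMul.val_comp, TMul.val_homOf, QC.res_self]
    exact hy
  have h5 : δ (-1) 0 (Cochain.fromSingleMk ψ (show (-q) + -1 = -q - 1 by omega)) = Cochain.ofHom φ := by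
    rw [Cochain.δ_fromSingleMk _ _ _ (-q) (add_zero (-q)), hψ]
    apply (Cochain.fromSingleEquiv (add_zero (-q))).injective
    simp [Cochain.fromSingleEquiv, e, S]
  obtain ⟨H⟩ := KInj.nonempty_homotopy_of_delta_eq _ h5
  have h6 : (DerivedCategory.Q : _ ⥤ DCoh.D X).map φ = 0 :=
    (KInj.Q_map_eq_of_homotopy ((Homotopy.ofEq (sub_zero φ)).trans H)).trans (Functor.map_zero _ _ _)
  rw [← cancel_epi σ.hom, comp_zero, ← hg, h6]

/-- `RΓ M = 0` kills the maps from the shifts of `O` -/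
theorem hom_unit_eq_zero_of_rgamma [DCoh.HasRΓ X] (M : DCoh.D X)
    (h : ∀ p : ℤ, IsZero ((DerivedCategory.homologyFunctor AddCommGrpCat.{u} p).obj ((DCoh.RΓ X).obj M)))
    (q : ℤ) (g : (DCoh.inD X (Coh.structureModule X))⟦q⟧ ⟶ M) : g = 0 := by
  let P := DerivedCategory.Q.objPreimage M
  obtain ⟨I, f, hI, hf, -⟩ := KInj.exists_kInjective P
  haveI := hI
  haveI := hf
  haveI : IsIso (DerivedCategory.Q.map f) := (DerivedCategory.isIso_Q_map_iff_quasiIso _ _).2 hf
  let eI : M ≅ DerivedCategory.Q.obj I :=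
    (DerivedCategory.Q.objObjPreimageIso M).symm ≪≫ asIso (DerivedCategory.Q.map f)
  let F := DCoh.gammaKh X
  let α := F.totalRightDerivedUnit DerivedCategory.Qh (HomotopyCategory.quasiIso X.Modules (ComplexShape.up ℤ))
  haveI : IsIso (α.app ((HomotopyCategory.quotient X.Modules (ComplexShape.up ℤ)).obj I)) :=
    (KInj.isDeforming_Qh DerPush.exists_kInj_sch F).isIso_app
      (HomotopyCategory.quasiIso X.Modules (ComplexShape.up ℤ)) (DCoh.RΓ X) α hI
  let ε : DerivedCategory.Q.obj (((DCoh.gammaAb X).mapHomologicalComplex (ComplexShape.up ℤ)).obj I) ≅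
      (DCoh.RΓ X).obj M :=
    ((DerivedCategory.quotientCompQhIso AddCommGrpCat.{u}).app _).symm ≪≫
      asIso (α.app ((HomotopyCategory.quotient X.Modules (ComplexShape.up ℤ)).obj I)) ≪≫
      (DCoh.RΓ X).mapIso ((DerivedCategory.quotientCompQhIso X.Modules).app I ≪≫ eI.symm)
  rw [← cancel_mono eI.hom, zero_comp]
  refine hom_unit_eq_zero_of_gamma I q ?_ _
  rw [HomologicalComplex.exactAt_iff_isZero_homology]
  exact ((h (-q)).of_iso ((DerivedCategory.homologyFunctor _ (-q)).mapIso ε)).of_iso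
    ((DerivedCategory.homologyFunctorFactors AddCommGrpCat.{u} (-q)).app _).symm

lemma nonempty_itT_pow (L' : X.Modules) : ∀ (e : ℕ) (M : X.Modules),
    Nonempty ((itT L' e).obj M ≅ CohB1.tensorMod M (CohB1.tensorPow L' e))
  | 0, M => ⟨(SecTwist.unitorR M).symm⟩
  | e + 1, M => by
    obtain ⟨i⟩ := nonempty_itT_pow L' e (CohB1.tensorMod M L')
    exact ⟨i ≪≫ TMul.assocIso M L' _ ≪≫ PicGrp.tensorModIso (Iso.refl M) (TMul.commIso _ _)⟩

/-- finitely many sections of one power with affine generating loci covering `X` -/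
theorem exists_affine_sections {L : X.Modules} (hL : CohB1.IsAmple L) :
    ∃ (N : ℕ) (r : ℕ) (s : Fin r → (Coh.structureModule X ⟶ CohB1.tensorPow L N)),
      (∀ i, IsAffineOpen (CohB1.genLocus _ (s i))) ∧ ∀ x, ∃ i, x ∈ CohB1.genLocus _ (s i) := by
  obtain ⟨hinv, hc, hloc⟩ := hL
  haveI := hc
  choose k s hxs hs using hloc
  obtain ⟨t, ht⟩ := isCompact_univ.elim_finite_subcover
    (fun x => ((CohB1.genLocus _ (s x) : X.Opens) : Set X)) (fun x => (CohB1.genLocus _ (s x)).2)
    fun x _ => Set.mem_iUnion.2 ⟨x, hxs x⟩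
  let N := ∏ x ∈ t, (k x + 1)
  have key : ∀ x ∈ t, ∃ s' : Coh.structureModule X ⟶ CohB1.tensorPow L N,
      CohB1.genLocus _ s' = CohB1.genLocus _ (s x) := fun x hx => by
    obtain ⟨b, hb⟩ := Finset.dvd_prod_of_mem (fun x => k x + 1) hx
    obtain ⟨b', rfl⟩ : ∃ b', b = b' + 1 := ⟨b - 1, by
      have : 0 < N := Finset.prod_pos fun x _ => Nat.succ_pos _
      have hb' : N = (k x + 1) * b := hb
      rcases b with _ | b <;> simp_all⟩
    obtain ⟨e⟩ := TMul.nonempty_powMulIso L (k x + 1) (b' + 1)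
    refine ⟨SecTwist.powHom (s x) (b' + 1) ≫ (e ≪≫ eqToIso (congrArg (CohB1.tensorPow L) hb.symm)).hom, ?_⟩
    rw [TMul.genLocus_comp, TMul.genLocus_powHom (TMul.isInvertible_tensorPow hinv _)]
  choose s' hs' using key
  let σ := t.equivFin
  refine ⟨N, t.card, fun i => s' _ (σ.symm i).2, fun i => ?_, fun x => ?_⟩
  · rw [hs']; exact hs _
  · obtain ⟨y, hy, hxy⟩ := Set.mem_iUnion₂.1 (ht (Set.mem_univ x))
    refine ⟨σ ⟨y, hy⟩, ?_⟩
    rw [hs', σ.symm_apply_apply]
    exact hxy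

/-- **`RΓ(X, K ⊗ L^n) ≠ 0` for some `n`** -/
theorem exists_not_isZero_rgamma_twist (L : X.Modules) (hL : CohB1.IsAmple L) [DCoh.HasRΓ X]
    [∀ n : ℕ, DCoh.HasLTensorMod (CohB1.tensorPow L n)] (K : DCoh.D X) (hK : DCoh.IsQCohD K) (hK0 : ¬ IsZero K) :
    ∃ (n : ℕ) (p : ℤ), ¬ IsZero ((DerivedCategory.homologyFunctor AddCommGrpCat.{u} p).obj
      ((DCoh.RΓ X).obj ((DCoh.LTensorMod (CohB1.tensorPow L n)).obj K))) := by
  by_contra hcon
  push Not at hcon
  obtain ⟨N, r, s, haff, hcov⟩ := exists_affine_sections hL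
  haveI := hL.2.1
  haveI := TMul.isSeparated_of_isAmple hL
  let L₁ := CohB1.tensorPow L N
  have hL₁ : PicF.IsInvertible L₁ := TMul.isInvertible_tensorPow hL.1 N
  obtain ⟨L', hL', ⟨η'⟩⟩ := SymAlg.exists_inverse hL₁
  let η : CohB1.tensorMod L' L₁ ≅ Coh.structureModule X := TMul.commIso _ _ ≪≫ η'
  refine hK0 (isZero_of_noMaps η s haff hcov hK fun e q g => ?_)
  obtain ⟨i⟩ := nonempty_itT_pow L' e (Coh.structureModule X)
  let Q := CohB1.tensorPow L' e
  let P := CohB1.tensorPow L (N * e)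
  obtain ⟨m⟩ := TMul.nonempty_powMulIso L N e
  obtain ⟨a⟩ := TMul.nonempty_powTensorIso L' L₁ e
  obtain ⟨b⟩ := TMul.nonempty_powCongr η e
  obtain ⟨c⟩ := TMul.nonempty_powUnitIso (X := X) e
  let θ' : CohB1.tensorMod Q P ≅ Coh.structureModule X :=
    PicGrp.tensorModIso (Iso.refl Q) m.symm ≪≫ a.symm ≪≫ b ≪≫ c
  let θ : CohB1.tensorMod P Q ≅ Coh.structureModule X := TMul.commIso _ _ ≪≫ θ'
  obtain ⟨hP₁, hP₂⟩ := exact_trm_inv (TMul.isInvertible_tensorPow hL.1 (N * e) : PicF.IsInvertible P)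
  obtain ⟨hQ₁, hQ₂⟩ := exact_trm_inv (TMul.isInvertible_tensorPow hL' e : PicF.IsInvertible Q)
  let E : (itT L' e).obj (Coh.structureModule X) ≅ Q := i ≪≫ TMul.leftUnitIso Q
  rw [← cancel_epi ((((DerivedCategory.singleFunctor X.Modules 0).mapIso E).inv)⟦q⟧'), comp_zero]
  refine hom_eq_zero_of_invD P Q θ θ' K q (fun g' => ?_) _
  obtain ⟨t⟩ := nonempty_lTensorMod_invD P K
  rw [← cancel_mono t.inv, zero_comp]
  exact hom_unit_eq_zero_of_rgamma _ (hcon (N * e)) q _

end Groth.Agent.PerfGen
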