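import Groth.Agent.PerfGen.Extend

/-!
Perfect generators with supports on quasi-compact quasi-separated schemes.
-/

set_option autoImplicit false
set_option backward.isDefEq.respectTransparency false
set_option backward.isDefEq.respectTransparency.types false
set_option linter.style.haveILetI false
set_option linter.unusedSectionVars false

universe u

open CategoryTheory Limits Pretriangulated AlgebraicGeometry ObjectProperty ZeroObject

attribute [local instance] HasDerivedCategory.standard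

namespace Groth.Agent.PerfGen

open Groth.Agent.DQCoh (RD rdComp rdCongr)

variable {U V X : Scheme.{u}}

lemma hom_rpush_eq_zero (j : U ⟶ X) [IsOpenImmersion j] {A : DCoh.D X} {B : DCoh.D U} (hA : IsZero ((RD j).obj A))
    (h : A ⟶ (DCoh.Rpush j).obj B) : h = 0 := by
  apply ((adjR j).homEquiv _ _).symm.injective
  exact hA.eq_of_src _ _

/-- glueing two objects along an isomorphism on the intersection -/
theorem exists_glue (j : U ⟶ X) (k : V ⟶ X) [IsOpenImmersion j] [IsOpenImmersion k] (A : DCoh.D U) (B : DCoh.D V)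
    (φ : (RD (toU j k)).obj A ≅ (RD (interO j k).ι).obj B) :
    ∃ G : DCoh.D X, Nonempty ((RD j).obj G ≅ A) ∧ Nonempty ((RD k).obj G ≅ B) := by
  let l := (interO j k).ι
  let A' := (DCoh.Rpush j).obj A
  let B' := (DCoh.Rpush k).obj B
  let O := (DCoh.Rpush k).obj ((DCoh.Rpush l).obj ((RD l).obj B))
  let e : (RD k).obj A' ≅ (DCoh.Rpush l).obj ((RD l).obj B) := (bcO j k).app A ≪≫ (DCoh.Rpush l).mapIso φ
  let θ : A' ⟶ O := (adjR k).unit.app A' ≫ (DCoh.Rpush k).map e.hom
  let ψ : B' ⟶ O := (DCoh.Rpush k).map ((adjR l).unit.app B)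
  haveI hψj : IsIso ((RD j).map ψ) := by
    refine (NatIso.isIso_map_iff (bcO k j) ((adjR l).unit.app B)).2 ?_
    let t : (interO k j : Scheme.{u}) ⟶ (interO j k : Scheme.{u}) := IsOpenImmersion.lift l (toU k j) (by
      rw [Scheme.Opens.range_ι]
      rintro _ ⟨w, rfl⟩
      exact ⟨(interO k j).ι.base w, by rw [← Scheme.Hom.comp_apply, ← toU_fac, Scheme.Hom.comp_apply]⟩)
    have ht : t ≫ l = toU k j := IsOpenImmersion.lift_fac _ _ _
    haveI : IsOpenImmersion (t ≫ l) := by rw [ht]; infer_instance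
    haveI : IsOpenImmersion t := IsOpenImmersion.of_comp t l
    haveI h1 : IsIso ((RD (toU k j)).map ((adjR l).unit.app B)) :=
      (NatIso.isIso_map_iff (rdCongr ht.symm ≪≫ rdComp t l) _).2
        (by dsimp only [Functor.comp_map]; infer_instance)
    dsimp only [Functor.comp_map]
    infer_instance
  haveI hθk : IsIso ((RD k).map θ) := by
    dsimp only [θ]
    rw [Functor.map_comp]
    infer_instance
  obtain ⟨C, c, c', hC⟩ := distinguished_cocone_triangle ψ
  obtain ⟨G, g, g', hG⟩ := distinguished_cocone_triangle₁ (θ ≫ c)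
  obtain ⟨m, hm, hm'⟩ := complete_distinguished_triangle_morphism₁ _ _ hG hC θ (𝟙 C) (Category.comp_id _)
  have hCj : IsZero ((RD j).obj C) :=
    (Triangle.isZero₃_iff_isIso₁ _ ((RD j).map_distinguished _ hC)).2 hψj
  haveI : IsIso ((RD j).map g) := (Triangle.isZero₃_iff_isIso₁ _ ((RD j).map_distinguished _ hG)).1 hCj
  let Φ : Triangle.mk g (θ ≫ c) g' ⟶ Triangle.mk ψ c c' :=
    { hom₁ := m
      hom₂ := θ
      hom₃ := 𝟙 C
      comm₁ := hm
      comm₂ := Category.comp_id _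
      comm₃ := hm' }
  haveI : IsIso ((RD k).map m) := by
    haveI : IsIso ((RD k).map (𝟙 C)) := inferInstance
    exact isIso₁_of_isIso₂₃ ((RD k).mapTriangle.map Φ) ((RD k).map_distinguished _ hG)
      ((RD k).map_distinguished _ hC) hθk ‹_›
  exact ⟨G, ⟨asIso ((RD j).map g) ≪≫ asIso ((adjR j).counit.app A)⟩,
    ⟨asIso ((RD k).map m) ≪≫ asIso ((adjR k).counit.app B)⟩⟩

lemma suppD_of_cover (j : U ⟶ X) (k : V ⟶ X) [IsOpenImmersion j] [IsOpenImmersion k]
    (hcov : Set.range j.base ∪ Set.range k.base = Set.univ) {T : Set X} {E : DCoh.D X}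
    (hj : SuppD (j.base ⁻¹' T) ((RD j).obj E)) (hk : SuppD (k.base ⁻¹' T) ((RD k).obj E)) : SuppD T E := by
  intro i x hx
  rcases (show x ∈ Set.range j.base ∪ Set.range k.base by rw [hcov]; trivial) with ⟨u, rfl⟩ | ⟨u, rfl⟩
  · exact hj i (by rw [support_HD_RD]; exact hx)
  · exact hk i (by rw [support_HD_RD]; exact hx)

lemma perfT_biprod {T : Set X} (hT : IsClosed T) {A B : DCoh.D X} [HasBinaryBiproduct A B] (hA : PerfT T A)
    (hB : PerfT T B) : PerfT T (A ⊞ B) := by
  have hd := binaryBiproductTriangle_distinguished A B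
  refine ⟨DQCoh.perfect_obj₂ _ hd hA.1 hB.1, (isZero_RD_of_compl hT _).2 ?_⟩
  exact Triangle.isZero₂_of_isZero₁₃ _ ((RD _).map_distinguished _ hd) ((isZero_RD_of_compl hT _).1 hA.2)
    ((isZero_RD_of_compl hT _).1 hB.2)

/-- **the induction step** -/
theorem hasGen_of_cover [CompactSpace X] [QuasiSeparatedSpace X] [CompactSpace U] [CompactSpace V]
    (j : U ⟶ X) (k : V ⟶ X) [IsOpenImmersion j] [IsOpenImmersion k]
    (hcov : Set.range j.base ∪ Set.range k.base = Set.univ) (hU : HasGen U) (hV : HasGen V) : HasGen X := by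
  intro T hT hTc
  haveI : QuasiCompact j := quasiCompact_of_compactSpace j
  haveI : QuasiCompact k := quasiCompact_of_compactSpace k
  haveI : QuasiSeparated j := inferInstance
  haveI : QuasiSeparated k := inferInstance
  haveI : QuasiSeparatedSpace V := quasiSeparatedSpace_of_quasiSeparated k
  haveI : QuasiSeparatedSpace U := quasiSeparatedSpace_of_quasiSeparated j
  have hWc : IsCompact ((interO j k : V.Opens) : Set V) :=
    k.isCompact_preimage (U := j.opensRange) (isCompact_range j.continuous)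
  haveI : CompactSpace (interO j k : Scheme.{u}) := isCompact_iff_compactSpace.1 hWc
  haveI : QuasiSeparatedSpace (interO j k : Scheme.{u}) := quasiSeparatedSpace_of_quasiSeparated (interO j k).ι
  have hcU : IsCompact (j.base ⁻¹' T)ᶜ := j.isCompact_preimage (U := ⟨Tᶜ, hT.isOpen_compl⟩) hTc
  have hcV : IsCompact (k.base ⁻¹' T)ᶜ := k.isCompact_preimage (U := ⟨Tᶜ, hT.isOpen_compl⟩) hTc
  obtain ⟨GU, hGU, hGUT, hGUgen⟩ := hU _ (hT.preimage j.continuous) hcU
  have hF : PerfT ((interO j k).ι.base ⁻¹' (k.base ⁻¹' T)) ((RD (toU j k)).obj GU) := by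
    refine ⟨isPerfect_RD _ hGU, ?_⟩
    have h := suppD_RD (toU j k) hGUT
    rw [← Set.preimage_comp] at h ⊢
    have he : j.base ∘ (toU j k).base = k.base ∘ (interO j k).ι.base := funext fun w => by
      simp only [Function.comp_apply, ← Scheme.Hom.comp_apply, toU_fac]
    rwa [he] at h
  let GU' := GU ⊞ GU⟦(1 : ℤ)⟧
  obtain ⟨GV, hGV, ⟨eV⟩⟩ := exists_extend hV (interO j k).ι (hT.preimage k.continuous) hcV hF
  haveI := preservesBinaryBiproducts_of_preservesBiproducts (RD (toU j k))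
  let φ : (RD (toU j k)).obj GU' ≅ (RD (interO j k).ι).obj GV :=
    (RD (toU j k)).mapBiprod _ _ ≪≫ biprod.mapIso (Iso.refl _) (((RD (toU j k)).commShiftIso (1 : ℤ)).app GU) ≪≫
      eV.symm
  obtain ⟨G₁, ⟨e₁⟩, ⟨e₂⟩⟩ := exists_glue j k GU' GV φ
  have hGU' : PerfT (j.base ⁻¹' T) GU' := perfT_biprod (hT.preimage j.continuous) ⟨hGU, hGUT⟩
    ⟨DQCoh.perfect_shift hGU 1, ((localizing_PT (hT.preimage j.continuous)).shift
      ⟨isQCohD_of_isPerfect hGU, hGUT⟩ 1).2⟩
  have hG₁ : PerfT T G₁ := ⟨isPerfect_of_cover j k hcov (DQCoh.perfect_of_iso e₁.symm hGU'.1)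
      (DQCoh.perfect_of_iso e₂.symm hGV.1),
    suppD_of_cover j k hcov (suppD_of_iso e₁.symm hGU'.2) (suppD_of_iso e₂.symm hGV.2)⟩
  -- the part supported outside `U`
  let Z : Set V := k.base ⁻¹' T ∩ (Set.range (interO j k).ι.base)ᶜ
  have hZ : IsClosed Z := (hT.preimage k.continuous).inter (interO j k).ι.opensRange.isOpen.isClosed_compl
  obtain ⟨K₀, hK₀, hK₀Z, hK₀gen⟩ := hV Z hZ (isCompact_compl_inter (interO j k).ι hcV)
  let K := (DCoh.Rpush k).obj K₀
  have hKj : IsZero ((RD j).obj K) := by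
    refine IsZero.of_iso ((DCoh.Rpush (interO k j).ι).map_isZero ?_) ((bcO k j).app K₀)
    refine (isZero_RD_iff _ K₀).2 (suppD_mono ?_ hK₀Z)
    rintro v ⟨-, hv⟩ ⟨w, rfl⟩
    rw [Scheme.Opens.range_ι] at hv
    exact hv ⟨(interO k j).ι.base w, by rw [← Scheme.Hom.comp_apply, ← toU_fac, Scheme.Hom.comp_apply]⟩
  have hK : PerfT T K := ⟨isPerfect_of_cover j k hcov (perfT_zero (T := Set.univ) hKj).1
      (DQCoh.perfect_of_iso (asIso ((adjR k).counit.app K₀)).symm hK₀),
    suppD_rpush k hT (suppD_mono Set.inter_subset_left hK₀Z)⟩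
  have hG : PerfT T (G₁ ⊞ K) := perfT_biprod hT hG₁ hK
  refine ⟨G₁ ⊞ K, hG.1, hG.2, fun M hM hzero => ?_⟩
  have h₁ : ∀ (n : ℤ) (g : G₁⟦n⟧ ⟶ M), g = 0 := fun n g => by
    have h := hzero n ((biprod.fst : G₁ ⊞ K ⟶ G₁)⟦n⟧' ≫ g)
    rw [← Category.id_comp g, ← (shiftFunctor (DCoh.D X) n).map_id G₁, ← (biprod.inl_fst : biprod.inl ≫ (biprod.fst : G₁ ⊞ K ⟶ G₁) = 𝟙 G₁), Functor.map_comp,
      Category.assoc, h, comp_zero]
  have h₂ : ∀ (n : ℤ) (g : K⟦n⟧ ⟶ M), g = 0 := fun n g => by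
    have h := hzero n ((biprod.snd : G₁ ⊞ K ⟶ K)⟦n⟧' ≫ g)
    rw [← Category.id_comp g, ← (shiftFunctor (DCoh.D X) n).map_id K, ← (biprod.inr_snd : biprod.inr ≫ (biprod.snd : G₁ ⊞ K ⟶ K) = 𝟙 K), Functor.map_comp,
      Category.assoc, h, comp_zero]
  let R := (DCoh.Rpush j).obj ((RD j).obj M)
  obtain ⟨C, c, δ, hC⟩ := distinguished_cocone_triangle₁ ((adjR j).unit.app M)
  have hR : PT T R := ⟨DQPush.isQCohD_rpush j (isQCohD_RD j hM.1), suppD_rpush j hT (suppD_RD j hM.2)⟩
  have hCj : IsZero ((RD j).obj C) :=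
    (Triangle.isZero₁_iff_isIso₂ _ ((RD j).map_distinguished _ hC)).2 (isIso_map_unit_adjR j M)
  have hCq : DCoh.IsQCohD C := isQCohD_obj₁ _ hC hM.1 hR.1
  have hC0 : IsZero C := by
    refine isZero_of_cover j k hcov hCj (hK₀gen _ ⟨isQCohD_RD k hCq, suppD_inter
      (suppD_RD k (suppD_obj₁ hT _ hC hM.2 hR.2)) ?_⟩ fun n g => ?_)
    · exact (isZero_RD_iff _ _).1 (((RD (toU j k)).map_isZero hCj).of_iso ((rdSquare j k).app C).symm)
    · haveI := isIso_unit_of_cover j k hcov hCj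
      let iK : (RD k).obj (K⟦n⟧) ≅ K₀⟦n⟧ :=
        ((RD k).commShiftIso n).app K ≪≫ (shiftFunctor _ n).mapIso (asIso ((adjR k).counit.app K₀))
      rw [← cancel_epi iK.hom, comp_zero]
      apply ((adjR k).homEquiv _ _).injective
      rw [Adjunction.homEquiv_unit, Adjunction.homEquiv_unit, Functor.map_zero, comp_zero,
        ← cancel_mono (inv ((adjR k).unit.app C)), zero_comp]
      set h := ((adjR k).unit.app (K⟦n⟧) ≫ (DCoh.Rpush k).map (iK.hom ≫ g)) ≫ inv ((adjR k).unit.app C)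
      obtain ⟨q, hq⟩ := Triangle.coyoneda_exact₂ _ (inv_rot_of_distTriang _ hC) h (h₂ n (h ≫ c))
      have hq0 : q = 0 := by
        apply (shiftFunctor (DCoh.D X) (1 : ℤ)).map_injective
        rw [Functor.map_zero, ← cancel_mono ((shiftFunctorCompIsoId (DCoh.D X) (-1 : ℤ) 1 (by lia)).hom.app R),
          zero_comp]
        refine hom_rpush_eq_zero j ?_ _
        exact IsZero.of_iso ((shiftFunctor _ (1 : ℤ)).map_isZero (IsZero.of_iso ((shiftFunctor _ n).map_isZero hKj)
          (((RD j).commShiftIso n).app K))) (((RD j).commShiftIso (1 : ℤ)).app (K⟦n⟧))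
      rw [hq, hq0]
      exact zero_comp
  haveI : IsIso ((adjR j).unit.app M) := (Triangle.isZero₁_iff_isIso₂ _ hC).1 hC0
  have hMj : IsZero ((RD j).obj M) := by
    refine hGUgen _ ⟨isQCohD_RD j hM.1, suppD_RD j hM.2⟩ fun n g => ?_
    let f₁ : (RD j).obj (G₁⟦n⟧) ⟶ GU⟦n⟧ :=
      ((RD j).commShiftIso n).hom.app G₁ ≫ (e₁.hom ≫ (biprod.fst : GU' ⟶ GU))⟦n⟧'
    haveI : Epi f₁ := by
      haveI : IsSplitEpi (e₁.hom ≫ (biprod.fst : GU' ⟶ GU)) :=
        IsSplitEpi.mk' ⟨biprod.inl ≫ e₁.inv, by simp⟩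
      exact epi_comp _ _
    rw [← cancel_epi f₁, comp_zero]
    apply ((adjR j).homEquiv _ _).injective
    rw [Adjunction.homEquiv_unit, Adjunction.homEquiv_unit, Functor.map_zero, comp_zero,
      ← cancel_mono (inv ((adjR j).unit.app M)), zero_comp]
    exact h₁ n _
  exact ((DCoh.Rpush j).map_isZero hMj).of_iso (asIso ((adjR j).unit.app M))

/-- **perfect generators with supports** -/
theorem hasGen (X : Scheme.{u}) [CompactSpace X] [QuasiSeparatedSpace X] : HasGen X := by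
  suffices H : ∀ S : X.Opens, IsCompact (S : Set X) → HasGen (S : Scheme.{u}) by
    haveI : CompactSpace ((⊤ : X.Opens) : Scheme.{u}) := isCompact_iff_compactSpace.1 isCompact_univ
    exact hasGen_of_cover (⊤ : X.Opens).ι (⊤ : X.Opens).ι (by simp) (H ⊤ isCompact_univ) (H ⊤ isCompact_univ)
  intro S hS
  refine compact_open_induction_on S hS ?_ ?_
  · intro T hT _
    refine ⟨0, (perfT_zero (T := T) (isZero_zero _)).1, (perfT_zero (isZero_zero _)).2, fun M _ _ => ?_⟩
    exact isZero_of_suppD_empty fun i x _ => x.2.elim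
  · intro S hS U ih
    let Z : X.Opens := S ⊔ U.1
    have hUc : IsCompact (U.1 : Set X) := U.2.isCompact
    haveI : CompactSpace (Z : Scheme.{u}) := isCompact_iff_compactSpace.1 (by simpa [Z] using hS.union hUc)
    haveI : QuasiSeparatedSpace (Z : Scheme.{u}) := quasiSeparatedSpace_of_quasiSeparated Z.ι
    haveI : CompactSpace (S : Scheme.{u}) := isCompact_iff_compactSpace.1 hS
    haveI : IsAffine (U.1 : Scheme.{u}) := U.2
    let j : (S : Scheme.{u}) ⟶ (Z : Scheme.{u}) := X.homOfLE le_sup_left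
    let k₀ : (U.1 : Scheme.{u}) ⟶ (Z : Scheme.{u}) := X.homOfLE le_sup_right
    let k : Spec Γ((U.1 : Scheme.{u}), ⊤) ⟶ (Z : Scheme.{u}) := (U.1 : Scheme.{u}).isoSpec.inv ≫ k₀
    refine hasGen_of_cover j k (Set.eq_univ_of_forall fun z => ?_) ih fun T hT hTc => exists_gen_spec T hT hTc
    rcases z.2 with hz | hz
    · exact Or.inl ⟨⟨z.1, hz⟩, Scheme.homOfLE_apply' _ _ _⟩
    · refine Or.inr ⟨(U.1 : Scheme.{u}).isoSpec.hom.base ⟨z.1, hz⟩, ?_⟩
      rw [show k = _ from rfl, ← Scheme.Hom.comp_apply, Iso.hom_inv_id_assoc]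
      exact Scheme.homOfLE_apply' _ _ _

end Groth.Agent.PerfGen
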