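import Groth.Agent.PerfGen.ApproxRing
import Groth.Agent.PerfGen.Glue
import Groth.Agent.DQCoh.PerfCrit
import Groth.Agent.DQPush.PCShift
import Groth.Agent.Devissage.Filt

/-!
Approximation by perfect complexes with supports.
-/

set_option autoImplicit false
set_option backward.isDefEq.respectTransparency false
set_option backward.isDefEq.respectTransparency.types false
set_option linter.style.haveILetI false
set_option linter.unusedSectionVars false

universe u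

open CategoryTheory Limits Pretriangulated AlgebraicGeometry ObjectProperty ZeroObject

attribute [local instance] HasDerivedCategory.standard

namespace Groth.Agent.PerfGen

open Groth.Agent.DQCoh (RD rdComp rdCongr IsAboveD MIsoD mIsoD_iff mIsoD_comp mIsoD_of_isIso mIsoD_map
  isAboveD_of_iso isAboveD_shift isAboveD_mono isAboveD_map mIsoD_comp_iso)

variable {U V X : Scheme.{u}}

/-- `E` is approximated by perfect objects supported on `T` down to degree `m` -/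
def Approx (T : Set X) (m : ℤ) (E : DCoh.D X) : Prop :=
  ∃ (P C : DCoh.D X) (a : P ⟶ E) (g : E ⟶ C) (h : C ⟶ P⟦(1 : ℤ)⟧),
    Triangle.mk a g h ∈ distTriang (DCoh.D X) ∧ PerfT T P ∧ IsAboveD m C

lemma approx_iff (T : Set X) (m : ℤ) (E : DCoh.D X) :
    Approx T m E ↔ ∃ (P : DCoh.D X) (α : P ⟶ E), DCoh.IsPerfect P ∧
      (∀ i : ℤ, CohB1.support (DCoh.HD P i) ⊆ T) ∧
      (∀ i : ℤ, m < i → IsIso ((DerivedCategory.homologyFunctor X.Modules i).map α)) ∧
      Epi ((DerivedCategory.homologyFunctor X.Modules m).map α) := by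
  constructor
  · rintro ⟨P, C, a, g, h, hT, hP, hC⟩
    exact ⟨P, a, hP.1, hP.2, (mIsoD_iff m _ hT).2 hC⟩
  · rintro ⟨P, α, hP, hPT, hα⟩
    obtain ⟨C, g, h, hT⟩ := distinguished_cocone_triangle α
    exact ⟨P, C, α, g, h, hT, ⟨hP, hPT⟩, (mIsoD_iff m _ hT).1 hα⟩

lemma approx_mono {T T' : Set X} (hTT : T ⊆ T') {m : ℤ} {E : DCoh.D X} (hE : Approx T m E) : Approx T' m E := by
  obtain ⟨P, C, a, g, h, hT, hP, hC⟩ := hE
  exact ⟨P, C, a, g, h, hT, ⟨hP.1, suppD_mono hTT hP.2⟩, hC⟩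

lemma perfT_obj₂ {T : Set X} (hT : IsClosed T) (S : Triangle (DCoh.D X)) (hS : S ∈ distTriang (DCoh.D X))
    (h₁ : PerfT T S.obj₁) (h₃ : PerfT T S.obj₃) : PerfT T S.obj₂ :=
  ⟨DQCoh.perfect_obj₂ _ hS h₁.1 h₃.1, (isZero_RD_of_compl hT _).2
    (Triangle.isZero₂_of_isZero₁₃ _ ((RD _).map_distinguished _ hS) ((isZero_RD_of_compl hT _).1 h₁.2)
      ((isZero_RD_of_compl hT _).1 h₃.2))⟩

lemma perfT_shift {T : Set X} (hT : IsClosed T) {P : DCoh.D X} (h : PerfT T P) (n : ℤ) : PerfT T (P⟦n⟧) :=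
  ⟨DQCoh.perfect_shift h.1 n, (isZero_RD_of_compl hT _).2
    (((shiftFunctor _ n).map_isZero ((isZero_RD_of_compl hT _).1 h.2)).of_iso
      (((RD _).commShiftIso n).app P))⟩

lemma approx_step {T : Set X} (hT : IsClosed T) (n : ℤ) {K M M' : DCoh.D X} {a : K ⟶ M} {g : M ⟶ M'}
    {h : M' ⟶ K⟦(1 : ℤ)⟧} (hS : Triangle.mk a g h ∈ distTriang (DCoh.D X)) (hK : PerfT T K)
    (hM' : Approx T n M') : Approx T n M := by
  obtain ⟨P', C, a', g', h', hS', hP', hC⟩ := hM'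
  obtain ⟨P, p, k, hP⟩ := distinguished_cocone_triangle₁ (g ≫ g')
  let oct := Triangulated.someOctahedron' rfl hS hS' hP
  exact ⟨P, C, p, g ≫ g', k, hP, perfT_obj₂ hT _ oct.mem hK hP', hC⟩

/-- supports of cohomology in degrees `≥ n` -/
def SuppFrom (T : Set X) (n : ℤ) (E : DCoh.D X) : Prop :=
  ∀ i : ℤ, n ≤ i → CohB1.support (DCoh.HD E i) ⊆ T

lemma suppFrom_mono {T : Set X} {n n' : ℤ} (h : n ≤ n') {E : DCoh.D X} (hE : SuppFrom T n E) :
    SuppFrom T n' E := fun i hi => hE i (h.trans hi)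

lemma isAboveD_RD_iff (j : U ⟶ X) [IsOpenImmersion j] (n : ℤ) (E : DCoh.D X) :
    IsAboveD n ((RD j).obj E) ↔ SuppFrom (Set.range j.base)ᶜ n E := by
  constructor
  · rintro h i hi x hx ⟨y, rfl⟩
    have hy : y ∈ CohB1.support (DCoh.HD ((RD j).obj E) i) := by rw [support_HD_RD]; exact hx
    exact (mem_support_iff _ y).1 hy ((DerSch.stalkFunctor U y).map_isZero (h i hi))
  · intro h i hi
    refine KFlat.isZero_of_stalks _ fun y => not_not.1 fun hy => ?_
    have hy' : y ∈ CohB1.support (DCoh.HD ((RD j).obj E) i) := (mem_support_iff _ y).2 hy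
    rw [support_HD_RD] at hy'
    exact h i hi hy' ⟨y, rfl⟩

lemma isAboveD_of_cover (j : U ⟶ X) (k : V ⟶ X) [IsOpenImmersion j] [IsOpenImmersion k]
    (hcov : Set.range j.base ∪ Set.range k.base = Set.univ) {n : ℤ} {E : DCoh.D X}
    (hj : IsAboveD n ((RD j).obj E)) (hk : IsAboveD n ((RD k).obj E)) : IsAboveD n E := by
  intro i hi
  refine KFlat.isZero_of_stalks _ fun x => not_not.1 fun hx => ?_
  have hx' : x ∈ CohB1.support (DCoh.HD E i) := (mem_support_iff _ x).2 hx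
  rcases (show x ∈ Set.range j.base ∪ Set.range k.base by rw [hcov]; trivial) with h | h
  · exact (isAboveD_RD_iff j n E).1 hj i hi hx' h
  · exact (isAboveD_RD_iff k n E).1 hk i hi hx' h

/-- a map into an object pushed forward from an open is determined on that open -/
lemma eq_of_RD (l : U ⟶ X) [IsOpenImmersion l] {Z A : DCoh.D X} (B : DCoh.D U)
    (e : A ≅ (DCoh.Rpush l).obj B) {s t : Z ⟶ A} (h : (RD l).map s = (RD l).map t) : s = t := by
  rw [← cancel_mono e.hom]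
  apply ((adjR l).homEquiv _ _).symm.injective
  rw [Adjunction.homEquiv_counit, Adjunction.homEquiv_counit, Functor.map_comp, Functor.map_comp, h]

/-- maps from an object living on an open into an object vanishing on it -/
lemma hom_eq_zero_of_cover (j : U ⟶ X) (o : V ⟶ X) [IsOpenImmersion j] [IsOpenImmersion o]
    (hcov : Set.range j.base ∪ Set.range o.base = Set.univ) {Q C : DCoh.D X}
    (hC : IsZero ((RD j).obj C)) (hQ : IsZero ((RD o).obj Q)) (f : Q ⟶ C) : f = 0 := by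
  haveI := isIso_unit_of_cover j o hcov hC
  exact eq_of_RD o _ (asIso ((adjR o).unit.app C)) (hQ.eq_of_src _ _)

/-- **approximation extends from an open containing the support** -/
theorem approx_of_open (j : U ⟶ X) [IsOpenImmersion j] {T : Set X} (hT : IsClosed T)
    (hTU : T ⊆ Set.range j.base) {m : ℤ} {E : DCoh.D X} (happ : Approx (j.base ⁻¹' T) m ((RD j).obj E))
    (hsupp : SuppFrom T m E) : Approx T m E := by
  obtain ⟨P, C, a, g, h, hS, hP, hC⟩ := happ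
  let o : ((⟨Tᶜ, hT.isOpen_compl⟩ : X.Opens) : Scheme.{u}) ⟶ X := Scheme.Opens.ι _
  have hro : Set.range o.base = Tᶜ := Scheme.Opens.range_ι _
  have hcov : Set.range j.base ∪ Set.range o.base = Set.univ := by
    rw [hro]
    exact Set.eq_univ_of_forall fun x => (em (x ∈ T)).imp (fun h => hTU h) id
  let P' := (DCoh.Rpush j).obj P
  have hP'T : SuppD T P' := suppD_rpush j hT hP.2
  have hP'o : IsZero ((RD o).obj P') := (isZero_RD_of_compl hT _).1 hP'T
  have hP' : PerfT T P' :=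
    ⟨isPerfect_of_cover j o hcov (DQCoh.perfect_of_iso (asIso ((adjR j).counit.app P)).symm hP.1)
      (perfT_zero (T := Set.univ) hP'o).1, hP'T⟩
  obtain ⟨C₀, c₀, δ, hC₀⟩ := distinguished_cocone_triangle₁ ((adjR j).unit.app E)
  have hC₀j : IsZero ((RD j).obj C₀) :=
    (Triangle.isZero₁_iff_isIso₂ _ ((RD j).map_distinguished _ hC₀)).2 (isIso_map_unit_adjR j E)
  obtain ⟨γ, hγ⟩ : ∃ γ : P' ⟶ E, (DCoh.Rpush j).map a = γ ≫ (adjR j).unit.app E :=
    Triangle.coyoneda_exact₃ _ hC₀ _ (hom_eq_zero_of_cover j o hcov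
      (((shiftFunctor _ (1 : ℤ)).map_isZero hC₀j).of_iso (((RD j).commShiftIso (1 : ℤ)).app C₀)) hP'o _)
  have hγj : (RD j).map γ = (adjR j).counit.app P ≫ a := by
    have h1 := congrArg (fun t => (RD j).map t ≫ (adjR j).counit.app ((RD j).obj E)) hγ
    simp only [Functor.map_comp, Category.assoc, Adjunction.left_triangle_components, Category.comp_id] at h1
    rw [← h1]
    exact (adjR j).counit.naturality a
  obtain ⟨C', g', h', hS'⟩ := distinguished_cocone_triangle γ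
  refine ⟨P', C', γ, g', h', hS', hP', isAboveD_of_cover j o hcov ?_ ?_⟩
  · refine (mIsoD_iff m _ ((RD j).map_distinguished _ hS')).1 ?_
    show MIsoD m ((RD j).map γ)
    rw [hγj]
    exact mIsoD_comp (mIsoD_of_isIso m _) ((mIsoD_iff m _ hS).2 hC)
  · haveI : IsIso ((RD o).map g') :=
      (Triangle.isZero₁_iff_isIso₂ _ ((RD o).map_distinguished _ hS')).1 hP'o
    refine isAboveD_of_iso (asIso ((RD o).map g')) ((isAboveD_RD_iff o m E).2 ?_)
    rw [hro, compl_compl]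
    exact hsupp

section Far

variable [CompactSpace X] [QuasiSeparatedSpace X] [CompactSpace U]

lemma exists_extend_far (hgen : HasGen X) (j : U ⟶ X) [IsOpenImmersion j] [QuasiSeparatedSpace U] {T : Set X}
    (hT : IsClosed T) (hTc : IsCompact Tᶜ) {F : DCoh.D U} (hF : PerfT (j.base ⁻¹' T) F) (k : ℕ) :
    ∀ n : ℤ, n = 2 * (k : ℤ) + 1 → ∃ G : DCoh.D X, PerfT T G ∧ Nonempty ((RD j).obj G ≅ F ⊞ F⟦n⟧) := by
  induction k with
  | zero =>
    intro n hn
    subst hn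
    exact exists_extend hgen j hT hTc hF
  | succ k ih =>
    intro n' hn'
    obtain ⟨n, hn⟩ : ∃ n : ℤ, n = 2 * (k : ℤ) + 1 := ⟨_, rfl⟩
    obtain ⟨G₂, hG₂, ⟨e₂⟩⟩ := ih n hn
    obtain ⟨G₁, hG₁, ⟨e₁⟩⟩ := exists_extend hgen j hT hTc (F := F⟦n⟧) (perfT_shift (hT.preimage j.continuous) hF n)
    let A := F ⊞ F⟦n⟧
    let B := F⟦n⟧ ⊞ (F⟦n⟧)⟦(1 : ℤ)⟧
    let φ : B ⟶ A := biprod.fst ≫ biprod.inr
    obtain ⟨G₃, b, c, hG₃, hd⟩ := exists_lift_cone hgen j hT hTc hG₁ hG₂ (e₁.hom ≫ φ ≫ e₂.inv)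
    let C := (RD j).obj G₃
    let v : A ⟶ C := e₂.inv ≫ b
    let w : C ⟶ B⟦(1 : ℤ)⟧ := c ≫ e₁.hom⟦(1 : ℤ)⟧'
    have hT₃ : Triangle.mk φ v w ∈ distTriang (DCoh.D U) := isomorphic_distinguished _ hd _
      (Triangle.isoMk _ _ e₁.symm e₂.symm (Iso.refl _) (by simp) (Category.comp_id _)
        (by simp [w, ← Functor.map_comp]))
    have hφv : φ ≫ v = 0 := comp_distTriang_mor_zero₁₂ _ hT₃
    have hvw : v ≫ w = 0 := comp_distTriang_mor_zero₂₃ _ hT₃
    have hwφ : w ≫ φ⟦(1 : ℤ)⟧' = 0 := comp_distTriang_mor_zero₃₁ _ hT₃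
    have hinr : (biprod.inr : F⟦n⟧ ⟶ A) ≫ v = 0 := by
      have h := congrArg (fun t => (biprod.inl : F⟦n⟧ ⟶ B) ≫ t) hφv
      simpa [φ] using h
    have hwfst : w ≫ (biprod.fst : B ⟶ F⟦n⟧)⟦(1 : ℤ)⟧' = 0 := by
      have h := congrArg (fun t => t ≫ (biprod.snd : A ⟶ F⟦n⟧)⟦(1 : ℤ)⟧') hwφ
      simpa [φ, ← Functor.map_comp] using h
    obtain ⟨p, hp⟩ : ∃ p : C ⟶ F, (biprod.fst : A ⟶ F) = v ≫ p :=
      Triangle.yoneda_exact₂ _ hT₃ _ (show φ ≫ biprod.fst = 0 by simp [φ])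
    obtain ⟨s₀, hs₀⟩ : ∃ s : ((F⟦n⟧)⟦(1 : ℤ)⟧)⟦(1 : ℤ)⟧ ⟶ C,
        (biprod.inr : (F⟦n⟧)⟦(1 : ℤ)⟧ ⟶ B)⟦(1 : ℤ)⟧' = s ≫ w :=
      Triangle.coyoneda_exact₂ _ (rot_of_distTriang _ (rot_of_distTriang _ hT₃)) _ (by
        show (biprod.inr : (F⟦n⟧)⟦(1 : ℤ)⟧ ⟶ B)⟦(1 : ℤ)⟧' ≫ (-(φ⟦(1 : ℤ)⟧')) = 0
        rw [Preadditive.comp_neg, ← Functor.map_comp]
        simp [φ])
    let s := s₀ - (s₀ ≫ p) ≫ biprod.inl ≫ v
    have hsw : s ≫ w = (biprod.inr : (F⟦n⟧)⟦(1 : ℤ)⟧ ⟶ B)⟦(1 : ℤ)⟧' := by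
      simp [s, Preadditive.sub_comp, hs₀, hvw]
    have hsp : s ≫ p = 0 := by simp [s, Preadditive.sub_comp, ← hp]
    let Φ : F ⊞ ((F⟦n⟧)⟦(1 : ℤ)⟧)⟦(1 : ℤ)⟧ ⟶ C := biprod.desc (biprod.inl ≫ v) s
    let Ψ : C ⟶ F ⊞ ((F⟦n⟧)⟦(1 : ℤ)⟧)⟦(1 : ℤ)⟧ :=
      biprod.lift p (w ≫ (biprod.snd : B ⟶ (F⟦n⟧)⟦(1 : ℤ)⟧)⟦(1 : ℤ)⟧')
    have hΦΨ : Φ ≫ Ψ = 𝟙 _ := by
      refine biprod.hom_ext' _ _ ?_ ?_ <;> refine biprod.hom_ext _ _ ?_ ?_ <;>
        simp [Φ, Ψ, hsp, ← hp, reassoc_of% hvw, reassoc_of% hsw, ← Functor.map_comp]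
    let d := 𝟙 C - Ψ ≫ Φ
    have hvd : v ≫ d = 0 := by
      have h1 : (biprod.fst : A ⟶ F) ≫ biprod.inl ≫ v = v := by
        have h2 : ((biprod.fst : A ⟶ F) ≫ biprod.inl + biprod.snd ≫ biprod.inr) ≫ v = v := by
          rw [biprod.total, Category.id_comp]
        simpa [Preadditive.add_comp, hinr] using h2
      simp [d, Ψ, Φ, Preadditive.comp_sub, biprod.lift_desc, Preadditive.comp_add, ← reassoc_of% hp,
        reassoc_of% hvw, h1]
    have hdw : d ≫ w = 0 := by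
      have h1 : w ≫ (biprod.snd : B ⟶ _)⟦(1 : ℤ)⟧' ≫ (biprod.inr : _ ⟶ B)⟦(1 : ℤ)⟧' = w := by
        have h2 : w ≫ ((biprod.fst : B ⟶ F⟦n⟧) ≫ biprod.inl + biprod.snd ≫ biprod.inr)⟦(1 : ℤ)⟧' = w := by
          rw [biprod.total, CategoryTheory.Functor.map_id, Category.comp_id]
        simpa [Functor.map_add, Preadditive.comp_add, reassoc_of% hwfst] using h2
      simp [d, Ψ, Φ, Preadditive.sub_comp, biprod.lift_desc, Preadditive.add_comp, hsw, hvw, h1]
    obtain ⟨η, hη⟩ : ∃ η, d = w ≫ η := Triangle.yoneda_exact₃ _ hT₃ d hvd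
    have hdd : d ≫ d = d := by
      simp [d, Preadditive.sub_comp, Preadditive.comp_sub, reassoc_of% hΦΨ]
    have hd0 : d = 0 := by
      rw [← hdd]
      nth_rewrite 2 [hη]
      rw [← Category.assoc, hdw, zero_comp]
    let eC : C ≅ F ⊞ ((F⟦n⟧)⟦(1 : ℤ)⟧)⟦(1 : ℤ)⟧ := ⟨Ψ, Φ, (sub_eq_zero.1 hd0).symm, hΦΨ⟩
    refine ⟨G₃, hG₃, ⟨eC ≪≫ biprod.mapIso (Iso.refl _) ?_⟩⟩
    exact ((shiftFunctorAdd' (DCoh.D U) (1 : ℤ) 1 2 (by lia)).app (F⟦n⟧)).symm ≪≫
      ((shiftFunctorAdd' (DCoh.D U) n 2 n' (by push_cast at hn'; lia)).app F).symm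

end Far

section Affine

variable {A : Type u} [CommRing A]

/-- **approximation on an affine scheme** -/
theorem approx_spec (l : List A) (m : ℤ) (E : DCoh.D (Spec (CommRingCat.of A))) (hE : DCoh.IsQCohD E)
    (hpc : DCoh.IsPseudoCoherentD m E)
    (hsupp : SuppFrom (X := Spec (CommRingCat.of A)) (PrimeSpectrum.zeroLocus {a | a ∈ l}) (m - l.length + 1) E) :
    Approx (X := Spec (CommRingCat.of A)) (PrimeSpectrum.zeroLocus {a | a ∈ l}) m E := by
  haveI : PreservesFiniteLimits (tilde.functor (CommRingCat.of A)) := QC.tilde_preservesFiniteLimits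
  obtain ⟨-, -, hess⟩ := DQCoh.tildeD_affine (R := CommRingCat.of A)
  obtain ⟨M, ⟨e⟩⟩ := (hess E).1 hE
  have htor : ∀ f ∈ l, ∀ i, m - l.length + 1 ≤ i →
      ∀ x : (DerivedCategory.homologyFunctor (ModuleCat.{u} A) i).obj M, ∃ N : ℕ, f ^ N • x = 0 := by
    intro f hf i hi
    refine (support_tilde_subset_iff (R := CommRingCat.of A) _ f).1 fun x hx => ?_
    have h := hsupp i hi
    rw [← support_eq_of_iso ((DerivedCategory.homologyFunctor _ i).mapIso e),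
      support_eq_of_iso (DQCoh.hdTildeIso (R := CommRingCat.of A) M i)] at h
    exact h hx hf
  obtain ⟨P, C, a, g, h, hT, ⟨hP, hPt⟩, hC⟩ :=
    approxR l m M ((DQCoh.pseudoCoherent_tilde_iff M m).1 (DQCoh.pc_of_iso e.symm hpc)) htor
  let F := DCoh.tildeD (CommRingCat.of A)
  refine (approx_iff _ m E).2 ⟨F.obj P, F.map a ≫ e.hom, (DQCoh.perfect_tilde_iff P).2 hP, fun i x hx f hf =>
    Set.singleton_subset_iff.1 ((suppD_tildeD_iff P f).2 (hPt f hf) i hx), ?_⟩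
  exact mIsoD_comp ((mIsoD_iff m _ (F.map_distinguished _ hT)).2 (isAboveD_map _ hC)) (mIsoD_of_isIso m e.hom)

end Affine

/-- approximation holds on `X` for `T` -/
def HasApprox (T : Set X) : Prop :=
  ∃ r : ℤ, ∀ (m : ℤ) (E : DCoh.D X), DCoh.IsQCohD E → DCoh.IsPseudoCoherentD (m - r) E →
    SuppFrom T (m - r) E → Approx T m E

/-- **the induction step** -/
theorem hasApprox_of_cover {A : Type u} [CommRing A] [CompactSpace U] (j : U ⟶ X) (k : Spec (CommRingCat.of A) ⟶ X)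
    [IsOpenImmersion j] [IsOpenImmersion k] (hcov : Set.range j.base ∪ Set.range k.base = Set.univ)
    (hUV : IsCompact ((interO j k : (Spec (CommRingCat.of A)).Opens) : Set (Spec (CommRingCat.of A))))
    {T : Set X} (hT : IsClosed T) (hcV : IsCompact (k.base ⁻¹' T)ᶜ) (hU : HasApprox (j.base ⁻¹' T)) :
    HasApprox T := by
  classical
  obtain ⟨r₁, hr₁⟩ := hU
  let l := (interO j k).ι
  haveI : CompactSpace (interO j k : Scheme.{u}) := isCompact_iff_compactSpace.1 hUV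
  haveI : QuasiSeparatedSpace (interO j k : Scheme.{u}) := quasiSeparatedSpace_of_quasiSeparated l
  -- the part of `T` outside `U`
  let T' : Set X := T ∩ (Set.range j.base)ᶜ
  have hT' : IsClosed T' := hT.inter j.opensRange.isOpen.isClosed_compl
  have hT'V : T' ⊆ Set.range k.base := fun x hx =>
    ((show x ∈ Set.range j.base ∪ Set.range k.base by rw [hcov]; trivial)).resolve_left hx.2
  have hl : Set.range l.base = k.base ⁻¹' Set.range j.base := Scheme.Opens.range_ι _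
  have hpre : k.base ⁻¹' T' = k.base ⁻¹' T ∩ (Set.range l.base)ᶜ := by rw [hl]; rfl
  have hT'c : IsCompact (k.base ⁻¹' T')ᶜ := hpre ▸ isCompact_compl_inter l hcV
  obtain ⟨t, ht⟩ := PrimeSpectrum.isCompact_isOpen_iff.1 ⟨hT'c, (hT'.preimage k.continuous).isOpen_compl⟩
  have ht' : k.base ⁻¹' T' = PrimeSpectrum.zeroLocus {a | a ∈ t.toList} := by
    rw [show {a | a ∈ t.toList} = (t : Set A) from Set.ext fun a => Finset.mem_toList]
    exact compl_injective ht.symm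
  obtain ⟨R, hR, hR'⟩ : ∃ R : ℤ, r₁ + t.card ≤ R ∧ (t.card : ℤ) ≤ R := ⟨max r₁ 0 + t.card, by omega, by omega⟩
  refine ⟨R, fun m E hE hpc hsupp => ?_⟩
  obtain ⟨m', hm'⟩ : ∃ m' : ℤ, m' = m - t.card := ⟨_, rfl⟩
  obtain ⟨P, C, a, g, h, hS, hP, hC⟩ := hr₁ m' ((RD j).obj E) (isQCohD_RD j hE)
    (DQCoh.pc_mono (by omega) (DQCoh.pc_restrict j hpc)) (fun i hi => by
      rw [support_HD_RD]; exact Set.preimage_mono (hsupp i (by omega)))
  obtain ⟨b, hb⟩ := DQPush.exists_isLE_of_pc (DQCoh.pc_of_perfect hP.1 m')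
  obtain ⟨q, n, hn, hnb⟩ : ∃ (q : ℕ) (n : ℤ), n = 2 * (q : ℤ) + 1 ∧ b - n ≤ m' :=
    ⟨(b - m').toNat, _, rfl, by omega⟩
  have hPT := hT.preimage j.continuous
  have hF : PerfT (l.base ⁻¹' (k.base ⁻¹' T)) ((RD (toU j k)).obj P) := by
    refine ⟨isPerfect_RD _ hP.1, ?_⟩
    have h := suppD_RD (toU j k) hP.2
    rw [← Set.preimage_comp] at h ⊢
    have he : j.base ∘ (toU j k).base = k.base ∘ (interO j k).ι.base := funext fun w => by
      simp only [Function.comp_apply, ← Scheme.Hom.comp_apply, toU_fac]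
    rwa [he] at h
  obtain ⟨GV, hGV, ⟨eV⟩⟩ := exists_extend_far (hasGen _) l (hT.preimage k.continuous) hcV hF q n hn
  haveI := preservesBinaryBiproducts_of_preservesBiproducts (RD (toU j k))
  let θ : (RD (toU j k)).obj (P ⊞ P⟦n⟧) ≅ (RD l).obj GV :=
    (RD (toU j k)).mapBiprod _ _ ≪≫ biprod.mapIso (Iso.refl _) (((RD (toU j k)).commShiftIso n).app P) ≪≫ eV.symm
  obtain ⟨Q, ⟨e₁⟩, ⟨e₂⟩⟩ := exists_glue j k (P ⊞ P⟦n⟧) GV θ
  have hPn : PerfT (j.base ⁻¹' T) (P ⊞ P⟦n⟧) := perfT_biprod hPT hP (perfT_shift hPT hP n)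
  have hQ : PerfT T Q := ⟨isPerfect_of_cover j k hcov (DQCoh.perfect_of_iso e₁.symm hPn.1)
      (DQCoh.perfect_of_iso e₂.symm hGV.1),
    suppD_of_cover j k hcov (suppD_of_iso e₁.symm hPn.2) (suppD_of_iso e₂.symm hGV.2)⟩
  -- the map over `U`
  let α' : (RD j).obj Q ⟶ (RD j).obj E := e₁.hom ≫ biprod.fst ≫ a
  have hα' : MIsoD m' α' := by
    refine mIsoD_comp (mIsoD_of_isIso m' _) (mIsoD_comp ?_ ((mIsoD_iff m' _ hS).2 hC))
    rw [show (biprod.fst : P ⊞ P⟦n⟧ ⟶ P) = (biprod.braiding P (P⟦n⟧)).hom ≫ biprod.snd by simp]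
    refine mIsoD_comp (mIsoD_of_isIso m' _) ((mIsoD_iff m' _
      (rot_of_distTriang _ (binaryBiproductTriangle_distinguished (P⟦n⟧) P))).2 ?_)
    refine isAboveD_mono (show b + 1 - n - 1 ≤ m' by omega)
      (isAboveD_shift (isAboveD_shift (n := b + 1) (fun i hi => ?_) n) 1)
    haveI := hb
    exact DerivedCategory.isZero_of_isLE P b i (by omega)
  -- correct `Q` on `V`
  let sq := rdSquare j k
  let αl : (RD l).obj ((RD k).obj Q) ⟶ (RD l).obj ((RD k).obj E) :=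
    sq.inv.app Q ≫ (RD (toU j k)).map α' ≫ sq.hom.app E
  obtain ⟨Q₁, β, γV, hQ₁, hQ₁T, hβ, hγV⟩ := exists_lift_map (hasGen _) l (hT.preimage k.continuous) hcV
    (isPerfect_RD k hQ.1) (suppD_RD k hQ.2) (isQCohD_RD k hE) αl
  obtain ⟨W, wβ, δβ, hW⟩ := distinguished_cocone_triangle β
  have hWl : IsZero ((RD l).obj W) :=
    (Triangle.isZero₃_iff_isIso₁ _ ((RD l).map_distinguished _ hW)).2 hβ
  let W' := (DCoh.Rpush k).obj W
  have hWj : IsZero ((RD j).obj W') := by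
    refine IsZero.of_iso ((DCoh.Rpush (interO k j).ι).map_isZero ?_) ((bcO k j).app W)
    refine (isZero_RD_iff _ W).2 (suppD_mono ?_ ((isZero_RD_iff l W).1 hWl))
    rintro v hv ⟨w, rfl⟩
    rw [hl] at hv
    exact hv ⟨(interO k j).ι.base w, by rw [← Scheme.Hom.comp_apply, ← toU_fac, Scheme.Hom.comp_apply]⟩
  have hWp : PerfT (k.base ⁻¹' T) W :=
    ⟨DQCoh.perfect_obj₃ _ hW hQ₁ (isPerfect_RD k hQ.1), (isZero_RD_of_compl (hT.preimage k.continuous) _).2
      (Triangle.isZero₃_of_isZero₁₂ _ ((RD _).map_distinguished _ hW)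
        ((isZero_RD_of_compl (hT.preimage k.continuous) _).1 hQ₁T)
        ((isZero_RD_of_compl (hT.preimage k.continuous) _).1 (suppD_RD k hQ.2)))⟩
  have hW' : PerfT T W' := ⟨isPerfect_of_cover j k hcov (perfT_zero (T := Set.univ) hWj).1
      (DQCoh.perfect_of_iso (asIso ((adjR k).counit.app W)).symm hWp.1), suppD_rpush k hT hWp.2⟩
  let θ' : Q ⟶ W' := (adjR k).homEquiv _ _ wβ
  have hθ' : (RD k).map θ' ≫ (adjR k).counit.app W = wβ :=
    (((adjR k).homEquiv_counit ..).symm).trans (((adjR k).homEquiv _ _).symm_apply_apply _)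
  obtain ⟨Q', π, δ', hQ'⟩ := distinguished_cocone_triangle₁ θ'
  haveI hπj : IsIso ((RD j).map π) :=
    (Triangle.isZero₃_iff_isIso₁ _ ((RD j).map_distinguished _ hQ')).1 hWj
  have hQ'T : PerfT T Q' :=
    perfT_obj₂ hT _ (inv_rot_of_distTriang _ hQ') (perfT_shift hT hW' (-1)) hQ
  obtain ⟨i, hi⟩ : ∃ i : (RD k).obj Q' ⟶ Q₁, (RD k).map π = i ≫ β :=
    Triangle.coyoneda_exact₂ _ hW ((RD k).map π) (by
      show (RD k).map π ≫ wβ = 0
      have h0 : π ≫ θ' = 0 := comp_distTriang_mor_zero₁₂ _ hQ'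
      rw [← hθ', ← Category.assoc, ← Functor.map_comp, h0, Functor.map_zero, zero_comp])
  -- the map `Q' ⟶ E`
  let η := (adjR j).unit.app E
  let φ := (adjR j).homEquiv _ _ α'
  obtain ⟨C₀, c₀, δ, hC₀⟩ := distinguished_cocone_triangle₁ η
  have hC₀j : IsZero ((RD j).obj C₀) :=
    (Triangle.isZero₁_iff_isIso₂ _ ((RD j).map_distinguished _ hC₀)).2 (isIso_map_unit_adjR j E)
  have hη1 : (RD j).map η ≫ (adjR j).counit.app ((RD j).obj E) = 𝟙 ((RD j).obj E) :=
    (adjR j).left_triangle_components E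
  have hφj : (RD j).map φ = α' ≫ (RD j).map η := by
    rw [← cancel_mono ((adjR j).counit.app ((RD j).obj E)), Category.assoc, hη1, Category.comp_id]
    exact (((adjR j).homEquiv_counit ..).symm).trans (((adjR j).homEquiv _ _).symm_apply_apply _)
  have key : β ≫ (RD k).map φ = γV ≫ (RD k).map η := by
    refine eq_of_RD l _ ((bcO j k).app ((RD j).obj E)) ?_
    rw [Functor.map_comp, Functor.map_comp, ← hγV, Category.assoc]
    congr 1
    have h1 : sq.inv.app Q ≫ (RD (toU j k)).map ((RD j).map φ) ≫ sq.hom.app _ = (RD l).map ((RD k).map φ) := by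
      rw [show (RD (toU j k)).map ((RD j).map φ) ≫ sq.hom.app _ = sq.hom.app Q ≫ (RD l).map ((RD k).map φ) from
        sq.hom.naturality φ, Iso.inv_hom_id_app_assoc]
    have h2 : (RD (toU j k)).map ((RD j).map η) ≫ sq.hom.app ((DCoh.Rpush j).obj ((RD j).obj E)) =
        sq.hom.app E ≫ (RD l).map ((RD k).map η) := sq.hom.naturality η
    rw [← h1, hφj, Functor.map_comp, Category.assoc, h2]
    simp [αl]
  obtain ⟨γ, hγ⟩ : ∃ γ : Q' ⟶ E, π ≫ φ = γ ≫ η :=
    Triangle.coyoneda_exact₃ _ hC₀ _ (by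
      show (π ≫ φ) ≫ δ = 0
      have hC₁ : IsZero ((RD j).obj (C₀⟦(1 : ℤ)⟧)) :=
        ((shiftFunctor _ (1 : ℤ)).map_isZero hC₀j).of_iso (((RD j).commShiftIso (1 : ℤ)).app C₀)
      haveI := isIso_unit_of_cover j k hcov hC₁
      refine eq_of_RD k _ (asIso ((adjR k).unit.app _)) ?_
      have h0 : η ≫ δ = 0 := comp_distTriang_mor_zero₂₃ _ hC₀
      rw [Functor.map_comp, Functor.map_comp, hi, Category.assoc i, key, Category.assoc, Category.assoc,
        ← Functor.map_comp, h0, Functor.map_zero, comp_zero, comp_zero, Functor.map_zero])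
  have hγj : (RD j).map γ = (RD j).map π ≫ α' := by
    have h1 := congrArg (fun t => (RD j).map t ≫ (adjR j).counit.app ((RD j).obj E)) hγ
    simp only [Functor.map_comp, Category.assoc, hη1, Category.comp_id, hφj] at h1
    exact h1.symm
  obtain ⟨E₁, g₁, h₁, hE₁⟩ := distinguished_cocone_triangle γ
  have hE₁j : IsAboveD m' ((RD j).obj E₁) := by
    refine (mIsoD_iff m' _ ((RD j).map_distinguished _ hE₁)).1 ?_
    show MIsoD m' ((RD j).map γ)
    rw [hγj]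
    exact mIsoD_comp (mIsoD_of_isIso m' _) hα'
  have hE₁T : SuppFrom T' m' E₁ := by
    let o : ((⟨Tᶜ, hT.isOpen_compl⟩ : X.Opens) : Scheme.{u}) ⟶ X := Scheme.Opens.ι _
    haveI : IsIso ((RD o).map g₁) := (Triangle.isZero₁_iff_isIso₂ _ ((RD o).map_distinguished _ hE₁)).1
      ((isZero_RD_of_compl hT _).1 hQ'T.2)
    have ho : IsAboveD m' ((RD o).obj E₁) := isAboveD_of_iso (asIso ((RD o).map g₁))
      ((isAboveD_RD_iff o m' E).2 (by
        rw [Scheme.Opens.range_ι]; show SuppFrom Tᶜᶜ m' E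
        rw [compl_compl]; exact suppFrom_mono (by omega) hsupp))
    intro i hi x hx
    refine ⟨?_, (isAboveD_RD_iff j m' E₁).1 hE₁j i hi hx⟩
    have := (isAboveD_RD_iff o m' E₁).1 ho i hi hx
    rw [Scheme.Opens.range_ι] at this
    simpa using this
  refine approx_step hT m hE₁ hQ'T (approx_mono (T := T') Set.inter_subset_left ?_)
  refine approx_of_open k hT' hT'V ?_ (suppFrom_mono (by omega) hE₁T)
  rw [ht']
  refine approx_spec t.toList m _ ?_ ?_ ?_
  · exact isQCohD_obj₃ _ ((RD k).map_distinguished _ hE₁) (isQCohD_of_isPerfect (isPerfect_RD k hQ'T.1))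
      (isQCohD_RD k hE)
  · exact DQCoh.pc_obj₃ _ ((RD k).map_distinguished _ hE₁) m (DQCoh.pc_of_perfect (isPerfect_RD k hQ'T.1) _)
      (DQCoh.pc_mono (by omega) (DQCoh.pc_restrict k hpc))
  · rw [← ht', Finset.length_toList]
    intro i hi
    rw [support_HD_RD]
    exact Set.preimage_mono (hE₁T i (by omega))

/-- **approximation by perfect complexes** -/
theorem hasApprox (X : Scheme.{u}) [CompactSpace X] [QuasiSeparatedSpace X] (T : Set X) (hT : IsClosed T)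
    (hTc : IsCompact Tᶜ) : HasApprox T := by
  suffices H : ∀ S : X.Opens, IsCompact (S : Set X) → ∀ (T : Set (S : Scheme.{u})), IsClosed T → IsCompact Tᶜ →
      HasApprox T by
    let j := (⊤ : X.Opens).ι
    haveI : CompactSpace ((⊤ : X.Opens) : Scheme.{u}) := isCompact_iff_compactSpace.1 isCompact_univ
    obtain ⟨r, hr⟩ := H ⊤ isCompact_univ (j.base ⁻¹' T) (hT.preimage j.continuous)
      (j.isCompact_preimage (U := ⟨Tᶜ, hT.isOpen_compl⟩) hTc)
    refine ⟨max r 0, fun m E hE hpc hsupp => ?_⟩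
    refine approx_of_open j hT (fun x _ => ?_) (hr m _ (isQCohD_RD j hE)
      (DQCoh.pc_mono (by omega) (DQCoh.pc_restrict j hpc)) fun i hi => ?_) (suppFrom_mono (by omega) hsupp)
    · rw [Scheme.Opens.range_ι]; trivial
    · rw [support_HD_RD]; exact Set.preimage_mono (hsupp i (by omega))
  intro S hS
  refine compact_open_induction_on S hS ?_ ?_
  · intro T hT _
    refine ⟨0, fun m E _ _ _ => ⟨0, E, 0, 𝟙 E, 0, contractible_distinguished₁ E, perfT_zero (isZero_zero _),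
      fun i _ => ?_⟩⟩
    exact Devissage.isZero_of_support (Set.eq_empty_of_forall_notMem fun x _ => x.2.elim)
  · intro S hS W ih T hT hTc
    let Z : X.Opens := S ⊔ W.1
    have hWc : IsCompact (W.1 : Set X) := W.2.isCompact
    haveI : CompactSpace (Z : Scheme.{u}) := isCompact_iff_compactSpace.1 (by simpa [Z] using hS.union hWc)
    haveI : QuasiSeparatedSpace (Z : Scheme.{u}) := quasiSeparatedSpace_of_quasiSeparated Z.ι
    haveI : CompactSpace (S : Scheme.{u}) := isCompact_iff_compactSpace.1 hS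
    haveI : IsAffine (W.1 : Scheme.{u}) := W.2
    let j : (S : Scheme.{u}) ⟶ (Z : Scheme.{u}) := X.homOfLE le_sup_left
    let k₀ : (W.1 : Scheme.{u}) ⟶ (Z : Scheme.{u}) := X.homOfLE le_sup_right
    let k : Spec Γ((W.1 : Scheme.{u}), ⊤) ⟶ (Z : Scheme.{u}) := (W.1 : Scheme.{u}).isoSpec.inv ≫ k₀
    haveI : QuasiCompact j := quasiCompact_of_compactSpace j
    haveI : QuasiCompact k := quasiCompact_of_compactSpace k
    refine hasApprox_of_cover j k (Set.eq_univ_of_forall fun z => ?_) ?_ hT ?_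
      (ih _ (hT.preimage j.continuous) (j.isCompact_preimage (U := ⟨Tᶜ, hT.isOpen_compl⟩) hTc))
    · rcases z.2 with hz | hz
      · exact Or.inl ⟨⟨z.1, hz⟩, Scheme.homOfLE_apply' _ _ _⟩
      · refine Or.inr ⟨(W.1 : Scheme.{u}).isoSpec.hom.base ⟨z.1, hz⟩, ?_⟩
        show ((W.1 : Scheme.{u}).isoSpec.hom ≫ k).base ⟨z.1, hz⟩ = z
        rw [show (W.1 : Scheme.{u}).isoSpec.hom ≫ k = k₀ from Iso.hom_inv_id_assoc _ _]
        exact Scheme.homOfLE_apply' _ _ _
    · exact k.isCompact_preimage (U := j.opensRange) (isCompact_range j.continuous)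
    · exact k.isCompact_preimage (U := ⟨Tᶜ, hT.isOpen_compl⟩) hTc

end Groth.Agent.PerfGen
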