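import Groth.Agent.PerfGen.Affine
import Groth.Agent.DRingKP.Finite
import Mathlib.CategoryTheory.Triangulated.Triangulated

/-!
Approximation by perfect objects with torsion cohomology, in `D(A)`.
-/

set_option autoImplicit false
set_option backward.isDefEq.respectTransparency false
set_option backward.isDefEq.respectTransparency.types false
set_option linter.style.haveILetI false
set_option linter.unusedSectionVars false

universe u

open CategoryTheory Limits Pretriangulated ZeroObject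

attribute [local instance] HasDerivedCategory.standard

namespace Groth.Agent.PerfGen

open Groth.Agent.DRingKP (IsAbove ev0)

variable {A : Type u} [CommRing A]

local notation "HH" => DerivedCategory.homologyFunctor (ModuleCat _)

/-- `f`-power torsion cohomology in degrees `[a, b]` -/
def TorsIn (f : A) (a b : ℤ) (M : Dual.D A) : Prop :=
  ∀ i : ℤ, a ≤ i → i ≤ b → ∀ x : (HH i).obj M, ∃ N : ℕ, f ^ N • x = 0

lemma TorsIn.mono {f : A} {a b a' b' : ℤ} {M : Dual.D A} (h : TorsIn f a b M) (ha : a ≤ a') (hb : b' ≤ b) :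
    TorsIn f a' b' M := fun i h1 h2 => h i (ha.trans h1) (h2.trans hb)

lemma TorsIn.shift {f : A} {a b a' b' : ℤ} {M : Dual.D A} {n : ℤ} (h : TorsIn f a b M)
    (ha : a ≤ n + a') (hb : n + b' ≤ b) : TorsIn f a' b' (M⟦n⟧) := fun i h1 h2 x => by
  let e := ((HH 0).shiftIso n i (n + i) rfl).app M
  obtain ⟨N, hN⟩ := h (n + i) (by omega) (by omega) (e.hom.hom x)
  refine ⟨N, e.toLinearEquiv.injective ?_⟩
  change e.hom.hom (f ^ N • x) = e.hom.hom 0
  rw [map_smul, hN, map_zero]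

/-- windowed torsion of maps out of a Koszul object -/
theorem exists_pow_smul_hom (f : A) (l : List A) : ∀ (M : Dual.D A), TorsIn f (-(l.length : ℤ)) 0 M →
    ∀ α : kD l ⟶ M, ∃ N : ℕ, f ^ N • α = 0 := by
  induction l with
  | nil =>
    intro M h α
    obtain ⟨N, hN⟩ := h 0 (by simp) le_rfl ((ev0 (kNil.inv ≫ α)).hom (1 : A))
    refine ⟨N, ?_⟩
    rw [← cancel_epi kNil.inv, comp_zero, Linear.comp_smul]
    exact (smul_eq_zero_iff_ev0 _ _).2 hN
  | cons g l ih =>
    intro M h α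
    obtain ⟨b, c, hT⟩ := exists_kTri g l
    have hlen : ((g :: l).length : ℤ) = l.length + 1 := by simp
    obtain ⟨N, hN⟩ := ih M (h.mono (by omega) le_rfl) (b ≫ α)
    obtain ⟨γ, hγ⟩ := Triangle.yoneda_exact₃ _ hT (f ^ N • α) (by
      show b ≫ (f ^ N • α) = 0
      rw [Linear.comp_smul, hN])
    change (kD l)⟦(1 : ℤ)⟧ ⟶ M at γ
    let e := shiftFunctorCompIsoId (Dual.D A) (1 : ℤ) (-1) (by lia)
    obtain ⟨L, hL⟩ := ih (M⟦(-1 : ℤ)⟧) (h.shift (by omega) (by omega)) (e.inv.app (kD l) ≫ γ⟦(-1 : ℤ)⟧')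
    have hγ0 : f ^ L • γ = 0 := by
      apply (shiftFunctor (Dual.D A) (-1 : ℤ)).map_injective
      rw [Functor.map_smul, Functor.map_zero, ← cancel_epi (e.inv.app (kD l)), comp_zero, Linear.comp_smul]
      exact hL
    refine ⟨L + N, ?_⟩
    rw [pow_add, mul_smul, hγ, ← Linear.comp_smul, hγ0, comp_zero]

/-- `A ⟶ kD l` -/
noncomputable def kι : (l : List A) → (oneD A ⟶ kD l)
  | [] => kNil.inv
  | f :: l => kι l ≫ (exists_kTri f l).choose

/-- the Koszul objects of higher powers map to those of lower powers -/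
lemma exists_kmap (l : List A) : ∀ a e : ℕ, a ≤ e →
    ∃ g : kD (l.map (· ^ e)) ⟶ kD (l.map (· ^ a)), kι (l.map (· ^ e)) ≫ g = kι (l.map (· ^ a)) := by
  induction l with
  | nil => exact fun a e _ => ⟨𝟙 _, Category.comp_id _⟩
  | cons f l ih =>
    intro a e hae
    obtain ⟨d, rfl⟩ := Nat.exists_eq_add_of_le hae
    let L := l.map (· ^ (a + d))
    let L' := l.map (· ^ a)
    obtain ⟨g₀, hg₀⟩ : ∃ g₀ : kD L ⟶ kD L', kι L ≫ g₀ = kι L' := ih a (a + d) hae
    obtain ⟨c, hc⟩ := (exists_kTri (f ^ (a + d)) L).choose_spec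
    obtain ⟨c', hc'⟩ := (exists_kTri (f ^ a) L').choose_spec
    obtain ⟨g, hg, -⟩ := complete_distinguished_triangle_morphism _ _ hc hc' (f ^ d • g₀) g₀ (by
      show (f ^ (a + d) • 𝟙 (kD L)) ≫ g₀ = (f ^ d • g₀) ≫ (f ^ a • 𝟙 (kD L'))
      rw [Linear.smul_comp, Category.id_comp, Linear.comp_smul, Category.comp_id, smul_smul, ← pow_add])
    refine ⟨g, ?_⟩
    change (exists_kTri (f ^ (a + d)) L).choose ≫ g = g₀ ≫ (exists_kTri (f ^ a) L').choose at hg
    show (kι L ≫ (exists_kTri (f ^ (a + d)) L).choose) ≫ g = kι L' ≫ (exists_kTri (f ^ a) L').choose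
    rw [Category.assoc, hg, reassoc_of% hg₀]

/-- **factorisation through Koszul objects of powers** -/
theorem exists_factor_kD (l : List A) : ∀ (M : Dual.D A),
    (∀ f ∈ l, TorsIn f (-(l.length : ℤ) + 1) 0 M) → ∀ α : oneD A ⟶ M,
      ∃ (e : ℕ) (ψ : kD (l.map (· ^ e)) ⟶ M), kι (l.map (· ^ e)) ≫ ψ = α := by
  induction l with
  | nil => exact fun M _ α => ⟨0, kNil.hom ≫ α, kNil.inv_hom_id_assoc α⟩
  | cons f l ih =>
    intro M h α
    have hlen : ((f :: l).length : ℤ) = l.length + 1 := by simp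
    obtain ⟨e₀, ψ₀, hψ₀⟩ := ih M (fun g hg => (h g (List.mem_cons_of_mem _ hg)).mono (by omega) le_rfl) α
    have htor : TorsIn f (-((l.map (· ^ e₀)).length : ℤ)) 0 M :=
      (h f (List.mem_cons_self ..)).mono (by rw [List.length_map]; omega) le_rfl
    obtain ⟨N, hN⟩ := exists_pow_smul_hom f _ M htor ψ₀
    let L := l.map (· ^ (e₀ + N))
    obtain ⟨g, hg⟩ : ∃ g : kD L ⟶ kD (l.map (· ^ e₀)), kι L ≫ g = kι (l.map (· ^ e₀)) :=
      exists_kmap l e₀ (e₀ + N) (Nat.le_add_right _ _)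
    obtain ⟨c, hc⟩ := (exists_kTri (f ^ (e₀ + N)) L).choose_spec
    obtain ⟨ψ, hψ⟩ := Triangle.yoneda_exact₂ _ hc (g ≫ ψ₀) (by
      show (f ^ (e₀ + N) • 𝟙 (kD L)) ≫ g ≫ ψ₀ = 0
      rw [Linear.smul_comp, Category.id_comp, pow_add, mul_smul, ← Linear.comp_smul, hN, comp_zero, smul_zero])
    refine ⟨e₀ + N, ψ, ?_⟩
    show (kι L ≫ (exists_kTri (f ^ (e₀ + N)) L).choose) ≫ ψ = α
    change g ≫ ψ₀ = (exists_kTri (f ^ (e₀ + N)) L).choose ≫ ψ at hψ
    rw [Category.assoc, ← hψ, reassoc_of% hg, hψ₀]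

lemma isAbove_kD (l : List A) : IsAbove 1 (kD l) := by
  induction l with
  | nil =>
    refine DRingKP.isAbove_of_iso kNil.symm fun i hi => ?_
    haveI : ((DerivedCategory.singleFunctor (ModuleCat.{u} A) 0).obj (ModuleCat.of A A)).IsLE 0 := inferInstance
    exact DerivedCategory.isZero_of_isLE (oneD A) 0 i (by omega)
  | cons f l ih =>
    obtain ⟨b, c, hT⟩ := exists_kTri f l
    intro i hi
    exact (DerivedCategory.HomologySequence.exact₃ _ hT i (i + 1) rfl).isZero_of_both_zeros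
      ((ih i hi).eq_of_src _ _) ((ih (i + 1) (by omega)).eq_of_tgt _ _)

lemma pc_oneD (m : ℤ) : DRing.IsPseudoCoherent A m (oneD A) := by
  refine DRingKP.pc_iff.2 ⟨(HomologicalComplex.single _ (ComplexShape.up ℤ) 0).obj (ModuleCat.of A A), 0, 0,
    ((DerivedCategory.singleFunctorIsoCompQ (ModuleCat.{u} A) 0).app (ModuleCat.of A A)).inv,
    fun i hi => HomologicalComplex.isZero_single_obj_X (ComplexShape.up ℤ) 0 _ i (by omega), fun i => ?_,
    DRingKP.mIso_of_isIso m _⟩
  by_cases hi : i = 0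
  · subst hi
    let e := (HomologicalComplex.singleObjXSelf (ComplexShape.up ℤ) 0 (ModuleCat.of A A)).toLinearEquiv
    exact ⟨Module.Finite.equiv e.symm, Module.Free.of_equiv e.symm⟩
  · exact DRingKP.finiteFree_of_isZero (HomologicalComplex.isZero_single_obj_X (ComplexShape.up ℤ) 0 _ i hi)

lemma pc_kD (l : List A) : ∀ m : ℤ, DRing.IsPseudoCoherent A m (kD l) := by
  induction l with
  | nil => exact fun m => DRingKP.pc_of_iso kNil.symm (pc_oneD m)
  | cons f l ih =>
    intro m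
    obtain ⟨b, c, hT⟩ := exists_kTri f l
    exact DRingKP.pc_obj₃ _ hT m (ih _) (ih _)

lemma isTors_kD_pow (l : List A) (e : ℕ) {f : A} (hf : f ∈ l) : IsTors f (kD (l.map (· ^ e))) := by
  obtain ⟨N, hN⟩ := exists_pow_smul_kD (l.map (· ^ e)) (f ^ e) (List.mem_map_of_mem hf)
  rw [← pow_mul] at hN
  exact isTors_of_smul_id hN

lemma isTors_ext₂ (f : A) (T : Triangle (Dual.D A)) (hT : T ∈ distTriang (Dual.D A))
    (h₁ : IsTors f T.obj₁) (h₃ : IsTors f T.obj₃) : IsTors f T.obj₂ := fun i x => by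
  obtain ⟨N, hN⟩ := h₃ i (((HH i).map T.mor₂).hom x)
  rw [← map_smul] at hN
  obtain ⟨y, hy⟩ := (ShortComplex.moduleCat_exact_iff _).1
    (DerivedCategory.HomologySequence.exact₂ T hT i) (f ^ N • x) hN
  obtain ⟨L, hL⟩ := h₁ i y
  exact ⟨L + N, by rw [pow_add, mul_smul, ← hy, ← map_smul, hL, map_zero]⟩

lemma torsIn_ext₃ (f : A) (T : Triangle (Dual.D A)) (hT : T ∈ distTriang (Dual.D A)) (a b : ℤ)
    (h₁ : IsTors f T.obj₁) (h₂ : TorsIn f a b T.obj₂) : TorsIn f a b T.obj₃ := fun i hi hi' x => by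
  obtain ⟨N, hN⟩ := h₁ (i + 1) ((DerivedCategory.HomologySequence.δ T i (i + 1) rfl).hom x)
  rw [← map_smul] at hN
  obtain ⟨y, hy⟩ := (ShortComplex.moduleCat_exact_iff _).1
    (DerivedCategory.HomologySequence.exact₃ T hT i (i + 1) rfl) (f ^ N • x) hN
  obtain ⟨L, hL⟩ := h₂ i hi hi' y
  exact ⟨L + N, by rw [pow_add, mul_smul, ← hy, ← map_smul, hL, map_zero]⟩

lemma isTors_of_isZero (f : A) {M : Dual.D A} (h : IsZero M) : IsTors f M := fun i x => by
  haveI := ModuleCat.subsingleton_of_isZero ((HH i).map_isZero h)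
  exact ⟨0, Subsingleton.elim _ _⟩

/-- perfect with torsion cohomology -/
def PerfTors (l : List A) (P : Dual.D A) : Prop := DRing.IsPerfect A P ∧ ∀ f ∈ l, IsTors f P

/-- `M` is approximated down to degree `n` -/
def ApproxR (l : List A) (n : ℤ) (M : Dual.D A) : Prop :=
  ∃ (P C : Dual.D A) (a : P ⟶ M) (g : M ⟶ C) (h : C ⟶ P⟦(1 : ℤ)⟧),
    Triangle.mk a g h ∈ distTriang (Dual.D A) ∧ PerfTors l P ∧ IsAbove n C

lemma approxR_of_above (l : List A) {n : ℤ} {M : Dual.D A} (h : IsAbove n M) : ApproxR l n M :=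
  ⟨0, M, 0, 𝟙 M, 0, contractible_distinguished₁ M,
    ⟨PerfLocal.isPerfect_of_isZero (isZero_zero _), fun f _ => isTors_of_isZero f (isZero_zero _)⟩, h⟩

lemma approxR_step (l : List A) (n : ℤ) {K M M' : Dual.D A} {a : K ⟶ M} {g : M ⟶ M'} {h : M' ⟶ K⟦(1 : ℤ)⟧}
    (hT : Triangle.mk a g h ∈ distTriang (Dual.D A)) (hK : PerfTors l K) (hM' : ApproxR l n M') :
    ApproxR l n M := by
  obtain ⟨P', C, a', g', h', hT', hP', hC⟩ := hM'
  obtain ⟨P, p, k, hP⟩ := distinguished_cocone_triangle₁ (g ≫ g')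
  let oct := Triangulated.someOctahedron' rfl hT hT' hP
  exact ⟨P, C, p, g ≫ g', k, hP,
    ⟨PerfLocal.isPerfect_obj₂ _ oct.mem hK.1 hP'.1, fun f hf => isTors_ext₂ f _ oct.mem (hK.2 f hf) (hP'.2 f hf)⟩, hC⟩

/-- killing one top cohomology class -/
theorem exists_kill (l : List A) (M : Dual.D A) (b : ℤ) (htop : IsAbove (b + 1) M)
    (htor : ∀ f ∈ l, TorsIn f (b - l.length + 1) b M) (x : (HH b).obj M) :
    ∃ (K M' : Dual.D A) (a : K ⟶ M) (g : M ⟶ M') (h : M' ⟶ K⟦(1 : ℤ)⟧),
      Triangle.mk a g h ∈ distTriang (Dual.D A) ∧ PerfTors l K ∧ (∀ m, DRing.IsPseudoCoherent A m K) ∧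
      IsAbove (b + 1) M' ∧ Function.Surjective ((HH b).map g).hom ∧ ((HH b).map g).hom x = 0 := by
  obtain ⟨α, hα⟩ := exists_ev0 (M⟦b⟧) ((hShift M b).inv.hom x)
  obtain ⟨e, ψ, hψ⟩ := exists_factor_kD l (M⟦b⟧)
    (fun f hf => (htor f hf).shift (by omega) (by omega)) α
  let K := (kD (l.map (· ^ e)))⟦-b⟧
  let i := shiftFunctorCompIsoId (Dual.D A) b (-b) (by lia)
  let a : K ⟶ M := ψ⟦-b⟧' ≫ i.hom.app M
  obtain ⟨M', g, h, hT⟩ := distinguished_cocone_triangle a
  have hKtop : IsAbove (b + 1) K :=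
    DRingKP.isAbove_mono (by omega) (DRingKP.isAbove_shift (isAbove_kD _) (-b))
  have hag : a ≫ g = 0 := comp_distTriang_mor_zero₁₂ _ hT
  have hψg : ψ ≫ g⟦b⟧' = 0 := by
    apply (shiftFunctor (Dual.D A) (-b)).map_injective
    rw [Functor.map_comp, Functor.map_zero, ← cancel_mono (i.hom.app M'), zero_comp, Category.assoc]
    have hn : (g⟦b⟧')⟦-b⟧' ≫ i.hom.app M' = i.hom.app M ≫ g := i.hom.naturality g
    rw [hn]
    simpa [a] using hag
  refine ⟨K, M', a, g, h, hT, ⟨PerfLocal.isPerfect_shift (isPerfect_kD _) _,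
    fun f hf => (isTors_kD_pow l e hf).shift _⟩, fun m => ?_, fun j hj => ?_, ?_, ?_⟩
  · have := DRingKP.pc_shift (pc_kD (l.map (· ^ e)) (m + -b)) (-b)
    rwa [show m + -b - -b = m by omega] at this
  · exact (DerivedCategory.HomologySequence.exact₃ _ hT j (j + 1) rfl).isZero_of_both_zeros
      ((htop j hj).eq_of_src _ _) ((hKtop (j + 1) (by omega)).eq_of_tgt _ _)
  · exact (ModuleCat.epi_iff_surjective _).1
      ((DerivedCategory.HomologySequence.exact₃ _ hT b (b + 1) rfl).epi_f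
        ((hKtop (b + 1) le_rfl).eq_of_tgt _ _))
  · have h0 : ev0 (α ≫ g⟦b⟧') = 0 := by
      rw [← hψ, Category.assoc, hψg, comp_zero, ev0_zero]
    rw [DRingKP.ev0_comp] at h0
    have h1 := congrArg (fun φ : ModuleCat.of A A ⟶ _ => φ.hom (1 : A)) h0
    simp only [ModuleCat.hom_comp, LinearMap.comp_apply, hα] at h1
    apply (hShift M' b).symm.toLinearEquiv.injective
    change (hShift M' b).inv.hom _ = (hShift M' b).inv.hom 0
    rw [map_zero]
    have hnat := congrArg (fun φ : (HH b).obj M ⟶ _ => φ.hom x)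
      (((HH 0).shiftIso b 0 b (by lia)).inv.naturality g)
    simp only [ModuleCat.hom_comp, LinearMap.comp_apply] at hnat
    exact hnat.trans (h1.trans rfl)

/-- **approximation in `D(A)`** -/
theorem approxR_of_tors (l : List A) (n : ℤ) : ∀ (k : ℕ) (M : Dual.D A), IsAbove (n + k) M →
    DRing.IsPseudoCoherent A n M → (∀ f ∈ l, ∀ i, n - l.length + 1 ≤ i → ∀ x : (HH i).obj M, ∃ N : ℕ, f ^ N • x = 0) →
      ApproxR l n M := by
  intro k
  induction k with
  | zero => exact fun M h _ _ => approxR_of_above l (by simpa using h)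
  | succ k ih =>
    -- induction on the number of generators of the top cohomology
    suffices H : ∀ (c : ℕ) (M : Dual.D A), IsAbove (n + k + 1) M → DRing.IsPseudoCoherent A n M →
        (∀ f ∈ l, ∀ i, n - l.length + 1 ≤ i → ∀ x : (HH i).obj M, ∃ N : ℕ, f ^ N • x = 0) →
        ∀ xs : Fin c → (HH (n + k)).obj M, Submodule.span A (Set.range xs) = ⊤ → ApproxR l n M by
      intro M h hpc htor
      have h' : IsAbove (n + k + 1) M := fun i hi => h i (by push_cast; omega)
      haveI : Module.Finite A ((HH (n + k)).obj M) :=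
        DRingKP.finite_top (DRingKP.pc_mono (by omega) hpc) h'
      obtain ⟨c, xs, hxs⟩ := Module.Finite.exists_fin (R := A) (M := (HH (n + k)).obj M)
      exact H c M h' hpc htor xs hxs
    intro c
    induction c with
    | zero =>
      intro M h hpc htor xs hxs
      refine ih M (fun i hi => ?_) hpc htor
      rcases eq_or_lt_of_le hi with rfl | hi'
      · rw [Set.range_eq_empty, Submodule.span_empty] at hxs
        haveI : Subsingleton ((HH (n + k)).obj M) :=
          subsingleton_of_forall_eq 0 fun x => (Submodule.mem_bot A).1 (hxs ▸ Submodule.mem_top)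
        exact ModuleCat.isZero_of_subsingleton _
      · exact h i (by omega)
    | succ c ihc =>
      intro M h hpc htor xs hxs
      obtain ⟨K, M', a, g, δ, hT, hK, hKpc, htop, hsurj, hx⟩ := exists_kill l M (n + k) h
        (fun f hf i hi _ => htor f hf i (by omega)) (xs 0)
      refine approxR_step l n hT hK (ihc M' htop (DRingKP.pc_obj₃ _ hT n (hKpc _) hpc) (fun f hf i hi x => ?_)
        (fun j => ((HH (n + k)).map g).hom (xs j.succ)) ?_)
      · exact torsIn_ext₃ f _ hT i i (hK.2 f hf) (fun j hj hj' => htor f hf j (by omega)) i le_rfl le_rfl x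
      · rw [eq_top_iff]
        intro y _
        obtain ⟨x, rfl⟩ := hsurj y
        have hx' : x ∈ Submodule.span A (Set.range xs) := hxs ▸ Submodule.mem_top
        have := Submodule.mem_map_of_mem (f := ((HH (n + k)).map g).hom) hx'
        rw [Submodule.map_span, ← Set.range_comp] at this
        refine Submodule.span_le.2 ?_ this
        rintro _ ⟨j, rfl⟩
        refine Fin.cases ?_ (fun j => Submodule.subset_span ⟨j, rfl⟩) j
        show ((HH (n + k)).map g).hom (xs 0) ∈ _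
        rw [hx]
        exact zero_mem _

theorem approxR (l : List A) (n : ℤ) (M : Dual.D A) (hpc : DRing.IsPseudoCoherent A n M)
    (htor : ∀ f ∈ l, ∀ i, n - l.length + 1 ≤ i → ∀ x : (HH i).obj M, ∃ N : ℕ, f ^ N • x = 0) :
    ApproxR l n M := by
  obtain ⟨b, hb⟩ := DRingKP.pc_bounded hpc
  exact approxR_of_tors l n (b - n).toNat M (DRingKP.isAbove_mono (by omega) hb) hpc htor

end Groth.Agent.PerfGen
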