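import Groth.Prelude.Def_PerfAux
import Groth.Agent.CohDerTri.Compact

/-!
Maps into direct sums which factor through finitely many summands.
-/

set_option autoImplicit false
set_option linter.unusedSectionVars false
universe w v u

namespace Groth.Agent.PerfGen

open CategoryTheory Limits Pretriangulated

variable {D : Type u} [Category.{v} D] [Preadditive D]

/-- every map from `K` into the coproduct of `X` is a finite sum of maps into the summands -/
def FinFac (K : D) {ι : Type w} (X : ι → D) [HasCoproduct X] : Prop :=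
  ∀ φ : K ⟶ ∐ X, ∃ (s : Finset ι) (p : ∀ i, K ⟶ X i), φ = ∑ i ∈ s, p i ≫ Sigma.ι X i

lemma homSum_of (K : D) {ι : Type w} [DecidableEq ι] (X : ι → D) [HasCoproduct X] (i : ι) (f : K ⟶ X i) :
    PerfAux.homSumToHomCoprod K X (DirectSum.of (fun i => K ⟶ X i) i f) = f ≫ Sigma.ι X i := by
  classical
  simp only [PerfAux.homSumToHomCoprod]
  convert DirectSum.toAddMonoid_of (fun i => Preadditive.rightComp K (Sigma.ι X i)) i f
  rfl

lemma bijective_homSum_iff (K : D) {ι : Type w} (X : ι → D) [HasCoproduct X] :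
    Function.Bijective (PerfAux.homSumToHomCoprod K X) ↔ FinFac K X := by
  classical
  constructor
  · intro h φ
    obtain ⟨x, rfl⟩ := h.2 φ
    refine ⟨DFinsupp.support x, fun i => x i, ?_⟩
    conv_lhs => rw [← DirectSum.sum_support_of x]
    rw [map_sum]
    exact Finset.sum_congr rfl fun i _ => homSum_of K X i (x i)
  · intro h
    refine ⟨fun a b hab => DFinsupp.ext fun t => ?_, fun φ => ?_⟩
    · let π : (∐ X) ⟶ X t := Sigma.desc fun t' => if h : t' = t then eqToHom (by rw [h]) else 0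
      have key : ∀ a, PerfAux.homSumToHomCoprod K X a ≫ π = a t := by
        intro a
        induction a using DirectSum.induction_on with
        | zero => rw [map_zero, zero_comp]; rfl
        | of t' φ =>
          rw [homSum_of, Category.assoc, Sigma.ι_desc]
          by_cases h : t' = t
          · subst h; simp
          · simp [dif_neg h, DirectSum.of_eq_of_ne _ _ _ (Ne.symm h)]
        | add a b ha hb => rw [map_add, Preadditive.add_comp, ha, hb]; rfl
      rw [← key a, ← key b, hab]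
    · obtain ⟨s, p, rfl⟩ := h φ
      refine ⟨∑ i ∈ s, DirectSum.of (fun i => K ⟶ X i) i (p i), ?_⟩
      rw [map_sum]
      exact Finset.sum_congr rfl fun i _ => homSum_of K X i (p i)

lemma FinFac.of_iso_left {K K' : D} (e : K ≅ K') {ι : Type w} {X : ι → D} [HasCoproduct X] (h : FinFac K X) :
    FinFac K' X := fun φ => by
  obtain ⟨s, p, hp⟩ := h (e.hom ≫ φ)
  refine ⟨s, fun i => e.inv ≫ p i, ?_⟩
  rw [← e.inv_hom_id_assoc φ, hp, Preadditive.comp_sum]
  simp

lemma FinFac.of_iso_right {K : D} {ι : Type w} {X Y : ι → D} [HasCoproduct X] [HasCoproduct Y]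
    (e : ∀ i, X i ≅ Y i) (h : FinFac K X) : FinFac K Y := fun φ => by
  obtain ⟨s, p, hp⟩ := h (φ ≫ Limits.Sigma.map fun i => (e i).inv)
  refine ⟨s, fun i => p i ≫ (e i).hom, ?_⟩
  have h2 : (Limits.Sigma.map fun i => (e i).inv) ≫ (Limits.Sigma.map fun i => (e i).hom) = 𝟙 (∐ Y) :=
    Sigma.hom_ext _ _ fun i => by simp
  rw [← Category.comp_id φ, ← h2, ← Category.assoc, hp, Preadditive.sum_comp]
  simp

variable [HasZeroObject D] [HasShift D ℤ] [∀ n : ℤ, (shiftFunctor D n).Additive] [Pretriangulated D]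

/-- a map into a sum of middle terms killed in the sum of third terms comes from the sum of first terms -/
lemma exists_lift_sum {ι : Type w} {X Y Z : ι → D} [HasCoproduct X] [HasCoproduct Y] [HasCoproduct Z]
    (a : ∀ i, X i ⟶ Y i) (b : ∀ i, Y i ⟶ Z i) (c : ∀ i, Z i ⟶ (X i)⟦(1 : ℤ)⟧)
    (hT : ∀ i, Triangle.mk (a i) (b i) (c i) ∈ distTriang D) {K : D} (φ : K ⟶ ∐ Y)
    (h : φ ≫ Limits.Sigma.map b = 0) : ∃ ψ : K ⟶ ∐ X, φ = ψ ≫ Limits.Sigma.map a := by
  obtain ⟨W, g, k, hW⟩ := distinguished_cocone_triangle (Limits.Sigma.map a)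
  have hm : ∀ i, ∃ m : Z i ⟶ W, b i ≫ m = Sigma.ι Y i ≫ g := fun i => by
    obtain ⟨m, hm, -⟩ := complete_distinguished_triangle_morphism _ _ (hT i) hW (Sigma.ι X i) (Sigma.ι Y i)
      (Sigma.ι_map a i).symm
    exact ⟨m, hm⟩
  choose m hm using hm
  have hg : Limits.Sigma.map b ≫ Sigma.desc m = g := Sigma.hom_ext _ _ fun i => by simp [hm]
  exact Triangle.coyoneda_exact₂ _ hW φ
    (show φ ≫ g = 0 by rw [← hg, ← Category.assoc, h, zero_comp])

/-- extensions: if `K` factors finitely into the sums of `X` and of `Z`, then into the sum of `Y` -/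
lemma FinFac.ext₂ {K : D} {ι : Type w} {X Y Z : ι → D} [HasCoproduct X] [HasCoproduct Y] [HasCoproduct Z]
    (a : ∀ i, X i ⟶ Y i) (b : ∀ i, Y i ⟶ Z i) (c : ∀ i, Z i ⟶ (X i)⟦(1 : ℤ)⟧)
    (hT : ∀ i, Triangle.mk (a i) (b i) (c i) ∈ distTriang D)
    [HasCoproduct fun i => (X i)⟦(1 : ℤ)⟧]
    (hX : FinFac K X) (hZ : FinFac K Z) :
    FinFac K Y := by
  classical
  intro φ
  obtain ⟨s, p, hp⟩ := hZ (φ ≫ Limits.Sigma.map b)
  let π : ∀ j, (∐ fun i => (X i)⟦(1 : ℤ)⟧) ⟶ (X j)⟦(1 : ℤ)⟧ := fun j =>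
    Sigma.desc fun i => if h : i = j then eqToHom (by rw [h]) else 0
  -- the components lift
  have h0 : ∀ j ∈ s, p j ≫ c j = 0 := by
    intro j hj
    have h1 : (∑ i ∈ s, p i ≫ Sigma.ι Z i) ≫ Limits.Sigma.map c ≫ π j = p j ≫ c j := by
      rw [Preadditive.sum_comp, Finset.sum_eq_single j ?_ (fun h => absurd hj h)]
      · simp [π]
      · intro i _ hij
        simp [π, hij]
    have h2 : Limits.Sigma.map b ≫ Limits.Sigma.map c = 0 := Sigma.hom_ext _ _ fun i => by
      have : b i ≫ c i = 0 := comp_distTriang_mor_zero₂₃ _ (hT i)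
      simp [reassoc_of% this]
    rw [← h1, ← hp, Category.assoc, reassoc_of% h2, zero_comp, comp_zero]
  have hq : ∀ j, ∃ q : K ⟶ Y j, j ∈ s → p j = q ≫ b j := fun j => by
    by_cases hj : j ∈ s
    · obtain ⟨q, hq⟩ := Triangle.coyoneda_exact₃ _ (hT j) (p j) (h0 j hj)
      exact ⟨q, fun _ => hq⟩
    · exact ⟨0, fun h => absurd h hj⟩
  choose q hq using hq
  obtain ⟨ψ, hψ⟩ := exists_lift_sum a b c hT (φ - ∑ i ∈ s, q i ≫ Sigma.ι Y i) (by
    rw [Preadditive.sub_comp, hp, Preadditive.sum_comp, sub_eq_zero]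
    exact Finset.sum_congr rfl fun i hi => by simp [hq i hi])
  obtain ⟨t, r, hr⟩ := hX ψ
  refine ⟨s ∪ t, fun i => (if i ∈ s then q i else 0) + (if i ∈ t then r i ≫ a i else 0), ?_⟩
  rw [sub_eq_iff_eq_add.1 hψ, hr, Preadditive.sum_comp]
  simp only [Preadditive.add_comp, Finset.sum_add_distrib, ite_comp, zero_comp, Finset.sum_ite_mem,
    Finset.union_inter_cancel_left, Finset.union_inter_cancel_right]
  rw [add_comm]
  congr 1
  exact Finset.sum_congr rfl fun i _ => by simp

end Groth.Agent.PerfGen
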