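import Groth.Agent.PerfGen.LTTri
import Groth.Agent.PerfGen.PushPC
import Groth.Agent.PerfPush.Main
import Groth.Agent.DQPush.Acyclic
import Groth.Agent.DQPush.PCShift
import Groth.Agent.ProjForm.Stupid

/-!
Pseudo-coherence of `Rf_*(E ⊗^L G)` for a bounded above complex `G` of flat modules with proper support.
-/

set_option autoImplicit false
set_option backward.isDefEq.respectTransparency false
set_option backward.isDefEq.respectTransparency.types false
set_option linter.style.haveILetI false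
set_option maxHeartbeats 1000000

universe u

open CategoryTheory Limits Pretriangulated AlgebraicGeometry ZeroObject

attribute [local instance] HasDerivedCategory.standard

namespace Groth.Agent.PerfGen

open Groth.Agent.DQCoh

variable {X S : Scheme.{u}} (f : X ⟶ S)

/-- `Rf_*(M ⊗^L P)` is pseudo-coherent -/
def PushPC [DCoh.HasRpush f] (P : CochainComplex X.Modules ℤ) [DCoh.HasLTensorCx P] (M : DCoh.D X) : Prop :=
  ∀ m : ℤ, DCoh.IsPseudoCoherentD m ((DCoh.Rpush f).obj ((DCoh.LTensorCx P).obj M))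

section Tri

variable [DCoh.HasRpush f] (P : CochainComplex X.Modules ℤ) [DCoh.HasLTensorCx P]

lemma exists_pushLT_triangle (T : Triangle (DCoh.D X)) (hT : T ∈ distTriang (DCoh.D X)) :
    ∃ (a : (DCoh.Rpush f).obj ((DCoh.LTensorCx P).obj T.obj₁) ⟶ (DCoh.Rpush f).obj ((DCoh.LTensorCx P).obj T.obj₂))
      (b : (DCoh.Rpush f).obj ((DCoh.LTensorCx P).obj T.obj₂) ⟶ (DCoh.Rpush f).obj ((DCoh.LTensorCx P).obj T.obj₃))
      (c : (DCoh.Rpush f).obj ((DCoh.LTensorCx P).obj T.obj₃) ⟶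
        ((DCoh.Rpush f).obj ((DCoh.LTensorCx P).obj T.obj₁))⟦(1 : ℤ)⟧),
      Triangle.mk a b c ∈ distTriang (DCoh.D S) := by
  obtain ⟨a, b, c, h⟩ := exists_lt_triangle P T hT
  obtain ⟨c', h'⟩ := DerPush.exists_rpush_triangle f _ _ _ h
  exact ⟨_, _, c', h'⟩

lemma pushPC_of_iso {M N : DCoh.D X} (e : M ≅ N) (h : PushPC f P M) : PushPC f P N :=
  fun m => pc_of_iso ((DCoh.Rpush f).mapIso ((DCoh.LTensorCx P).mapIso e)) (h m)

lemma pushPC_zero {Z : DCoh.D X} (hZ : IsZero Z) : PushPC f P Z := fun m => by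
  let O : CochainComplex X.Modules ℤ := 0
  have hO : IsZero O := isZero_zero _
  have hK : DCoh.IsKFlat O := DQCoh.isKFlat_of_isZero hO
  haveI := DerPush.isRightAdjoint_rpush f
  haveI : PreservesLimitsOfSize.{0, 0} (DCoh.Rpush f) := inferInstance
  haveI : (DCoh.Rpush f).Additive := Functor.additive_of_preserves_binary_products _
  refine pc_of_isAbove fun i _ => (DerivedCategory.homologyFunctor S.Modules i).map_isZero ((DCoh.Rpush f).map_isZero ?_)
  exact IsZero.of_iso (DerivedCategory.Q.map_isZero (((KFlat.tens (KFlat.schB X)).flip.obj P).map_isZero hO))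
    ((DCoh.LTensorCx P).mapIso (hZ.iso (DerivedCategory.Q.map_isZero hO)) ≪≫ KFlat.ltIso P hK)

lemma pushPC_obj₂ (T : Triangle (DCoh.D X)) (hT : T ∈ distTriang (DCoh.D X)) (h₁ : PushPC f P T.obj₁)
    (h₃ : PushPC f P T.obj₃) : PushPC f P T.obj₂ := fun m => by
  obtain ⟨a, b, c, h⟩ := exists_pushLT_triangle f P T hT
  exact pc_obj₂ _ h m (h₁ m) (h₃ m)

lemma pushPC_shift_one (F : DCoh.D X) : PushPC f P F ↔ PushPC f P (F⟦(1 : ℤ)⟧) := by
  obtain ⟨a, b, c, hT⟩ := exists_pushLT_triangle f P _ (rot_of_distTriang _ (contractible_distinguished F))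
  have h0 : PushPC f P (0 : DCoh.D X) := pushPC_zero f P (isZero_zero _)
  refine ⟨fun h m => pc_obj₃ _ hT m ?_ (h0 m), fun h m => ?_⟩
  · simpa using h (m + 1)
  · have := pc_obj₁ _ hT (m - 1) (by rw [sub_add_cancel]; exact h0 m) (h (m - 1))
    rwa [sub_add_cancel] at this

lemma pushPC_shift {E : DCoh.D X} (h : PushPC f P E) (n : ℤ) : PushPC f P (E⟦n⟧) := by
  induction n using Int.induction_on with
  | zero => exact pushPC_of_iso f P ((shiftFunctorZero (DCoh.D X) ℤ).app E).symm h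
  | succ k ih =>
    exact pushPC_of_iso f P ((shiftFunctorAdd' (DCoh.D X) (k : ℤ) 1 ((k : ℤ) + 1) rfl).app E).symm
      ((pushPC_shift_one f P _).1 ih)
  | pred k ih =>
    refine (pushPC_shift_one f P _).2 (pushPC_of_iso f P ?_ ih)
    exact (shiftFunctorAdd' (DCoh.D X) (-(k : ℤ) - 1) 1 (-(k : ℤ)) (by lia)).app E

end Tri

/-- the case of a perfect object and a quasi-compact quasi-separated base -/
theorem pushPC_perfect [LocallyOfFinitePresentation f] [QuasiCompact f] [QuasiSeparated f] [CompactSpace S]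
    [DCoh.HasRpush f] {P : CochainComplex X.Modules ℤ} (hPk : DCoh.IsKFlat P) (hP : DCoh.IsPerfect (DCoh.toD X P))
    [DCoh.HasLTensorCx P] (G : CochainComplex X.Modules ℤ) {b : ℤ} (hGb : ∀ i, b < i → IsZero (G.X i))
    (hGfp : ∀ i, CohB1.IsFP (G.X i)) (hGflat : ∀ i, FlatMod.IsFlatOver f (G.X i))
    (hGsupp : ∀ i, ClSub.IsProperOver f (CohB1.support (G.X i))) :
    PushPC f P (DerivedCategory.Q.obj G) := by
  intro m
  haveI : CompactSpace X := QuasiCompact.compactSpace_of_compactSpace f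
  have hGq : ∀ i, Coh.IsQCoh (G.X i) := fun i => FibDepth.isQCoh_of_isFP (hGfp i)
  obtain ⟨bP, hbP⟩ := DQPush.exists_isLE_of_pc (pc_of_perfect hP 0)
  haveI := hbP
  obtain ⟨N, hN⟩ := DQPush.exists_amplitude f
  obtain ⟨c, hc⟩ := exists_lt_bound P bP
  have hPq : DCoh.IsQCohD (DCoh.toD X P) := isQCohD_of_isPerfect hP
  -- the truncations
  have hσ : ∀ k : ℕ, PushPC f P (DerivedCategory.Q.obj (ProjForm.Stupid.σ G (b + 1 - (k : ℤ)))) := fun k => by
    refine ProjForm.Stupid.prop_σ G (fun K => PushPC f P (DerivedCategory.Q.obj K))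
      (fun K hK => pushPC_zero f P (DerivedCategory.Q.map_isZero hK))
      (fun {S₀} σ h₁ h₃ => pushPC_obj₂ f P _
        (DerivedCategory.triangleOfSES_distinguished (KFlat.shortExact_of_splitting σ)) h₁ h₃) hGb (fun i => ?_) k
    haveI := KFlat.hasLTensorMod (G.X i)
    have hp : DCoh.IsPerfect ((DCoh.Rpush f).obj ((DCoh.LTensorMod (G.X i)).obj (DCoh.toD X P))) :=
      PerfPush.pushPerf f hP (G.X i) (hGfp i) (hGflat i) (hGsupp i)
    let s₀ : CochainComplex X.Modules ℤ := (HomologicalComplex.single X.Modules (ComplexShape.up ℤ) 0).obj (G.X i)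
    have h0 : PushPC f P (DerivedCategory.Q.obj s₀) := fun m =>
      pc_of_iso ((DCoh.Rpush f).mapIso (KFlat.lTensorModIso (G.X i) hPk ≪≫
        DerivedCategory.Q.mapIso (KFlat.tensSingleIso (KFlat.schB X) P (G.X i) ≪≫
          KFlat.swapIso (KFlat.braid X.sheaf) P s₀) ≪≫ (KFlat.ltIsoOfKFlat hPk s₀).symm))
        (pc_of_perfect hp m)
    exact pushPC_of_iso f P (((DerivedCategory.singleFunctorIsoCompQ X.Modules 0).app (G.X i) |>.symm |>
      (shiftFunctor (DCoh.D X) (-i)).mapIso) ≪≫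
      ((DerivedCategory.singleFunctors X.Modules).shiftIso (-i) i 0 (by lia)).app (G.X i) ≪≫
      (DerivedCategory.singleFunctorIsoCompQ X.Modules i).app (G.X i)) (pushPC_shift f P h0 (-i))
  -- far enough
  let k : ℕ := (b + 1 - (m - N - c - 1)).toNat
  let t : ℤ := b + 1 - (k : ℤ)
  have ht : t ≤ m - N - c - 1 := by omega
  let ι : DerivedCategory.Q.obj (ProjForm.Stupid.σ G t) ⟶ DerivedCategory.Q.obj G :=
    DerivedCategory.Q.map (ProjForm.Stupid.ι G t)
  obtain ⟨C, v, w, hT⟩ := Pretriangulated.distinguished_cocone_triangle ι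
  have hf : ∀ i, t ≤ i → IsIso ((ProjForm.Stupid.ι G t).f i) := fun i hi => by
    show IsIso (ProjForm.Stupid.inc G t i)
    exact ⟨ProjForm.Stupid.pr G t i, ProjForm.Stupid.inc_pr G t i, ProjForm.Stupid.pr_inc G hi⟩
  have hm : MIsoD (t + 1) ι := by
    have hiso : ∀ i, t + 1 ≤ i → IsIso ((DerivedCategory.homologyFunctor X.Modules i).map ι) := fun i hi => by
      let φ := (HomologicalComplex.shortComplexFunctor X.Modules (ComplexShape.up ℤ) i).map (ProjForm.Stupid.ι G t)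
      haveI : IsIso φ.τ₁ := hf _ (by simp; omega)
      haveI : IsIso φ.τ₂ := hf i (by omega)
      haveI : IsIso φ.τ₃ := hf _ (by simp; omega)
      haveI : IsIso φ := ShortComplex.isIso_of_isIso φ
      have h : IsIso ((HomologicalComplex.homologyFunctor X.Modules (ComplexShape.up ℤ) i).map (ProjForm.Stupid.ι G t)) := by
        show IsIso (ShortComplex.homologyMap φ)
        exact inferInstanceAs (IsIso ((ShortComplex.homologyFunctor X.Modules).map φ))
      exact (NatIso.isIso_map_iff (DerivedCategory.homologyFunctorFactors X.Modules i) _).2 h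
    exact ⟨fun i hi => hiso i hi.le, haveI := hiso (t + 1) le_rfl; inferInstance⟩
  have hab : IsAboveD (t + 1) C := (mIsoD_iff (t + 1) _ hT).1 hm
  haveI hCle : C.IsLE t := (DerivedCategory.isLE_iff _ _).2 fun i hi => hab i (by omega)
  have hσq : DCoh.IsQCohD (DerivedCategory.Q.obj (ProjForm.Stupid.σ G t)) := DQPush.isQCohD_Q _ fun i => by
    by_cases hi : t ≤ i
    · haveI := hf i hi
      exact QC.isQCoh_of_iso (asIso ((ProjForm.Stupid.ι G t).f i)).symm (hGq i)
    · exact DQCoh.isQCoh_of_isZero (ProjForm.Stupid.isZero_Xσ G (by omega))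
  have hCq : DCoh.IsQCohD C := isQCohD_obj₃ _ hT hσq (DQPush.isQCohD_Q G hGq)
  obtain ⟨a', v', w', hT'⟩ := exists_pushLT_triangle f P _ hT
  haveI hle : ((DCoh.LTensorCx P).obj C).IsLE (m - N - 1) :=
    (DerivedCategory.isLE_iff _ _).2 fun i hi => hc C t hCle i (by omega)
  exact pc_obj₂ _ hT' m (hσ k m) (pc_of_isAbove fun i hi =>
    hN _ (isQCohD_LTensorCx P hPq C hCq) (m - N - 1) hle i (by omega))

/-- a quasi-compact quasi-separated base -/
theorem pc_push_cxTensor [LocallyOfFinitePresentation f] [QuasiCompact f] [QuasiSeparated f] [CompactSpace S]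
    [QuasiSeparatedSpace S] [DCoh.HasRpush f] (E : DCoh.D X) (hE : ∀ m : ℤ, DCoh.IsPseudoCoherentD m E)
    (G : CochainComplex X.Modules ℤ) {b : ℤ} (hGb : ∀ i, b < i → IsZero (G.X i)) (hGfp : ∀ i, CohB1.IsFP (G.X i))
    (hGflat : ∀ i, FlatMod.IsFlatOver f (G.X i)) (hGsupp : ∀ i, ClSub.IsProperOver f (CohB1.support (G.X i)))
    [DCoh.HasLTensorCx G] (m : ℤ) : DCoh.IsPseudoCoherentD m ((DCoh.Rpush f).obj ((DCoh.LTensorCx G).obj E)) := by
  haveI : SiteCmp.HasRpushD (ModSite.RMor.ofScheme f) := ‹DCoh.HasRpush f›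
  haveI : CompactSpace X := QuasiCompact.compactSpace_of_compactSpace f
  haveI : QuasiSeparatedSpace X := quasiSeparatedSpace_of_quasiSeparated f
  have hGq : DCoh.IsQCohD (DCoh.toD X G) := DQPush.isQCohD_Q G fun i => FibDepth.isQCoh_of_isFP (hGfp i)
  haveI : (DCoh.toD X G).IsLE b := (DerivedCategory.isLE_iff _ _).2 fun i hi =>
    (ShortComplex.isZero_homology_of_isZero_X₂ _ (hGb i hi)).of_iso (KFlat.hdIso G i)
  obtain ⟨r, hr⟩ := hasApprox X Set.univ isClosed_univ (by simp)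
  obtain ⟨N, hN⟩ := DQPush.exists_amplitude f
  obtain ⟨c, hc⟩ := exists_lt_bound G b
  have hq : DCoh.IsQCohD E := fun i => (isQCoh_cohomology_of_pseudoCoherent (i - 1) E (hE _)).1 i (by lia)
  obtain ⟨P, C, a, g, w, hT, hP, hC⟩ := hr (m - N - c) E hq (hE _) (fun i _ => Set.subset_univ _)
  haveI hCle : C.IsLE (m - N - c - 1) := (DerivedCategory.isLE_iff _ _).2 fun i hi => hC i (by lia)
  obtain ⟨P', hP', -, ⟨e⟩⟩ := KFlat.exists_isKFlat_rep P
  haveI := KFlat.hasLTensorCx P'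
  have hp : DCoh.IsPseudoCoherentD m ((DCoh.Rpush f).obj ((DCoh.LTensorCx G).obj P)) :=
    pc_of_iso ((DCoh.Rpush f).mapIso (KFlat.ltIsoOfKFlat hP' G ≪≫
        DerivedCategory.Q.mapIso (KFlat.swapIso (KFlat.braid X.sheaf) G P') ≪≫ (KFlat.ltIso G hP').symm ≪≫
        (DCoh.LTensorCx G).mapIso e))
      (pushPC_perfect f hP' (perfect_of_iso e.symm hP.1) G hGb hGfp hGflat hGsupp m)
  obtain ⟨a', g', w', hT'⟩ := exists_lt_triangle G _ hT
  obtain ⟨w'', hT''⟩ := RPushSite.exists_rpush_triangle (ModSite.RMor.ofScheme f) _ _ _ hT'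
  haveI hle : ((DCoh.LTensorCx G).obj C).IsLE (m - N - 1) :=
    (DerivedCategory.isLE_iff _ _).2 fun i hi => hc C (m - N - c - 1) hCle i (by lia)
  refine pc_obj₂ _ hT'' m hp (pc_of_isAbove ?_)
  exact fun i hi => hN _ (isQCohD_LTensorCx G hGq C (isQCohD_obj₃ _ hT (isQCohD_of_isPerfect hP.1) hq))
    (m - N - 1) hle i (by lia)

/-- **`Rf_*(E ⊗^L G)` is pseudo-coherent** -/
theorem pc_push_cxTensor' [LocallyOfFinitePresentation f] [QuasiCompact f] [QuasiSeparated f] [DCoh.HasRpush f]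
    (E : DCoh.D X) (hE : ∀ m : ℤ, DCoh.IsPseudoCoherentD m E) (G : CochainComplex X.Modules ℤ) {b : ℤ}
    (hGb : ∀ i, b < i → IsZero (G.X i)) (hGfp : ∀ i, CohB1.IsFP (G.X i)) (hGflat : ∀ i, FlatMod.IsFlatOver f (G.X i))
    (hGsupp : ∀ i, ClSub.IsProperOver f (CohB1.support (G.X i))) [DCoh.HasLTensorCx G] (m : ℤ) :
    DCoh.IsPseudoCoherentD m ((DCoh.Rpush f).obj ((DCoh.LTensorCx G).obj E)) := by
  obtain ⟨P, hP, -, ⟨e⟩⟩ := KFlat.exists_isKFlat_rep E
  refine pc_rpush_of_local f _ m fun V hV _ => ?_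
  let U := f ⁻¹ᵁ V
  let R := (Scheme.Modules.pullback U.ι).mapHomologicalComplex (ComplexShape.up ℤ)
  let i₀ : ∀ F : CochainComplex X.Modules ℤ, (rC U.ι).obj F ≅ R.obj F := fun F =>
    HomologicalComplex.Hom.isoOfComponents (fun n => (Scheme.Modules.restrictFunctorIsoPullback U.ι).app (F.X n))
      (fun p q _ => ((Scheme.Modules.restrictFunctorIsoPullback U.ι).hom.naturality (F.d p q)).symm)
  haveI : IsAffine (V : Scheme.{u}) := hV
  have H : IsPullback U.ι (f ∣_ V) f V.ι := (isPullback_morphismRestrict f V).flip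
  haveI : LocallyOfFinitePresentation (f ∣_ V) := MorphismProperty.of_isPullback H ‹_›
  haveI : QuasiCompact (f ∣_ V) := MorphismProperty.of_isPullback H ‹_›
  haveI : QuasiSeparated (f ∣_ V) := MorphismProperty.of_isPullback H ‹_›
  haveI := KFlat.hasLTensorCx (R.obj G)
  have hG : ∀ i, Coh.IsQCoh (G.X i) := fun i => FibDepth.isQCoh_of_isFP (hGfp i)
  refine pc_of_iso ((DCoh.Rpush (f ∣_ V)).mapIso ?_)
    (pc_push_cxTensor (f ∣_ V) (DerivedCategory.Q.obj (R.obj P)) (fun n => ?_) (R.obj G) (b := b) (fun i hi => ?_)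
      (fun i => ?_) (fun i => ?_) (fun i => ?_) m)
  · exact KFlat.ltIso (R.obj G) (KFlat.isKFlat_pullback U.ι hP) ≪≫
      DerivedCategory.Q.mapIso (KFlat.pullTotIso U.ι P G ≪≫ (i₀ _).symm) ≪≫ (rdIso U.ι _).symm ≪≫
      (RD U.ι).mapIso ((KFlat.ltIso G hP).symm ≪≫ (DCoh.LTensorCx G).mapIso e)
  · exact pc_of_iso ((RD U.ι).mapIso e.symm ≪≫ rdIso U.ι P ≪≫ DerivedCategory.Q.mapIso (i₀ P))
      (pc_restrict U.ι (hE n))
  · exact (Scheme.Modules.pullback U.ι).map_isZero (hGb i hi)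
  · exact ModDesc.isFP_pullback _ (hG i) (hGfp i)
  · exact fun z => FlatModBC.isFlatOverAt_baseChange H (G.X i) z (hGflat i _)
  · exact ClSubLib.mono (ClSubLib.isProperOver_baseChange H (hGsupp i))
      (QC.isClosed_support (QC.isCoh_pullback _ ⟨hG i, ModDesc.isFT_of_isFP (hGfp i)⟩).2)
      (ClSubLib.support_pullback_subset _ (G.X i))

end Groth.Agent.PerfGen
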