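import Groth.Agent.PerfGen.Approx
import Groth.Agent.PerfGen.Bounds
import Groth.Agent.Hocolim.Basic
import Groth.Agent.DQCoh.Pseudo
import Mathlib.CategoryTheory.Limits.Constructions.EventuallyConstant

/-!
Pseudo-coherent objects are homotopy colimits of perfect objects.
-/

set_option autoImplicit false
set_option backward.isDefEq.respectTransparency false
set_option backward.isDefEq.respectTransparency.types false
set_option linter.style.haveILetI false
set_option linter.unusedSectionVars false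

universe u

open CategoryTheory Limits Pretriangulated AlgebraicGeometry

attribute [local instance] HasDerivedCategory.standard

namespace Groth.Agent.PerfGen

open DerivedCategory.TStructure
open Groth.Agent.DQCoh (IsAboveD MIsoD mIsoD_iff pc_obj₂ pc_of_perfect pc_of_isAbove)

variable {X : Scheme.{u}}

/-- a map out of a telescope which is eventually an isomorphism on cohomology is an isomorphism -/
lemma isIso_of_eventually {E : ℕ → DCoh.D X} (f : ∀ n, E n ⟶ E (n + 1)) {L K : DCoh.D X} (q : ∀ n, E n ⟶ L)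
    [HasColimitsOfShape (Discrete ℕ) (DCoh.D X)] (hL : DerLim.IsHocolim E f L q) (g : L ⟶ K)
    (hg : ∀ i : ℤ, ∃ N : ℕ, ∀ n, N ≤ n → IsIso ((DerivedCategory.homologyFunctor X.Modules i).map (q n ≫ g))) :
    IsIso g := by
  rw [DerivedCategory.isIso_iff]
  intro i
  let H := DerivedCategory.homologyFunctor X.Modules i
  haveI : PreservesColimitsOfShape (Discrete ℕ) H := by
    haveI := DQPush.preservesCoproducts_HD (X := X) (ι := ULift.{u} ℕ) i
    exact preservesColimitsOfShape_of_equiv (Discrete.equivalence Equiv.ulift) H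
  haveI : HasExactColimitsOfShape ℕ X.Modules := KFlat.hasExactColimits_nat X.sheaf
  obtain ⟨e, he⟩ := Hocolim.iso_colimit H E f L q hL
  obtain ⟨N, hN⟩ := hg i
  have hq : ∀ n, f n ≫ q (n + 1) = q n := fun n => by
    obtain ⟨c, hT⟩ := hL
    have h : (𝟙 (∐ E) - DerLim.shiftMap E f) ≫ Sigma.desc q = 0 := comp_distTriang_mor_zero₁₂ _ hT
    have h' := Sigma.ι E n ≫= h
    simp only [Preadditive.sub_comp, Preadditive.comp_sub, Category.id_comp, Sigma.ι_desc, comp_zero,
      DerLim.shiftMap, Sigma.ι_desc_assoc, Category.assoc, sub_eq_zero] at h'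
    exact h'.symm
  let F := Functor.ofSequence (fun n => H.map (f n))
  let c : Cocone F :=
    { pt := H.obj K
      ι := NatTrans.ofSequence (fun n => H.map (q n ≫ g)) (fun n => by
        dsimp [F]
        rw [Functor.ofSequence_map_homOfLE_succ, ← H.map_comp, reassoc_of% (hq n), Category.comp_id]) }
  have hc : F.IsEventuallyConstantFrom N := fun j φ => by
    haveI : IsIso (c.ι.app N) := hN N le_rfl
    haveI : IsIso (c.ι.app j) := hN j (leOfHom φ)
    exact IsIso.of_isIso_fac_right (c.w φ)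
  haveI : IsIso (c.ι.app N) := hN N le_rfl
  let hcl := hc.isColimitOfIsIso c
  have heq : e.hom ≫ H.map g = ((colimit.isColimit F).coconePointUniqueUpToIso hcl).hom := by
    refine colimit.hom_ext fun n => ?_
    rw [← Category.assoc, he, ← H.map_comp]
    exact ((colimit.isColimit F).comp_coconePointUniqueUpToIso_hom hcl n).symm
  haveI : IsIso (e.hom ≫ H.map g) := by rw [heq]; infer_instance
  exact IsIso.of_isIso_comp_left e.hom (H.map g)

lemma isQCohD_of_pc_all {K : DCoh.D X} (h : ∀ m, DCoh.IsPseudoCoherentD m K) : DCoh.IsQCohD K := fun i =>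
  (DQCoh.isQCoh_cohomology_of_pseudoCoherent (i - 1) K (h _)).1 i (by lia)

variable [CompactSpace X] [QuasiSeparatedSpace X]

theorem pc_iff_hocolim [HasColimitsOfShape (Discrete ℕ) (DCoh.D X)] (T : Set X) (hT : IsClosed T)
    (hTc : IsCompact Tᶜ) (K : DCoh.D X) (hK : SuppD T K) :
    (∀ m : ℤ, DCoh.IsPseudoCoherentD m K) ↔
      ∃ (E : ℕ → DCoh.D X) (f : ∀ n, E n ⟶ E (n + 1)) (i : ∀ n, E n ⟶ K),
        (∀ n, DCoh.IsPerfect (E n)) ∧ (∀ (n : ℕ) (j : ℤ), CohB1.support (DCoh.HD (E n) j) ⊆ T) ∧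
        DerLim.IsHocolim E f K i ∧ ∀ n : ℕ, IsIso ((t.truncGE (-(n : ℤ))).map (i n)) := by
  constructor
  · intro hpc
    obtain ⟨r, hr⟩ := hasApprox X T hT hTc
    have hq := isQCohD_of_pc_all hpc
    -- one step
    have step : ∀ (P : DCoh.D X) (α : P ⟶ K), DCoh.IsPerfect P → ∀ M : ℤ,
        ∃ (P' : DCoh.D X) (α' : P' ⟶ K) (φ : P ⟶ P'),
          PerfT T P' ∧ MIsoD M α' ∧ φ ≫ α' = α := by
      intro P α hP M
      obtain ⟨w, hw⟩ := exists_homVac_isLE hP
      obtain ⟨M', hM', hM''⟩ : ∃ M' : ℤ, M' ≤ M ∧ M' ≤ -(w : ℤ) := ⟨min M (-(w : ℤ)), min_le_left _ _, min_le_right _ _⟩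
      obtain ⟨P', C, a, g, h, hS, hP', hC⟩ := hr M' K hq (hpc _) fun i _ => hK i
      have hαg : α ≫ g = 0 := by
        rw [← cancel_epi ((shiftFunctorZero (DCoh.D X) ℤ).hom.app P), comp_zero]
        exact hw C (isQCohD_obj₃ _ hS (isQCohD_of_isPerfect hP'.1) hq) (M' - 1)
          ((DerivedCategory.isLE_iff C _).2 fun i hi => hC i (by omega)) 0 (by omega) _
      obtain ⟨φ, hφ⟩ := Triangle.coyoneda_exact₂ _ hS α hαg
      exact ⟨P', a, φ, hP', DQCoh.mIsoD_mono hM' ((mIsoD_iff M' _ hS).2 hC), hφ.symm⟩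
    choose nP nα nφ nT nM ncompat using step
    obtain ⟨P₀, α₀, hP₀, hα₀⟩ : ∃ (P₀ : DCoh.D X) (α₀ : P₀ ⟶ K), PerfT T P₀ ∧ MIsoD (-1) α₀ := by
      obtain ⟨P', C, a, g, h, hS, hP', hC⟩ := hr (-1) K hq (hpc _) fun i _ => hK i
      exact ⟨P', a, hP', (mIsoD_iff (-1) _ hS).2 hC⟩
    let S : ℕ → Σ' (P : DCoh.D X) (α : P ⟶ K), PLift (PerfT T P) := fun n => Nat.rec ⟨P₀, α₀, ⟨hP₀⟩⟩
      (fun n p => ⟨nP p.1 p.2.1 p.2.2.down.1 (-(n : ℤ) - 2), nα p.1 p.2.1 p.2.2.down.1 (-(n : ℤ) - 2),
        ⟨nT p.1 p.2.1 p.2.2.down.1 (-(n : ℤ) - 2)⟩⟩) n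
    let E : ℕ → DCoh.D X := fun n => (S n).1
    let f : ∀ n, E n ⟶ E (n + 1) := fun n => nφ (S n).1 (S n).2.1 (S n).2.2.down.1 (-(n : ℤ) - 2)
    let a : ∀ n, E n ⟶ K := fun n => (S n).2.1
    have hfa : ∀ n, f n ≫ a (n + 1) = a n := fun n => ncompat _ _ _ _
    have hM : ∀ n : ℕ, MIsoD (-(n : ℤ) - 1) (a n) := by
      intro n
      cases n with
      | zero => exact (show -((0 : ℕ) : ℤ) - 1 = -1 by norm_num).symm ▸ hα₀
      | succ n =>
        have := nM (S n).1 (S n).2.1 (S n).2.2.down.1 (-(n : ℤ) - 2)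
        rw [show -((n + 1 : ℕ) : ℤ) - 1 = -(n : ℤ) - 2 by push_cast; ring]
        exact this
    obtain ⟨L, q, c, hT'⟩ := distinguished_cocone_triangle (𝟙 (∐ E) - DerLim.shiftMap E f)
    obtain ⟨g, hg⟩ : ∃ g : L ⟶ K, Sigma.desc a = q ≫ g :=
      Triangle.yoneda_exact₂ _ hT' (Sigma.desc a) (Sigma.hom_ext _ _ fun n => by
        show Sigma.ι E n ≫ (𝟙 (∐ E) - DerLim.shiftMap E f) ≫ Sigma.desc a = Sigma.ι E n ≫ 0
        simp [DerLim.shiftMap, Preadditive.sub_comp, Preadditive.comp_sub, hfa n])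
    have hqg : ∀ n, Sigma.ι E n ≫ q ≫ g = a n := fun n => by rw [← hg, Sigma.ι_desc]
    have hq' : Sigma.desc (fun n => Sigma.ι E n ≫ q) = q := Sigma.hom_ext _ _ fun n => Sigma.ι_desc _ _
    have hL : DerLim.IsHocolim E f L (fun n => Sigma.ι E n ≫ q) := ⟨c, by rw [hq']; exact hT'⟩
    haveI : IsIso g := isIso_of_eventually f _ hL g fun i => ⟨(-i).toNat, fun n hn => by
      rw [Category.assoc, hqg]
      exact (hM n).1 i (by omega)⟩
    refine ⟨E, f, a, fun n => (S n).2.2.down.1, fun n => (S n).2.2.down.2,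
      ⟨inv g ≫ c, isomorphic_distinguished _ hT' _
        (Triangle.isoMk _ _ (Iso.refl _) (Iso.refl _) (asIso g).symm (by simp) ?_ (by simp))⟩, fun n => ?_⟩
    · show Sigma.desc a ≫ inv g = 𝟙 _ ≫ q
      rw [hg, Category.assoc, IsIso.hom_inv_id, Category.comp_id, Category.id_comp]
    · rw [DerivedCategory.isIso_iff]
      intro i
      rcases lt_or_ge i (-(n : ℤ)) with hi | hi
      · haveI := HDU.isGE_truncGE (E n) (-(n : ℤ))
        haveI := HDU.isGE_truncGE K (-(n : ℤ))
        exact (DerivedCategory.isZero_of_isGE _ (-(n : ℤ)) i hi).isIso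
          (DerivedCategory.isZero_of_isGE _ (-(n : ℤ)) i hi) _
      · haveI := HDU.isIso_H_truncGEπ (E n) (-(n : ℤ)) i hi
        haveI := HDU.isIso_H_truncGEπ K (-(n : ℤ)) i hi
        haveI := (hM n).1 i (by omega)
        have hn : (DerivedCategory.homologyFunctor X.Modules i).map ((t.truncGEπ (-(n : ℤ))).app (E n)) ≫
            (DerivedCategory.homologyFunctor X.Modules i).map ((t.truncGE (-(n : ℤ))).map (a n)) =
            (DerivedCategory.homologyFunctor X.Modules i).map (a n) ≫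
              (DerivedCategory.homologyFunctor X.Modules i).map ((t.truncGEπ (-(n : ℤ))).app K) := by
          rw [← Functor.map_comp, ← Functor.map_comp]
          exact congrArg _ ((t.truncGEπ (-(n : ℤ))).naturality (a n)).symm
        exact IsIso.of_isIso_fac_left hn
  · rintro ⟨E, f, a, hE, -, -, hiso⟩ m
    obtain ⟨n, hn⟩ : ∃ n : ℕ, -(n : ℤ) < m := ⟨(-m).toNat + 1, by omega⟩
    obtain ⟨C, g, h, hS⟩ := distinguished_cocone_triangle (a n)
    have hH : ∀ i, -(n : ℤ) ≤ i → IsIso ((DerivedCategory.homologyFunctor X.Modules i).map (a n)) := fun i hi => by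
      haveI := hiso n
      haveI := HDU.isIso_H_truncGEπ (E n) (-(n : ℤ)) i hi
      haveI := HDU.isIso_H_truncGEπ K (-(n : ℤ)) i hi
      have hn' : (DerivedCategory.homologyFunctor X.Modules i).map (a n) ≫
            (DerivedCategory.homologyFunctor X.Modules i).map ((t.truncGEπ (-(n : ℤ))).app K) =
          (DerivedCategory.homologyFunctor X.Modules i).map ((t.truncGEπ (-(n : ℤ))).app (E n)) ≫
            (DerivedCategory.homologyFunctor X.Modules i).map ((t.truncGE (-(n : ℤ))).map (a n)) := by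
        rw [← Functor.map_comp, ← Functor.map_comp]
        exact congrArg _ ((t.truncGEπ (-(n : ℤ))).naturality (a n))
      exact IsIso.of_isIso_fac_right hn'
    have hm : MIsoD m (a n) := ⟨fun i hi => hH i (by omega), by haveI := hH m hn.le; infer_instance⟩
    exact pc_obj₂ _ hS m (pc_of_perfect (hE n) m) (pc_of_isAbove ((mIsoD_iff m _ hS).1 hm))

end Groth.Agent.PerfGen
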