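import Groth.Agent.PerfPush.Tri
import Groth.Agent.DQCoh.Tensor
import Mathlib.Algebra.Homology.QuasiIso

/-!
Triangles and bounds above for `- ⊗^L K`.
-/

set_option autoImplicit false
set_option backward.isDefEq.respectTransparency false
set_option backward.isDefEq.respectTransparency.types false
set_option linter.style.haveILetI false

universe u

open CategoryTheory Limits Pretriangulated AlgebraicGeometry

attribute [local instance] HasDerivedCategory.standard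

namespace Groth.Agent.PerfGen

variable {X : Scheme.{u}}

/-- the shifted form of triangles after `- ⊗^L E` -/
theorem exists_lt_triangle_rot (E : CochainComplex X.Modules ℤ) [DCoh.HasLTensorCx E] (T : Triangle (DCoh.D X))
    (hT : T ∈ distTriang (DCoh.D X)) :
    ∃ (a : (DCoh.LTensorCx E).obj T.obj₂ ⟶ (DCoh.LTensorCx E).obj T.obj₃)
      (b : (DCoh.LTensorCx E).obj T.obj₃ ⟶ (DCoh.LTensorCx E).obj (T.obj₁⟦(1 : ℤ)⟧))
      (c : (DCoh.LTensorCx E).obj (T.obj₁⟦(1 : ℤ)⟧) ⟶ ((DCoh.LTensorCx E).obj T.obj₂)⟦(1 : ℤ)⟧),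
      Triangle.mk a b c ∈ distTriang (DCoh.D X) := by
  let e₁ : DerivedCategory.Q.obj _ ≅ T.obj₁ := DerivedCategory.Q.objObjPreimageIso T.obj₁
  let e₂ : DerivedCategory.Q.obj _ ≅ T.obj₂ := DerivedCategory.Q.objObjPreimageIso T.obj₂
  obtain ⟨C₀, s, hs, v, hv⟩ := DerivedCategory.right_fac (e₁.hom ≫ T.mor₁ ≫ e₂.inv)
  haveI : QuasiIso s := (DerivedCategory.isIso_Q_map_iff_quasiIso _ s).1 hs
  haveI := hs
  let r := KFlat.resF X
  let P₁ := r.obj C₀
  let P₂ := r.obj ((DerivedCategory.Q : _ ⥤ DCoh.D X).objPreimage T.obj₂)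
  let u : P₁ ⟶ P₂ := r.map v
  have hP₁ : DCoh.IsKFlat P₁ := KFlat.isKFlat_resF _
  have hP₂ : DCoh.IsKFlat P₂ := KFlat.isKFlat_resF _
  let d₁ : DerivedCategory.Q.obj P₁ ≅ T.obj₁ :=
    asIso (DerivedCategory.Q.map ((KFlat.resψ X).app C₀)) ≪≫ asIso (DerivedCategory.Q.map s) ≪≫ e₁
  let d₂ : DerivedCategory.Q.obj P₂ ≅ T.obj₂ :=
    asIso (DerivedCategory.Q.map ((KFlat.resψ X).app _)) ≪≫ e₂
  have hnat : DerivedCategory.Q.map u ≫ d₂.hom = d₁.hom ≫ T.mor₁ := by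
    have h1 : u ≫ (KFlat.resψ X).app _ = (KFlat.resψ X).app C₀ ≫ v := (KFlat.resψ X).naturality v
    have h2 : DerivedCategory.Q.map v ≫ e₂.hom = DerivedCategory.Q.map s ≫ e₁.hom ≫ T.mor₁ := by
      rw [show DerivedCategory.Q.map v = DerivedCategory.Q.map s ≫ e₁.hom ≫ T.mor₁ ≫ e₂.inv by
        rw [hv, IsIso.hom_inv_id_assoc]]
      simp
    simp only [d₁, d₂, Iso.trans_hom, asIso_hom, Category.assoc]
    rw [← DerivedCategory.Q.map_comp_assoc, h1, DerivedCategory.Q.map_comp_assoc, h2]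
  have hP₃ : DCoh.IsKFlat (CochainComplex.mappingCone u) := KFlat.rflat_mappingCone_sch _ hP₁ hP₂
  have hP₄ : DCoh.IsKFlat (P₁⟦(1 : ℤ)⟧) := DQCoh.isKFlat_shift hP₁ 1
  let d₃ : DerivedCategory.Q.obj (CochainComplex.mappingCone u) ≅ T.obj₃ :=
    Triangle.π₃.mapIso (isoTriangleOfIso₁₂ _ _ (DerivedCategory.mappingCone_triangle_distinguished u) hT d₁ d₂ hnat)
  let d₄ : DerivedCategory.Q.obj (P₁⟦(1 : ℤ)⟧) ≅ T.obj₁⟦(1 : ℤ)⟧ :=
    (DerivedCategory.Q.commShiftIso (1 : ℤ)).app P₁ ≪≫ (shiftFunctor (DCoh.D X) (1 : ℤ)).mapIso d₁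
  have hS : ((CochainComplex.mappingCone.triangleRotateShortComplex u).map
      ((KFlat.tens (KFlat.schB X)).flip.obj E)).ShortExact :=
    KFlat.shortExact_of_splitting (KFlat.splittingFlip (KFlat.schB X) E _
      (CochainComplex.mappingCone.triangleRotateShortComplexSplitting u))
  let E₂ := (DCoh.LTensorCx E).mapIso d₂.symm ≪≫ KFlat.ltIso E hP₂
  let E₃ := (DCoh.LTensorCx E).mapIso d₃.symm ≪≫ KFlat.ltIso E hP₃
  let E₄ := (DCoh.LTensorCx E).mapIso d₄.symm ≪≫ KFlat.ltIso E hP₄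
  let M := DerivedCategory.triangleOfSES hS
  exact ⟨E₂.hom ≫ M.mor₁ ≫ E₃.inv, E₃.hom ≫ M.mor₂ ≫ E₄.inv, E₄.hom ≫ M.mor₃ ≫ E₂.inv⟦(1 : ℤ)⟧',
    isomorphic_distinguished _ (DerivedCategory.triangleOfSES_distinguished hS) _
      (Triangle.isoMk _ _ E₂ E₃ E₄ (by simp [M]) (by simp [M]) (by simp [M, ← Functor.map_comp]))⟩

/-- triangles after `- ⊗^L E` -/
theorem exists_lt_triangle (E : CochainComplex X.Modules ℤ) [DCoh.HasLTensorCx E] (T : Triangle (DCoh.D X))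
    (hT : T ∈ distTriang (DCoh.D X)) :
    ∃ (a : (DCoh.LTensorCx E).obj T.obj₁ ⟶ (DCoh.LTensorCx E).obj T.obj₂)
      (b : (DCoh.LTensorCx E).obj T.obj₂ ⟶ (DCoh.LTensorCx E).obj T.obj₃)
      (c : (DCoh.LTensorCx E).obj T.obj₃ ⟶ ((DCoh.LTensorCx E).obj T.obj₁)⟦(1 : ℤ)⟧),
      Triangle.mk a b c ∈ distTriang (DCoh.D X) := by
  obtain ⟨a, b, c, h⟩ := exists_lt_triangle_rot E T.invRotate (inv_rot_of_distTriang _ hT)
  let e : (DCoh.LTensorCx E).obj (T.invRotate.obj₁⟦(1 : ℤ)⟧) ≅ (DCoh.LTensorCx E).obj T.obj₃ :=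
    (DCoh.LTensorCx E).mapIso ((shiftEquiv (DCoh.D X) (1 : ℤ)).counitIso.app T.obj₃)
  let T₀ : Triangle (DCoh.D X) := Triangle.mk a b c
  refine ⟨a, b ≫ e.hom, e.inv ≫ c,
    isomorphic_distinguished _ h _ (Triangle.isoMk _ T₀ (Iso.refl _) (Iso.refl _) e.symm ?_ ?_ ?_)⟩
  · exact (Category.comp_id _).trans (Category.id_comp _).symm
  · exact ((Category.assoc _ _ _).trans (congrArg (b ≫ ·) e.hom_inv_id)).trans
      ((Category.comp_id _).trans (Category.id_comp _).symm)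
  · exact (congrArg ((e.inv ≫ c) ≫ ·) ((shiftFunctor (DCoh.D X) (1 : ℤ)).map_id _)).trans (Category.comp_id _)

/-- `- ⊗^L E` shifts bounds above by a constant when `E` is bounded above -/
theorem exists_lt_bound (E : CochainComplex X.Modules ℤ) (b : ℤ) [(DCoh.toD X E).IsLE b] [DCoh.HasLTensorCx E] :
    ∃ c : ℤ, ∀ (C : DCoh.D X) (n : ℤ), C.IsLE n → ∀ i, n + c < i →
      IsZero (DCoh.HD ((DCoh.LTensorCx E).obj C) i) := by
  let E' := (KFlat.resF X).obj E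
  let q := (KFlat.resψ X).app E
  haveI : E'.IsLE b := (CochainComplex.isLE_iff E' b).2 fun l hl => by
    rw [HomologicalComplex.exactAt_iff_isZero_homology]
    exact (((DerivedCategory.isLE_iff (DCoh.toD X E) b).1 ‹_› l hl).of_iso (KFlat.hdIso E l).symm).of_iso
      (isoOfQuasiIsoAt q l)
  obtain ⟨c, hc⟩ := DQCoh.rightBounded_cxDatum (E := E') (KFlat.isKFlat_resF E) b
  refine ⟨c, fun C n hn i hi => ?_⟩
  obtain ⟨P, hP, -, ⟨e⟩⟩ := KFlat.exists_isKFlat_rep C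
  haveI := hn
  haveI : P.IsLE n := (CochainComplex.isLE_iff P n).2 fun l hl => by
    rw [HomologicalComplex.exactAt_iff_isZero_homology]
    exact (((DerivedCategory.isLE_iff C n).1 hn l hl).of_iso
      ((DerivedCategory.homologyFunctor _ l).mapIso e)).of_iso (KFlat.hdIso P l).symm
  have h := hc P hP n inferInstance i hi
  haveI := ((KFlat.rflat_iff_sch P).1 hP).quasiIso_map_app q
  exact (h.of_iso ((DQCoh.swapH P E i) ≪≫
    (isoOfQuasiIsoAt (((KFlat.tens (KFlat.schB X)).map q).app P) i).symm)).of_iso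
    ((DerivedCategory.homologyFunctor _ i).mapIso
      ((DCoh.LTensorCx E).mapIso e.symm ≪≫ KFlat.ltIso E hP) ≪≫ KFlat.hdIso _ i)

end Groth.Agent.PerfGen
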