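import Groth.Agent.PerfGen.ApproxResults
import Groth.Agent.PerfGen.LTTri
import Groth.Agent.DQPush.Basic
import Groth.Agent.DQCoh.Pseudo
import Groth.Agent.DQCoh.Tensor

/-!
Pseudo-coherence of `Rπ_*(E ⊗^L K)` from perfect `E`.
-/

set_option autoImplicit false
set_option backward.isDefEq.respectTransparency false
set_option backward.isDefEq.respectTransparency.types false
set_option linter.style.haveILetI false

universe u

open CategoryTheory Limits Pretriangulated AlgebraicGeometry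

attribute [local instance] HasDerivedCategory.standard

namespace Groth.Agent.PerfGen

open Groth.Agent.DQCoh

theorem pc_push_tensor {A : Type u} [CommRing A] {X : Scheme.{u}} [CompactSpace X] [QuasiSeparatedSpace X]
    (π : X ⟶ Spec (CommRingCat.of A)) [DCoh.HasRpush π] (K : CochainComplex X.Modules ℤ)
    (hK : DCoh.IsQCohD (DCoh.toD X K)) (b : ℤ) [(DCoh.toD X K).IsLE b] [DCoh.HasLTensorCx K]
    (h : ∀ E : DCoh.D X, DCoh.IsPerfect E → ∀ m : ℤ,
      DCoh.IsPseudoCoherentD m ((DCoh.Rpush π).obj ((DCoh.LTensorCx K).obj E)))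
    (E : DCoh.D X) (hE : ∀ m : ℤ, DCoh.IsPseudoCoherentD m E) (m : ℤ) :
    DCoh.IsPseudoCoherentD m ((DCoh.Rpush π).obj ((DCoh.LTensorCx K).obj E)) := by
  haveI : SiteCmp.HasRpushD (ModSite.RMor.ofScheme π) := ‹DCoh.HasRpush π›
  haveI : QuasiCompact π := HasAffineProperty.iff_of_isAffine.2 ‹_›
  haveI : QuasiSeparated π := HasAffineProperty.iff_of_isAffine.2 ‹_›
  obtain ⟨r, hr⟩ := hasApprox X Set.univ isClosed_univ (by simp)
  obtain ⟨N, hN⟩ := DQPush.exists_amplitude π
  obtain ⟨c, hc⟩ := exists_lt_bound K b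
  have hq : DCoh.IsQCohD E := fun i => (isQCoh_cohomology_of_pseudoCoherent (i - 1) E (hE _)).1 i (by lia)
  obtain ⟨P, C, a, g, w, hT, hP, hC⟩ := hr (m - N - c) E hq (hE _) (fun i _ => Set.subset_univ _)
  haveI hCle : C.IsLE (m - N - c - 1) := (DerivedCategory.isLE_iff _ _).2 fun i hi => hC i (by lia)
  have hPq : DCoh.IsQCohD P :=
    fun i => (isQCoh_cohomology_of_pseudoCoherent (i - 1) P (pc_of_perfect hP.1 _)).1 i (by lia)
  have hCq : DCoh.IsQCohD C := isQCohD_obj₃ _ hT hPq hq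
  obtain ⟨a', g', w', hT'⟩ := exists_lt_triangle K _ hT
  obtain ⟨w'', hT''⟩ := RPushSite.exists_rpush_triangle (ModSite.RMor.ofScheme π) _ _ _ hT'
  haveI hle : ((DCoh.LTensorCx K).obj C).IsLE (m - N - 1) :=
    (DerivedCategory.isLE_iff _ _).2 fun i hi => hc C (m - N - c - 1) hCle i (by lia)
  refine pc_obj₂ _ hT'' m (h P hP.1 m) (pc_of_isAbove ?_)
  exact fun i hi => hN _ (isQCohD_LTensorCx K hK C hCq) (m - N - 1) hle i (by lia)

end Groth.Agent.PerfGen
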