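import Groth.Agent.PerfGen.TwistGen
import Groth.Agent.CohFinite.Serre
import Groth.Agent.GrT.Ample
import Groth.Agent.ProjForm.Stupid
import Groth.Agent.ProjMor.ProjSpaceBase

/-!
Koszul complexes on `P^n_R` and the generation of `D_QCoh` by `O, O(-1), …, O(-n)`.
-/

set_option autoImplicit false
set_option backward.isDefEq.respectTransparency false
set_option backward.isDefEq.respectTransparency.types false
set_option linter.style.haveILetI false
set_option linter.unusedSectionVars false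
set_option maxHeartbeats 800000

universe u

open CategoryTheory Limits Pretriangulated AlgebraicGeometry HomologicalComplex

attribute [local instance] HasDerivedCategory.standard

namespace Groth.Agent.PerfGen

attribute [local instance] Abelian.hasFiniteBiproducts

section Copies

variable {C : Type*} [Category* C] [Preadditive C] [HasFiniteBiproducts C] [HasBinaryBiproducts C]

/-- sums of copies add up -/
theorem nonempty_copies_add (T : C) (a b : ℕ) :
    Nonempty (((∐ fun _ : Fin a => T) ⊞ ∐ fun _ : Fin b => T) ≅ ∐ fun _ : Fin (a + b) => T) := by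
  classical
  let f : (∐ fun _ : Fin a => T) ⊞ (∐ fun _ : Fin b => T) ⟶ ∐ fun _ : Fin (a + b) => T :=
    biprod.desc (Sigma.desc fun i => Sigma.ι (fun _ : Fin (a + b) => T) (Fin.castAdd b i))
      (Sigma.desc fun j => Sigma.ι (fun _ : Fin (a + b) => T) (Fin.natAdd a j))
  let g : (∐ fun _ : Fin (a + b) => T) ⟶ (∐ fun _ : Fin a => T) ⊞ ∐ fun _ : Fin b => T :=
    Sigma.desc (Fin.addCases (fun i => Sigma.ι (fun _ : Fin a => T) i ≫ biprod.inl)
      (fun j => Sigma.ι (fun _ : Fin b => T) j ≫ biprod.inr))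
  refine ⟨⟨f, g, ?_, ?_⟩⟩
  · refine biprod.hom_ext' _ _ ?_ ?_ <;> refine Sigma.hom_ext _ _ fun i => ?_ <;> simp [f, g]
  · refine Sigma.hom_ext _ _ fun i => ?_
    induction i using Fin.addCases <;> simp [f, g]

end Copies

open ProjForm.Stupid in
/-- the short exact sequence of consecutive stupid truncations -/
theorem exists_σ_step {A : Type*} [Category* A] [Abelian A] (C : CochainComplex A ℤ) (m : ℤ) :
    ∃ (f : σ C (m + 1) ⟶ σ C m) (g : σ C m ⟶ (single A (ComplexShape.up ℤ) m).obj (C.X m)) (w : f ≫ g = 0),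
      Nonempty (∀ n, ((ShortComplex.mk f g w).map (eval A (ComplexShape.up ℤ) n)).Splitting) := by
  let p : σ C m ⟶ (single A (ComplexShape.up ℤ) m).obj (C.X m) := mkHomToSingle (inc C m m) (fun i hi => by
    exact (isZero_Xσ C (show i < m by change i + 1 = m at hi; omega)).eq_of_src _ _)
  let S : ShortComplex (CochainComplex A ℤ) := ShortComplex.mk (step C (m + 1) m (by omega)) p (by
    refine HomologicalComplex.to_single_hom_ext ?_
    exact (isZero_Xσ C (show m < m + 1 by omega)).eq_of_src _ _)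
  refine ⟨S.f, S.g, S.zero, ⟨fun n => ?_⟩⟩
  by_cases hn : n = m
  · subst hn
    exact
      { r := 0
        s := (singleObjXSelf (ComplexShape.up ℤ) n (C.X n)).hom ≫ pr C n n
        f_r := (isZero_Xσ C (show n < n + 1 by omega)).eq_of_src _ _
        s_g := by
          change ((singleObjXSelf _ n (C.X n)).hom ≫ pr C n n) ≫ p.f n = 𝟙 _
          rw [mkHomToSingle_f, Category.assoc, reassoc_of% (pr_inc C (le_refl n)), Iso.hom_inv_id]
        id := by
          have h : p.f n ≫ (singleObjXSelf (ComplexShape.up ℤ) n (C.X n)).hom ≫ pr C n n = 𝟙 (Xσ C n n) := by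
            rw [mkHomToSingle_f, Category.assoc, Iso.inv_hom_id_assoc]
            exact inc_pr C n n
          rw [zero_comp, zero_add]
          exact h }
  · have hz : IsZero (((single A (ComplexShape.up ℤ) m).obj (C.X m)).X n) := isZero_single_obj_X _ _ _ _ hn
    exact
      { r := inc C m n ≫ pr C (m + 1) n
        s := 0
        f_r := by
          change (inc C (m + 1) n ≫ pr C m n) ≫ inc C m n ≫ pr C (m + 1) n = 𝟙 _
          rw [Category.assoc, reassoc_of% (step_inc C (m + 1) m (by omega) n), inc_pr]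
        s_g := hz.eq_of_src _ _
        id := by
          have h : (inc C m n ≫ pr C (m + 1) n) ≫ (inc C (m + 1) n ≫ pr C m n) = 𝟙 (Xσ C m n) := by
            rw [Category.assoc]
            by_cases h : m ≤ n
            · rw [reassoc_of% (pr_inc C (show m + 1 ≤ n by omega)), inc_pr]
            · exact (isZero_Xσ C (show n < m by omega)).eq_of_src _ _
          rw [comp_zero, add_zero]
          exact h }

section Twists

variable (n : ℕ) (R : Type u) [CommRing R]

/-- `O(d)` -/
noncomputable abbrev tw (d : ℤ) : (CohB1.ProjSpace n R).Modules := Twist.twistProjSpace n R d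

set_option maxHeartbeats 2000000 in
lemma tw_tensor (a b c : ℤ) (h : a + b = c) :
    Nonempty (CohB1.tensorMod (tw n R a) (tw n R b) ≅ tw n R c) := by
  obtain ⟨i⟩ := GrT.nonempty_tensor_iso (a := a) (b := b) (c := c) (CohB1.polyGrading n R) (CohFinite.cov_one n R) h
  exact ⟨i⟩

lemma tw_zero : Nonempty (tw n R 0 ≅ Coh.structureModule (CohB1.ProjSpace n R)) := by
  obtain ⟨j⟩ := GrT.nonempty_twist_zero_iso (𝒜 := CohB1.polyGrading n R)
  exact ⟨j⟩

set_option maxHeartbeats 2000000 in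
lemma exists_eta : Nonempty (CohB1.tensorMod (tw n R (-1)) (tw n R 1) ≅ Coh.structureModule (CohB1.ProjSpace n R)) := by
  obtain ⟨i⟩ := tw_tensor n R (-1) 1 0 (by norm_num)
  obtain ⟨j⟩ := tw_zero n R
  exact ⟨i ≪≫ j⟩

/-- a trivialisation of `O(-1) ⊗ O(1)` -/
noncomputable def etaPn : CohB1.tensorMod (tw n R (-1)) (tw n R 1) ≅ Coh.structureModule (CohB1.ProjSpace n R) :=
  (exists_eta n R).some

/-- the coordinate `X i` as a section of `O(1)` -/
noncomputable def secPn (i : Fin (n + 1)) : Coh.structureModule (CohB1.ProjSpace n R) ⟶ tw n R 1 :=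
  GrT.homOfSection _ (GrT.linearSection (𝒜 := CohB1.polyGrading n R) (MvPolynomial.isHomogeneous_X R i))

lemma genLocus_secPn (i : Fin (n + 1)) :
    CohB1.genLocus (tw n R 1) (secPn n R i) = Proj.basicOpen (CohB1.polyGrading n R) (MvPolynomial.X i) :=
  GrT.genLocus_linearSection (CohFinite.cov_one n R) _

lemma isAffineOpen_secPn (i : Fin (n + 1)) : IsAffineOpen (CohB1.genLocus (tw n R 1) (secPn n R i)) := by
  rw [genLocus_secPn]
  exact ProjLib.isAffineOpen_basicOpen _ (MvPolynomial.isHomogeneous_X R i) one_pos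

lemma cover_secPn (x : CohB1.ProjSpace n R) : ∃ i, x ∈ CohB1.genLocus (tw n R 1) (secPn n R i) := by
  obtain ⟨i, hi⟩ := CohFinite.cov_X n R x
  refine ⟨i.down, ?_⟩
  rw [genLocus_secPn]
  exact (ProjectiveSpectrum.mem_basicOpen (CohB1.polyGrading n R) _ x).mpr hi

lemma nonempty_itT (e : ℕ) : ∀ d : ℤ,
    Nonempty ((itT (tw n R (-1)) e).obj (tw n R d) ≅ tw n R (d - e)) := by
  induction e with
  | zero => exact fun d => ⟨eqToIso (by simp [itT])⟩
  | succ e ih =>
    intro d
    obtain ⟨i⟩ := tw_tensor n R d (-1) (d - 1) (by ring)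
    obtain ⟨j⟩ := ih (d - 1)
    exact ⟨(itT (tw n R (-1)) e).mapIso i ≪≫ j ≪≫ eqToIso (by congr 1; push_cast; ring)⟩

/-- the Koszul complex of the coordinates -/
noncomputable def kosPn : List (Fin (n + 1)) → CochainComplex (CohB1.ProjSpace n R).Modules ℤ :=
  kosJ (tw n R (-1)) (etaPn n R) (secPn n R)

lemma kosPn_terms : ∀ l : List (Fin (n + 1)),
    (∀ j : ℕ, Nonempty ((kosPn n R l).X (-(j : ℤ)) ≅ ∐ fun _ : Fin (l.length.choose j) => tw n R (-(j : ℤ)))) ∧
      ∀ p : ℤ, 0 < p → IsZero ((kosPn n R l).X p)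
  | [] => by
    refine ⟨fun j => ?_, fun p hp => isZero_single_obj_X _ _ _ _ (by omega)⟩
    cases j with
    | zero =>
      obtain ⟨z⟩ := tw_zero n R
      haveI : Unique (Fin (([] : List (Fin (n + 1))).length.choose 0)) := inferInstanceAs (Unique (Fin 1))
      exact ⟨singleObjXSelf (ComplexShape.up ℤ) 0 _ ≪≫ z.symm ≪≫
        (coproductUniqueIso (fun _ : Fin (([] : List (Fin (n + 1))).length.choose 0) => tw n R (-((0 : ℕ) : ℤ)))).symm⟩
    | succ j =>
      have h1 : IsZero ((kosPn n R []).X (-((j + 1 : ℕ) : ℤ))) := isZero_single_obj_X _ _ _ _ (by omega)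
      haveI : IsEmpty (Fin (([] : List (Fin (n + 1))).length.choose (j + 1))) := by simp; infer_instance
      refine ⟨h1.iso ?_⟩
      rw [IsZero.iff_id_eq_zero]
      exact Sigma.hom_ext _ _ fun i => isEmptyElim i
  | i :: l => by
    obtain ⟨ih, ihz⟩ := kosPn_terms l
    let T := tFun (tw n R (-1))
    let D := kosPn n R l
    let σ := sigmaC (tw n R (-1)) (etaPn n R) (secPn n R i) D
    have hX : ∀ p : ℤ, Nonempty ((kosPn n R (i :: l)).X p ≅ T.obj (D.X (p + 1)) ⊞ D.X p) := fun p =>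
      ⟨homotopyCofiber.XIsoBiprod σ p (p + 1) rfl⟩
    refine ⟨fun j => ?_, fun p hp => ?_⟩
    · obtain ⟨eX⟩ := hX (-(j : ℤ))
      obtain ⟨b⟩ := ih j
      cases j with
      | zero =>
        have hz : IsZero (T.obj (D.X (-((0 : ℕ) : ℤ) + 1))) := T.map_isZero (ihz _ (by simp))
        refine ⟨eX ≪≫ ⟨biprod.snd, biprod.inr, ?_, biprod.inr_snd⟩ ≪≫ b ≪≫
          eqToIso (congrArg (fun k : ℕ => ∐ fun _ : Fin k => tw n R (-((0 : ℕ) : ℤ))) (by simp))⟩
        refine biprod.hom_ext' _ _ (hz.eq_of_src _ _) ?_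
        simp
      | succ j =>
        obtain ⟨a⟩ := ih j
        obtain ⟨t⟩ := tw_tensor n R (-(j : ℤ)) (-1) (-((j + 1 : ℕ) : ℤ)) (by push_cast; ring)
        obtain ⟨c⟩ := nonempty_copies_add (tw n R (-((j + 1 : ℕ) : ℤ))) (l.length.choose j) (l.length.choose (j + 1))
        exact ⟨eX ≪≫ biprod.mapIso
          (T.mapIso (eqToIso (congrArg D.X (by push_cast; ring)) ≪≫ a) ≪≫
            PreservesCoproduct.iso T _ ≪≫ Sigma.mapIso fun _ => t) b ≪≫ c ≪≫
          eqToIso (congrArg (fun k : ℕ => ∐ fun _ : Fin k => tw n R (-((j + 1 : ℕ) : ℤ))) (by simp [Nat.choose_succ_succ]))⟩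
    · obtain ⟨eX⟩ := hX p
      exact IsZero.of_iso ((biprod_isZero_iff _ _).2 ⟨T.map_isZero (ihz _ (by omega)), ihz _ hp⟩) eX

lemma exactAt_kosPn {l : List (Fin (n + 1))} (hl : ∀ i, i ∈ l) (p : ℤ) : (kosPn n R l).ExactAt p := by
  have h0 : IsZero (DerivedCategory.Q.obj (kosPn n R l) : DCoh.D (CohB1.ProjSpace n R)) := by
    refine isZero_of_suppD_empty fun q x hx => ?_
    obtain ⟨k, hk⟩ := cover_secPn n R x
    have key : ∀ (m : List (Fin (n + 1))), k ∈ m →
        IsZero ((DQCoh.RD (CohB1.genLocus (tw n R 1) (secPn n R k)).ι).obj (DerivedCategory.Q.obj (kosPn n R m))) := by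
      intro m
      induction m with
      | nil => simp
      | cons i m ih =>
        intro hm
        by_cases hik : i = k
        · subst hik
          exact isZero_RD_cone (etaPn n R) (secPn n R i) (kosPn n R m) 0
        · have hm' : k ∈ m := by
            rcases List.mem_cons.1 hm with h | h
            · exact absurd h.symm hik
            · exact h
          obtain ⟨a, b, hT⟩ := exists_cone_triangle (tw n R (-1)) (etaPn n R) (secPn n R i) (kosPn n R m) 0
          refine Triangle.isZero₃_of_isZero₁₂ _ ((DQCoh.RD _).map_distinguished _ hT) ?_ (ih hm')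
          haveI := isIso_RD_sigma (etaPn n R) (secPn n R k) (kosPn n R m) 0
          exact IsZero.of_iso (ih hm') (asIso ((DQCoh.RD (CohB1.genLocus (tw n R 1) (secPn n R k)).ι).map
            (DerivedCategory.Q.map (((itT (tw n R (-1)) 0).mapHomologicalComplex (ComplexShape.up ℤ)).map
              (sigmaC (tw n R (-1)) (etaPn n R) (secPn n R k) (kosPn n R m))))))
    have h1 := (isZero_RD_iff _ _).1 (key l (hl k)) q hx
    rw [Scheme.Opens.range_ι] at h1
    exact h1 hk
  rw [exactAt_iff_isZero_homology]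
  exact ((DerivedCategory.homologyFunctor _ p).map_isZero h0).of_iso
    ((DerivedCategory.homologyFunctorFactors _ p).app (kosPn n R l)).symm

instance preservesHomology_twFun (d : ℤ) : (tFun (tw n R d)).PreservesHomology :=
  ((Functor.exact_tfae _).out 0 2 rfl rfl).1 fun _ hS =>
    CohFinite.shortExact_tmap (CohFinite.isInvertible_twist n R d) hS

/-- **the Koszul complex on `P^n`** -/
theorem exists_koszul_complex (a : ℤ) :
    ∃ C : CochainComplex (CohB1.ProjSpace n R).Modules ℤ, (∀ i : ℤ, C.ExactAt i) ∧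
      (∀ i : ℕ, i ≤ n + 1 → Nonempty (C.X (i : ℤ) ≅ ∐ fun _ : Fin (Nat.choose (n + 1) i) => tw n R (a + i))) ∧
      ∀ i : ℤ, i < 0 ∨ (n : ℤ) + 1 < i → IsZero (C.X i) := by
  let T := tFun (tw n R (a + n + 1))
  let l : List (Fin (n + 1)) := List.finRange (n + 1)
  obtain ⟨hX, hz⟩ := kosPn_terms n R l
  let K := kosPn n R l
  let C := ((T.mapHomologicalComplex (ComplexShape.up ℤ)).obj K)⟦(-((n + 1 : ℕ) : ℤ))⟧
  refine ⟨C, fun i => ?_, fun i hi => ?_, fun i hi => ?_⟩
  · rw [exactAt_iff_isZero_homology]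
    refine IsZero.of_iso ?_ (((homologyFunctor _ (ComplexShape.up ℤ) 0).shiftIso (-((n + 1 : ℕ) : ℤ)) i (-((n + 1 : ℕ) : ℤ) + i) rfl).app _)
    exact (T.map_isZero ((exactAt_iff_isZero_homology _ _).1 (exactAt_kosPn n R (fun j => List.mem_finRange j) _))).of_iso
      ((K.sc _).mapHomologyIso T)
  · obtain ⟨b⟩ := hX (n + 1 - i)
    obtain ⟨t⟩ := tw_tensor n R (-((n + 1 - i : ℕ) : ℤ)) (a + n + 1) (a + i) (by omega)
    refine ⟨eqToIso (congrArg (fun k => T.obj (K.X k)) (by omega : (i : ℤ) + -((n + 1 : ℕ) : ℤ) = -((n + 1 - i : ℕ) : ℤ))) ≪≫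
      T.mapIso b ≪≫ PreservesCoproduct.iso T _ ≪≫ Sigma.mapIso (fun _ => t) ≪≫
      eqToIso (congrArg (fun k : ℕ => ∐ fun _ : Fin k => tw n R (a + i)) ?_)⟩
    simp only [l, List.length_finRange]
    exact Nat.choose_symm hi
  · show IsZero (T.obj (K.X (i + -((n + 1 : ℕ) : ℤ))))
    rcases hi with hi | hi
    · refine T.map_isZero ?_
      obtain ⟨b⟩ := hX (n + 1 - i).toNat
      have e : i + -((n + 1 : ℕ) : ℤ) = -(((n + 1 - i).toNat : ℕ) : ℤ) := by omega
      rw [e]
      refine IsZero.of_iso ?_ b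
      haveI : IsEmpty (Fin (l.length.choose (n + 1 - i).toNat)) := by
        simp only [l, List.length_finRange]
        rw [Nat.choose_eq_zero_of_lt (by omega)]
        infer_instance
      rw [IsZero.iff_id_eq_zero]
      exact Sigma.hom_ext _ _ fun j => isEmptyElim j
    · exact T.map_isZero (hz _ (by omega))

lemma hom_coprod_eq_zero {X : Scheme.{u}} {k : ℕ} (F : X.Modules) (q : ℤ) (M : DCoh.D X)
    (h : ∀ g : (DCoh.inD X F)⟦q⟧ ⟶ M, g = 0) (g : (DCoh.inD X (∐ fun _ : Fin k => F))⟦q⟧ ⟶ M) : g = 0 := by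
  classical
  let π : Fin k → ((∐ fun _ : Fin k => F) ⟶ F) := fun j => Sigma.desc fun i => if i = j then 𝟙 F else 0
  have hid : (∑ j, π j ≫ Sigma.ι (fun _ : Fin k => F) j) = 𝟙 _ := by
    refine Sigma.hom_ext _ _ fun i => ?_
    rw [Preadditive.comp_sum, Finset.sum_eq_single i]
    · simp [π]
    · intro j _ hji
      simp [π, (Ne.symm hji)]
    · simp
  let G := DerivedCategory.singleFunctor X.Modules 0 ⋙ shiftFunctor (DCoh.D X) q
  calc g = G.map (∑ j, π j ≫ Sigma.ι (fun _ : Fin k => F) j) ≫ g := by rw [hid, G.map_id]; exact (Category.id_comp g).symm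
    _ = 0 := by
      rw [G.map_sum, Preadditive.sum_comp]
      refine Finset.sum_eq_zero fun j _ => ?_
      rw [G.map_comp, Category.assoc]
      exact (congrArg (G.map (π j) ≫ ·) (h (G.map (Sigma.ι (fun _ : Fin k => F) j) ≫ g))).trans comp_zero

/-- no maps from `O(-d)`, `d ≤ n`, gives no maps from all negative twists -/
theorem hom_tw_eq_zero (M : DCoh.D (CohB1.ProjSpace n R))
    (h : ∀ d : ℕ, d ≤ n → ∀ (q : ℤ) (g : (DCoh.inD _ (tw n R (-(d : ℤ))))⟦q⟧ ⟶ M), g = 0) (d : ℕ) :
    ∀ (q : ℤ) (g : (DCoh.inD _ (tw n R (-(d : ℤ))))⟦q⟧ ⟶ M), g = 0 := by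
  induction d using Nat.strong_induction_on with
  | _ d ih =>
    by_cases hd : d ≤ n
    · exact h d hd
    obtain ⟨C, hC, hX, hz⟩ := exists_koszul_complex n R (-(d : ℤ))
    let X := CohB1.ProjSpace n R
    let P : CochainComplex X.Modules ℤ → Prop := fun K => ∀ (q : ℤ) (g : (DCoh.toD X K)⟦q⟧ ⟶ M), g = 0
    have hzero : ∀ K, IsZero K → P K := fun K hK q g =>
      ((shiftFunctor (DCoh.D X) q).map_isZero (DerivedCategory.Q.map_isZero hK)).eq_of_src _ _
    have hmid : ∀ {S : ShortComplex (CochainComplex X.Modules ℤ)},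
        (∀ m, (S.map (eval X.Modules (ComplexShape.up ℤ) m)).Splitting) → P S.X₁ → P S.X₃ → P S.X₂ := by
      intro S σ h₁ h₃ q g
      obtain ⟨r, hr⟩ := Triangle.yoneda_exact₂ _
        (Triangle.shift_distinguished _ (DerivedCategory.triangleOfSES_distinguished (KFlat.shortExact_of_splitting σ)) q) g
        (h₁ q _)
      rw [hr, h₃ q r, comp_zero]
    have hsingle : ∀ (m : ℤ) (F : X.Modules), (∀ (q : ℤ) (g : (DCoh.inD X F)⟦q⟧ ⟶ M), g = 0) →
        P ((single X.Modules (ComplexShape.up ℤ) m).obj F) := by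
      intro m F hF q g
      let i : (DCoh.inD X F)⟦-m + q⟧ ≅ (DCoh.toD X ((single X.Modules (ComplexShape.up ℤ) m).obj F))⟦q⟧ :=
        (shiftFunctorAdd (DCoh.D X) (-m) q).app _ ≪≫ (shiftFunctor _ q).mapIso
          (((DerivedCategory.singleFunctors X.Modules).shiftIso (-m) m 0 (by lia)).app F ≪≫
            (DerivedCategory.singleFunctorIsoCompQ X.Modules m).app F)
      rw [← cancel_epi i.hom, comp_zero]
      exact hF _ _
    have hS : ∀ k : ℕ, k ≤ n + 1 → P (ProjForm.Stupid.σ C ((n : ℤ) + 2 - k)) := by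
      intro k hk
      induction k with
      | zero => exact hzero _ (ProjForm.Stupid.isZero_σ C (b := (n : ℤ) + 1) (fun i hi => hz i (Or.inr hi)) (by omega))
      | succ k ihk =>
        refine ProjForm.Stupid.prop_σ_step C P hmid _ ?_ ?_
        · rw [show (n : ℤ) + 2 - ((k + 1 : ℕ) : ℤ) + 1 = (n : ℤ) + 2 - (k : ℤ) by omega]
          exact ihk (by omega)
        · obtain ⟨i, hi⟩ : ∃ i : ℕ, (n : ℤ) + 2 - ((k + 1 : ℕ) : ℤ) = (i : ℤ) := ⟨n + 1 - k, by omega⟩
          rw [hi]
          obtain ⟨e⟩ := hX i (by omega)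
          refine hsingle _ _ fun q g => ?_
          rw [← cancel_epi (((DerivedCategory.singleFunctor X.Modules 0).mapIso e).inv⟦q⟧'), comp_zero]
          refine hom_coprod_eq_zero _ q M (fun g' => ?_) _
          have hlt : -(d : ℤ) + (i : ℤ) = -((d - i : ℕ) : ℤ) := by omega
          revert g'
          rw [hlt]
          exact ih (d - i) (by omega) q
    have h1 : P (ProjForm.Stupid.σ C ((0 : ℤ) + 1)) := by
      have := hS (n + 1) le_rfl
      rwa [show (n : ℤ) + 2 - ((n + 1 : ℕ) : ℤ) = 0 + 1 by omega] at this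
    obtain ⟨f₀, g₀, w₀, ⟨σ₀⟩⟩ := exists_σ_step C 0
    have hι : IsIso (ProjForm.Stupid.ι C 0) := by
      haveI : ∀ i, IsIso ((ProjForm.Stupid.ι C 0).f i) := fun i => by
        by_cases hi : 0 ≤ i
        · exact ⟨ProjForm.Stupid.pr C 0 i, ProjForm.Stupid.inc_pr C 0 i, ProjForm.Stupid.pr_inc C hi⟩
        · exact (ProjForm.Stupid.isZero_Xσ C (by omega)).isIso (hz i (by omega)) _
      exact HomologicalComplex.Hom.isIso_of_components _
    have h0 : IsZero (DCoh.toD X C) := by
      refine isZero_of_suppD_empty fun i => (Devissage.support_of_isZero ?_).le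
      exact ((exactAt_iff_isZero_homology _ _).1 (hC i)).of_iso
        ((DerivedCategory.homologyFunctorFactors _ i).app C)
    have h0' : IsZero (DCoh.toD X (ProjForm.Stupid.σ C 0)) :=
      h0.of_iso (DerivedCategory.Q.mapIso (@asIso _ _ _ _ _ hι))
    intro q g
    obtain ⟨e⟩ := hX 0 (by omega)
    haveI : Unique (Fin ((n + 1).choose 0)) := by rw [Nat.choose_zero_right]; infer_instance
    let E : C.X 0 ≅ tw n R (-(d : ℤ)) :=
      e ≪≫ coproductUniqueIso (fun _ : Fin ((n + 1).choose 0) => tw n R (-(d : ℤ) + ((0 : ℕ) : ℤ))) ≪≫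
        eqToIso (congrArg (tw n R) (by omega))
    rw [← cancel_epi (((DerivedCategory.singleFunctor X.Modules 0).mapIso E).hom⟦q⟧'), comp_zero]
    let i₀ := (DerivedCategory.singleFunctorIsoCompQ X.Modules 0).app (C.X 0)
    rw [← cancel_epi (i₀.inv⟦q⟧'), comp_zero]
    have hT := Triangle.shift_distinguished _ (rot_of_distTriang _
      (DerivedCategory.triangleOfSES_distinguished (KFlat.shortExact_of_splitting σ₀))) q
    obtain ⟨r, hr⟩ := Triangle.yoneda_exact₂ _ hT
      (i₀.inv⟦q⟧' ≫ ((DerivedCategory.singleFunctor X.Modules 0).mapIso E).hom⟦q⟧' ≫ g)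
      ((((shiftFunctor (DCoh.D X) q).map_isZero h0').eq_of_src _ _))
    refine hr.trans ?_
    have hr0 : r = 0 := by
      rw [← cancel_epi ((shiftFunctorAdd (DCoh.D X) (1 : ℤ) q).hom.app _), comp_zero]
      exact h1 _ _
    rw [hr0, comp_zero]

/-- **generation of `D_QCoh(P^n_R)`** -/
theorem isZero_of_hom_twists (M : DCoh.D (CohB1.ProjSpace n R)) (hM : DCoh.IsQCohD M)
    (h : ∀ d : ℕ, d ≤ n → ∀ (q : ℤ) (g : (DCoh.inD _ (tw n R (-(d : ℤ))))⟦q⟧ ⟶ M), g = 0) : IsZero M := by
  haveI := ProjMor.isProper_toSpec n R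
  haveI : CompactSpace (CohB1.ProjSpace n R) := QuasiCompact.compactSpace_of_compactSpace (CohB1.ProjSpace.toSpec n R)
  haveI : QuasiSeparatedSpace (CohB1.ProjSpace n R) := quasiSeparatedSpace_of_quasiSeparated (CohB1.ProjSpace.toSpec n R)
  refine isZero_of_noMaps (etaPn n R) (secPn n R) (isAffineOpen_secPn n R) (cover_secPn n R) hM fun e q g => ?_
  obtain ⟨z⟩ := tw_zero n R
  obtain ⟨t⟩ := nonempty_itT n R e 0
  let E : tw n R (-(e : ℤ)) ≅ (itT (tw n R (-1)) e).obj (Coh.structureModule (CohB1.ProjSpace n R)) :=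
    eqToIso (congrArg (tw n R) (by omega)) ≪≫ t.symm ≪≫ (itT (tw n R (-1)) e).mapIso z
  rw [← cancel_epi (((DerivedCategory.singleFunctor _ 0).mapIso E).hom⟦q⟧'), comp_zero]
  exact hom_tw_eq_zero n R M h e q _

end Twists

end Groth.Agent.PerfGen
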