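import Groth.Agent.PerfGen.PnGen
import Groth.Agent.PerfGen.AffineTop
import Groth.Agent.PerfPush.Main
import Groth.Agent.PerfPush.Unit
import Groth.Agent.W7Cech.TensorSec
import Groth.Agent.SerrePn.Basic
import Mathlib.Algebra.Homology.DerivedCategory.ExactFunctor

/-!
The autoequivalences `- ⊗ O(d)` of `D(P^n_A)` and the adjunction `Lπ^*(-) ⊗ O(-d) ⊣ Rπ_*(- ⊗ O(d))`.
-/

set_option autoImplicit false
set_option backward.isDefEq.respectTransparency false
set_option backward.isDefEq.respectTransparency.types false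
set_option linter.style.haveILetI false
set_option linter.unusedSectionVars false

universe u

open CategoryTheory Limits Pretriangulated AlgebraicGeometry

attribute [local instance] HasDerivedCategory.standard

noncomputable section

namespace Groth.Agent.PerfGen

lemma trm_map_eq_tmap {X : Scheme.{u}} (L : X.Modules) {M N : X.Modules} (φ : M ⟶ N) :
    (DCoh.tensorRightMod L).map φ = CohFinite.tmap φ L :=
  TMul.hom_ext fun U m l => (W7Cech.map_tm φ L m l).trans (CohFinite.tmap_tm φ L m l).symm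

variable (n : ℕ) (R : Type u) [CommRing R]

lemma shortExact_trm (d : ℤ) (S : ShortComplex (CohB1.ProjSpace n R).Modules) (hS : S.ShortExact) :
    (S.map (DCoh.tensorRightMod (tw n R d))).ShortExact := by
  refine ShortComplex.shortExact_of_iso ?_ (CohFinite.shortExact_tmap (CohFinite.isInvertible_twist n R d) hS)
  refine ShortComplex.isoMk (Iso.refl _) (Iso.refl _) (Iso.refl _) ?_ ?_
  · exact (Category.id_comp _).trans ((trm_map_eq_tmap (tw n R d) S.f).trans (Category.comp_id _).symm)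
  · exact (Category.id_comp _).trans ((trm_map_eq_tmap (tw n R d) S.g).trans (Category.comp_id _).symm)

instance preservesFiniteLimits_trm (d : ℤ) : PreservesFiniteLimits (DCoh.tensorRightMod (tw n R d)) :=
  (((DCoh.tensorRightMod (tw n R d)).exact_tfae).out 0 3 rfl rfl).1 (shortExact_trm n R d) |>.1

instance preservesFiniteColimits_trm (d : ℤ) : PreservesFiniteColimits (DCoh.tensorRightMod (tw n R d)) :=
  (((DCoh.tensorRightMod (tw n R d)).exact_tfae).out 0 3 rfl rfl).1 (shortExact_trm n R d) |>.2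

/-- `- ⊗ O(d)` on the derived category -/
abbrev twD (d : ℤ) : DCoh.D (CohB1.ProjSpace n R) ⥤ DCoh.D (CohB1.ProjSpace n R) :=
  (DCoh.tensorRightMod (tw n R d)).mapDerivedCategory

lemma nonempty_twTheta (a b : ℤ) (h : a + b = 0) :
    Nonempty (CohB1.tensorMod (tw n R a) (tw n R b) ≅ Coh.structureModule (CohB1.ProjSpace n R)) := by
  obtain ⟨i⟩ := tw_tensor n R a b 0 h
  obtain ⟨j⟩ := tw_zero n R
  exact ⟨i ≪≫ j⟩

/-- undoing the twist, naturally -/
def twUndo (a b : ℤ) (h : a + b = 0) :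
    DCoh.tensorRightMod (tw n R a) ⋙ DCoh.tensorRightMod (tw n R b) ≅ 𝟭 (CohB1.ProjSpace n R).Modules :=
  NatIso.ofComponents (fun M => SerrePn.untw (nonempty_twTheta n R a b h).some M) fun {M N} φ => by
    show (DCoh.tensorRightMod (tw n R b)).map ((DCoh.tensorRightMod (tw n R a)).map φ) ≫ _ = _ ≫ φ
    rw [trm_map_eq_tmap, trm_map_eq_tmap]
    exact SerrePn.untw_natural _ φ

/-- undoing the twist on the derived category -/
def twDUndo (a b : ℤ) (h : a + b = 0) : twD n R a ⋙ twD n R b ≅ 𝟭 (DCoh.D (CohB1.ProjSpace n R)) :=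
  let T := DCoh.tensorRightMod (tw n R a)
  let S := DCoh.tensorRightMod (tw n R b)
  Localization.liftNatIso DerivedCategory.Q
    (HomologicalComplex.quasiIso (CohB1.ProjSpace n R).Modules (ComplexShape.up ℤ))
    (DerivedCategory.Q ⋙ T.mapDerivedCategory ⋙ S.mapDerivedCategory) (DerivedCategory.Q ⋙ 𝟭 _) _ _
    ((Functor.associator _ _ _).symm ≪≫ Functor.isoWhiskerRight T.mapDerivedCategoryFactors _ ≪≫
      Functor.associator _ _ _ ≪≫ Functor.isoWhiskerLeft _ S.mapDerivedCategoryFactors ≪≫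
      (Functor.associator _ _ _).symm ≪≫
      Functor.isoWhiskerRight (NatIso.mapHomologicalComplex (twUndo n R a b h) (ComplexShape.up ℤ) ≪≫
        Functor.mapHomologicalComplexIdIso _ _) DerivedCategory.Q ≪≫
      Functor.leftUnitor _ ≪≫ (Functor.rightUnitor _).symm)

/-- `- ⊗ O(-d)` is inverse to `- ⊗ O(d)` -/
def twEquiv (d : ℤ) : DCoh.D (CohB1.ProjSpace n R) ≌ DCoh.D (CohB1.ProjSpace n R) :=
  CategoryTheory.Equivalence.mk (twD n R (-d)) (twD n R d) (twDUndo n R (-d) d (neg_add_cancel d)).symm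
    (twDUndo n R d (-d) (add_neg_cancel d))

lemma nonempty_lTensorMod_twD (d : ℤ) [DCoh.HasLTensorMod (tw n R d)] (M : DCoh.D (CohB1.ProjSpace n R)) :
    Nonempty ((DCoh.LTensorMod (tw n R d)).obj M ≅ (twD n R d).obj M) := by
  obtain ⟨K, hK, -, ⟨e⟩⟩ := KFlat.exists_isKFlat_rep M
  exact ⟨(DCoh.LTensorMod _).mapIso e.symm ≪≫ KFlat.lTensorModIso _ hK ≪≫
    ((DCoh.tensorRightMod (tw n R d)).mapDerivedCategoryFactors.app K).symm ≪≫ (twD n R d).mapIso e⟩

/-- `O(a) ⊗ O(d) = O(c)` in the derived category -/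
lemma nonempty_twD_tw (a d c : ℤ) (h : a + d = c) :
    Nonempty ((twD n R d).obj (DCoh.inD _ (tw n R a)) ≅ DCoh.inD _ (tw n R c)) := by
  obtain ⟨t⟩ := tw_tensor n R a d c h
  exact ⟨((DCoh.tensorRightMod (tw n R d)).mapDerivedCategorySingleFunctor 0).app (tw n R a) ≪≫
    (DerivedCategory.singleFunctor _ 0).mapIso t⟩

/-- `Lπ^*(-) ⊗ O(-d)` -/
def twPull (d : ℤ) [DCoh.HasLpull (CohB1.ProjSpace.toSpec n R)] :
    DCoh.D (Spec (CommRingCat.of R)) ⥤ DCoh.D (CohB1.ProjSpace n R) :=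
  DCoh.Lpull (CohB1.ProjSpace.toSpec n R) ⋙ twD n R (-d)

/-- `Rπ_*(- ⊗ O(d))` -/
def twPush (d : ℤ) [DCoh.HasRpush (CohB1.ProjSpace.toSpec n R)] :
    DCoh.D (CohB1.ProjSpace n R) ⥤ DCoh.D (Spec (CommRingCat.of R)) :=
  twD n R d ⋙ DCoh.Rpush (CohB1.ProjSpace.toSpec n R)

lemma nonempty_twPull_adj (d : ℤ) [DCoh.HasRpush (CohB1.ProjSpace.toSpec n R)]
    [DCoh.HasLpull (CohB1.ProjSpace.toSpec n R)] : Nonempty (twPull n R d ⊣ twPush n R d) := by
  obtain ⟨adj⟩ := DerPush.nonempty_lpull_adj_rpush (CohB1.ProjSpace.toSpec n R)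
  exact ⟨adj.comp (twEquiv n R d).toAdjunction⟩

lemma nonempty_twPull_unit (d b : ℤ) [DCoh.HasLpull (CohB1.ProjSpace.toSpec n R)] :
    Nonempty ((twPull n R d).obj ((DCoh.inD (Spec (CommRingCat.of R)) (Coh.structureModule _))⟦b⟧) ≅
      (DCoh.inD _ (tw n R (-d)))⟦b⟧) := by
  obtain ⟨u⟩ := PerfPush.nonempty_lpull_unit (CohB1.ProjSpace.toSpec n R)
  obtain ⟨z⟩ := tw_zero n R
  obtain ⟨t⟩ := nonempty_twD_tw n R 0 (-d) (-d) (zero_add _)
  let q := CohB1.ProjSpace.toSpec n R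
  let K := PerfLocus.sg (Spec (CommRingCat.of R)) 0 (Coh.structureModule (Spec (CommRingCat.of R)))
  have hK : DCoh.IsKFlat K := PerfLocus.isKFlat_sg 0 (DerPerf.isFlat_structureModule _)
  let ε : DCoh.inD (Spec (CommRingCat.of R)) (Coh.structureModule _) ≅ DerivedCategory.Q.obj K :=
    (DerivedCategory.singleFunctorIsoCompQ _ 0).app _
  let Φ := (Scheme.Modules.pullback q).mapHomologicalComplex (ComplexShape.up ℤ)
  let s : (DCoh.Lpull q).obj ((DCoh.inD _ (Coh.structureModule (Spec (CommRingCat.of R))))⟦b⟧) ≅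
      ((DCoh.Lpull q).obj (DCoh.inD _ (Coh.structureModule (Spec (CommRingCat.of R)))))⟦b⟧ :=
    (DCoh.Lpull q).mapIso ((shiftFunctor _ b).mapIso ε ≪≫
      ((DerivedCategory.Q (C := (Spec (CommRingCat.of R)).Modules)).commShiftIso b).symm.app K) ≪≫
    KFlat.lpullIso q (DQCoh.isKFlat_shift hK b) ≪≫
    DerivedCategory.Q.mapIso ((Φ.commShiftIso b).app K) ≪≫
    ((DerivedCategory.Q (C := (CohB1.ProjSpace n R).Modules)).commShiftIso b).app _ ≪≫
    (shiftFunctor _ b).mapIso ((KFlat.lpullIso q hK).symm ≪≫ (DCoh.Lpull q).mapIso ε.symm)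
  exact ⟨(twD n R (-d)).mapIso (s ≪≫ (shiftFunctor _ b).mapIso
      (u ≪≫ (DerivedCategory.singleFunctor _ 0).mapIso z.symm)) ≪≫
    ((twD n R (-d)).commShiftIso b).app _ ≪≫ (shiftFunctor _ b).mapIso t⟩

end Groth.Agent.PerfGen
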