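import Groth.Agent.PerfGen.PushPC
import Groth.Agent.CohProperPush.Perfect
import Groth.Agent.DQCoh.RelTor
import Groth.Agent.PerfPush.Main
import Groth.Agent.SchDense.Unit
import Groth.Agent.DQCoh.TensorUnit
import Groth.Agent.DerPerf.Local
import Groth.Agent.DRingKP.FlatBC
import Groth.Agent.S1100
import Groth.Agent.S1106

/-!
`Rf_*` of relatively perfect objects is perfect.
-/

set_option autoImplicit false
set_option backward.isDefEq.respectTransparency false
set_option backward.isDefEq.respectTransparency.types false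
set_option linter.style.haveILetI false

universe u

open CategoryTheory Limits Pretriangulated AlgebraicGeometry

attribute [local instance] HasDerivedCategory.standard

namespace Groth.Agent.PerfGen

open Groth.Agent.DQCoh

variable {X S : Scheme.{u}}

/-- `E ⊗^L O ≅ E` -/
theorem nonempty_ltm_unit [DCoh.HasLTensorMod (Coh.structureModule X)] (E : DCoh.D X) :
    Nonempty ((DCoh.LTensorMod (Coh.structureModule X)).obj E ≅ E) := by
  obtain ⟨K, hK, -, ⟨ε⟩⟩ := KFlat.exists_isKFlat_rep E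
  exact ⟨(DCoh.LTensorMod _).mapIso ε.symm ≪≫ KFlat.lTensorModIso _ hK ≪≫
    DerivedCategory.Q.mapIso (((NatIso.mapHomologicalComplex (DQCoh.tensUnitNat X) (ComplexShape.up ℤ)).app K) ≪≫
      (Functor.mapHomologicalComplexIdIso _ _).app K) ≪≫ ε⟩

/-- a common interval of relative tor amplitude on a quasi-compact scheme -/
theorem exists_relAmp [CompactSpace X] (f : X ⟶ S) [Flat f] {K : DCoh.D X} (h : DCoh.LocHasFiniteRelTorDim f K) :
    ∃ a b : ℤ, ∀ x, RelAmpAt f a b K x := by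
  choose V a b hx hV using (locHas_iff.1 h)
  obtain ⟨t, ht⟩ := isCompact_univ.elim_finite_subcover (fun x => (V x : Set X)) (fun x => (V x).isOpen)
    (fun x _ => Set.mem_iUnion.2 ⟨x, hx x⟩)
  obtain ⟨A₀, hA⟩ := (t.image a).bddBelow
  obtain ⟨B₀, hB⟩ := (t.image b).bddAbove
  refine ⟨A₀, B₀, fun y => ?_⟩
  obtain ⟨x, hxt, hy⟩ := Set.mem_iUnion₂.1 (ht (Set.mem_univ y))
  exact DRingKP.amp_widen (hA (Finset.mem_coe.2 (Finset.mem_image_of_mem a hxt)))
    (hB (Finset.mem_coe.2 (Finset.mem_image_of_mem b hxt))) (hV x y hy)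

/-- the case of a quasi-compact quasi-separated base -/
theorem isPerfect_rpush_relPerf (f : X ⟶ S) [Flat f] [IsProper f] [LocallyOfFinitePresentation f] [CompactSpace S]
    [QuasiSeparatedSpace S] [DCoh.HasRpush f] (E : DCoh.D X) (hpc : ∀ m : ℤ, DCoh.IsPseudoCoherentD m E)
    (htor : DCoh.LocHasFiniteRelTorDim f E) : DCoh.IsPerfect ((DCoh.Rpush f).obj E) := by
  haveI : CompactSpace X := QuasiCompact.compactSpace_of_compactSpace f
  obtain ⟨a, b, hab⟩ := exists_relAmp f htor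
  obtain ⟨F, -, -, ⟨e⟩⟩ := KFlat.exists_isKFlat_rep E
  have hq : DCoh.IsQCohD (DCoh.toD X F) := fun i =>
    (isQCoh_cohomology_of_pseudoCoherent (i - 1) _ (pc_of_iso e.symm (hpc _))).1 i (by lia)
  have hF : DerSch.HasTorAmplitude f a b F := fun x =>
    (CohProperPush.torAmplitudeAt_iff f F x).2 (relAmpAt_of_iso e.symm (hab x))
  obtain ⟨B, haB, hB⟩ := CohProperPush.exists_torAmplitude f F hq hF
  have hp : DCoh.IsPseudoCoherentD (a - 1) ((DCoh.Rpush f).obj (DCoh.toD X F)) :=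
    S1106.result f _ (fun m => pc_of_iso e.symm (hpc m)) _
  exact perfect_of_iso ((DCoh.Rpush f).mapIso e)
    (isPerfect_of_amp_pc haB (KFlat.flatAmplitude_of_torAmplitude _ a B haB hB) hp)

/-- **`Rf_*` of relatively perfect objects** -/
theorem isPerfect_rpush_relPerf' (f : X ⟶ S) [Flat f] [IsProper f] [LocallyOfFinitePresentation f]
    [DCoh.HasRpush f] (E : DCoh.D X) (hpc : ∀ m : ℤ, DCoh.IsPseudoCoherentD m E)
    (htor : DCoh.LocHasFiniteRelTorDim f E) : DCoh.IsPerfect ((DCoh.Rpush f).obj E) := by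
  rw [perfect_iff_near]
  intro x
  obtain ⟨V, hV, hxV, -⟩ := exists_isAffineOpen_mem_and_subset (X := S) (x := x) (U := ⊤) trivial
  let g : (V : Scheme.{u}) ⟶ S := V.ι
  haveI : IsAffine (V : Scheme.{u}) := hV
  haveI := KFlat.hasLpull g
  haveI := KFlat.hasLpull (pullback.fst f g)
  haveI := DerPush.hasRpush_sch (pullback.snd f g)
  haveI := KFlat.hasLTensorMod (Coh.structureModule X)
  haveI := KFlat.hasLTensorMod ((Scheme.Modules.pullback (pullback.fst f g)).obj (Coh.structureModule X))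
  haveI := KFlat.hasLTensorMod (Coh.structureModule (pullback f g))
  have hqE : DCoh.IsQCohD E := fun i => (isQCoh_cohomology_of_pseudoCoherent (i - 1) E (hpc _)).1 i (by lia)
  obtain ⟨bc⟩ := TorBC.nonempty_baseChange_flat (IsPullback.of_hasPullback f g) E hqE (Coh.structureModule X)
    (FibDepth.isQCoh_of_isFP (SchDense.isFP_unit X)) (SchDense.isFlatOver_unit f)
  obtain ⟨u₁⟩ := nonempty_ltm_unit E
  obtain ⟨ε⟩ := PerfPush.nonempty_ltm_congr (DerPerf.pullUnitIso (pullback.fst f g))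
    ((DCoh.Lpull (pullback.fst f g)).obj E)
  obtain ⟨u₂⟩ := nonempty_ltm_unit ((DCoh.Lpull (pullback.fst f g)).obj E)
  obtain ⟨r⟩ := PerfPush.nonempty_lpull_RD g ((DCoh.Rpush f).obj E)
  obtain ⟨hpc', htor'⟩ := S1100.result f g E ⟨hpc, htor⟩
  have hp : DCoh.IsPerfect ((RD g).obj ((DCoh.Rpush f).obj E)) :=
    perfect_of_iso ((DCoh.Rpush _).mapIso (ε ≪≫ u₂).symm ≪≫ bc.symm ≪≫
        (DCoh.Lpull g).mapIso ((DCoh.Rpush f).mapIso u₁) ≪≫ r)
      (isPerfect_rpush_relPerf (pullback.snd f g) _ hpc' htor')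
  obtain ⟨O, o, ho, w, hw, hP⟩ := (perfect_iff_near _).1 hp ⟨x, hxV⟩
  haveI := ho
  exact ⟨O, o ≫ g, inferInstance, w, by rw [Scheme.Hom.comp_apply, hw]; rfl, perfOn_push o g hP⟩

end Groth.Agent.PerfGen
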