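import Groth.Agent.PerfGen.Basic
import Groth.Agent.PerfLocal.Perfect
import Groth.Agent.BrownDerived.Basic
import Mathlib.Data.Int.Interval

/-!
Perfect complexes over a ring are compact in the derived category.
-/

set_option autoImplicit false
set_option backward.isDefEq.respectTransparency false
set_option backward.isDefEq.respectTransparency.types false
set_option linter.style.haveILetI false

universe u

open CategoryTheory Limits HomologicalComplex

attribute [local instance] HasDerivedCategory.standard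

namespace Groth.Agent.PerfGen

variable {R : Type u} [CommRing R]

/-- the projection to a summand -/
noncomputable def sigmaProj {D : Type*} [Category* D] [HasZeroMorphisms D] {T : Type*} (X : T → D) [HasCoproduct X]
    (t : T) : (∐ X) ⟶ X t := by
  classical exact Sigma.desc fun t' => if h : t' = t then eqToHom (by rw [h]) else 0

lemma ι_sigmaProj {D : Type*} [Category* D] [HasZeroMorphisms D] {T : Type*} (X : T → D) [HasCoproduct X] (t : T) :
    Sigma.ι X t ≫ sigmaProj X t = 𝟙 _ := by
  classical simp [sigmaProj]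

lemma ι_sigmaProj_ne {D : Type*} [Category* D] [HasZeroMorphisms D] {T : Type*} (X : T → D) [HasCoproduct X]
    {t t' : T} (h : t' ≠ t) : Sigma.ι X t' ≫ sigmaProj X t = 0 := by
  classical simp [sigmaProj, h]

/-- a chain map from a bounded complex of finite modules into a coproduct only involves finitely many summands -/
theorem exists_finset_chain {E : DRing.Cx R} {a b : ℤ} (hE : DRing.VanishesOutside E a b)
    (hf : ∀ i, Module.Finite R (E.X i)) {T : Type u} (L : T → DRing.Cx R) (g : E ⟶ ∐ L) :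
    ∃ (s : Finset T) (p : ∀ t, E ⟶ L t), g = ∑ t ∈ s, p t ≫ Sigma.ι L t := by
  classical
  have hn : ∀ n, ∃ s : Finset T,
      LinearMap.range (g.f n).hom ≤ ⨆ t ∈ s, LinearMap.range ((Sigma.ι L t).f n).hom := fun n => by
    let col := isColimitCofanMkObjOfIsColimit (HomologicalComplex.eval (ModuleCat.{u} R) (ComplexShape.up ℤ) n)
      _ _ (coproductIsCoproduct L)
    obtain ⟨G, hG⟩ := (hf n).fg_top
    have h : ∀ x : E.X n, ∃ s : Finset T, (g.f n).hom x ∈ ⨆ t ∈ s, LinearMap.range ((Sigma.ι L t).f n).hom :=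
      fun x => by
        have hx : (g.f n).hom x ∈ ⨆ t, LinearMap.range ((Sigma.ι L t).f n).hom :=
          BrownDerived.eq_top_of_isColimit col ▸ Submodule.mem_top
        exact Submodule.exists_finset_of_mem_iSup _ hx
    choose s hs using h
    refine ⟨G.biUnion s, ?_⟩
    rw [LinearMap.range_eq_map, ← hG, Submodule.map_span, Submodule.span_le]
    rintro _ ⟨x, hx, rfl⟩
    exact SetLike.le_def.1 (biSup_mono fun t ht => Finset.mem_biUnion.2 ⟨x, hx, ht⟩) (hs x)
  choose s hs using hn
  let S := (Finset.Icc a b).biUnion s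
  refine ⟨S, fun t => g ≫ sigmaProj L t, ?_⟩
  refine HomologicalComplex.hom_ext _ _ fun n => ?_
  by_cases hn : n < a ∨ b < n
  · exact (hE n hn).eq_of_src _ _
  refine ModuleCat.hom_ext (LinearMap.ext fun x => ?_)
  simp only [Category.assoc, ← Preadditive.comp_sum, HomologicalComplex.comp_f, ModuleCat.hom_comp,
    LinearMap.comp_apply]
  have hP : ∀ y, y ∈ (⨆ t ∈ S, LinearMap.range ((Sigma.ι L t).f n).hom) →
      ((∑ t ∈ S, sigmaProj L t ≫ Sigma.ι L t).f n).hom y = y := by
    intro y hy
    obtain ⟨μ, hμ⟩ := (Submodule.mem_iSup_finset_iff_exists_sum (s := S)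
      (fun t => LinearMap.range ((Sigma.ι L t).f n).hom) y).1 hy
    rw [← hμ, map_sum]
    refine Finset.sum_congr rfl fun t ht => ?_
    obtain ⟨z, hz⟩ := (μ t).2
    rw [← hz, ← LinearMap.comp_apply, ← ModuleCat.hom_comp, ← HomologicalComplex.comp_f]
    congr 3
    rw [Preadditive.comp_sum, Finset.sum_eq_single t
      (fun t' _ ht' => by rw [← Category.assoc, ι_sigmaProj_ne L (Ne.symm ht'), zero_comp])
      (fun h => absurd ht h), ← Category.assoc, ι_sigmaProj, Category.id_comp]
  refine (hP _ ?_).symm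
  exact SetLike.le_def.1 (biSup_mono fun t ht => Finset.mem_biUnion.2 ⟨n, Finset.mem_Icc.2 (by omega), ht⟩)
    (SetLike.le_def.1 (hs n) ⟨x, rfl⟩)

/-- **perfect complexes are compact** -/
theorem finFac_of_isPerfect {P : Dual.D R} (hP : DRing.IsPerfect R P) {T : Type u} (M : T → Dual.D R)
    [HasCoproduct M] : FinFac P M := by
  obtain ⟨E, a, b, hE, hEp, ⟨e⟩⟩ := hP
  refine FinFac.of_iso_left e ?_
  haveI := PerfLocal.isStrictlyLE_of_vanishesOutside hE
  haveI : ∀ n, CategoryTheory.Projective (E.X n) := fun n =>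
    haveI := (hEp n).2
    (IsProjective.iff_projective (E.X n)).1 inferInstance
  haveI := CochainComplex.isKProjective_of_projective E b
  intro α
  let K₀ := fun t => (DerivedCategory.Q : _ ⥤ Dual.D R).objPreimage (M t)
  let c : ∀ t, DerivedCategory.Q.obj (K₀ t) ≅ M t := fun t => DerivedCategory.Q.objObjPreimageIso (M t)
  obtain ⟨hc⟩ := DQCoh.nonempty_isColimit_Q_coprod BrownDerived.hKinj K₀
  let φ : DerivedCategory.Q.obj (∐ K₀) ⟶ ∐ M := Cofan.IsColimit.desc hc fun t => (c t).hom ≫ Sigma.ι M t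
  let ψ : (∐ M) ⟶ DerivedCategory.Q.obj (∐ K₀) := Sigma.desc fun t => (c t).inv ≫ DerivedCategory.Q.map (Sigma.ι K₀ t)
  have h2 : ∀ t, DerivedCategory.Q.map (Sigma.ι K₀ t) ≫ φ = (c t).hom ≫ Sigma.ι M t := fun t =>
    Cofan.IsColimit.fac hc _ t
  have hψφ : ψ ≫ φ = 𝟙 _ := Sigma.hom_ext _ _ fun t => by simp [ψ, h2 t]
  obtain ⟨g, hg⟩ := PerfLocal.exists_lift (α ≫ ψ)
  obtain ⟨s, p, rfl⟩ := exists_finset_chain hE (fun i => (hEp i).1) K₀ g
  refine ⟨s, fun t => DerivedCategory.Q.map (p t) ≫ (c t).hom, ?_⟩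
  rw [← Category.comp_id α, ← hψφ, ← Category.assoc, ← hg, Functor.map_sum, Preadditive.sum_comp]
  refine Finset.sum_congr rfl fun t _ => ?_
  rw [Functor.map_comp, Category.assoc, Category.assoc, h2 t]

end Groth.Agent.PerfGen
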