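import Groth.Agent.RegTilde.Koszul
import Groth.Agent.TMul.Ample
import Groth.Prelude.Def_KLin

/-!
Multiplication by sections of a line bundle as natural transformations `- ⊗ L' ⟶ 𝟭`, and their restrictions to
the loci where a section generates.
-/

set_option autoImplicit false
set_option linter.unusedSectionVars false
set_option linter.style.haveILetI false
set_option backward.isDefEq.respectTransparency false
set_option backward.isDefEq.respectTransparency.types false

universe u

open CategoryTheory CategoryTheory.Limits AlgebraicGeometry TopologicalSpace Opposite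
open Groth.Agent.QC (res resO res_res res_smul app_res)

noncomputable section

namespace Groth.Agent.PerfGen

variable {X : Scheme.{u}} (L L' : X.Modules) (η : CohB1.tensorMod L' L ≅ Coh.structureModule X)

/-- `- ⊗ L'` -/
def tFun : X.Modules ⥤ X.Modules where
  obj G := CohB1.tensorMod G L'
  map φ := CohFinite.tmap φ L'
  map_id G := CohFinite.tmap_id G L'
  map_comp φ ψ := CohFinite.tmap_comp φ ψ L'

instance : (tFun L').Additive where
  map_add := CohFinite.tmap_add _ _ L'

variable {L}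

/-- multiplication by a section -/
def sigma (s : Coh.structureModule X ⟶ L) : tFun L' ⟶ 𝟭 X.Modules where
  app G := RegKos.mulX η (TMul.val s ⊤) G
  naturality _ _ φ := RegKos.mulX_natural η (TMul.val s ⊤) φ

variable {L'}

lemma sigma_app_bijective (s : Coh.structureModule X ⟶ L) (G : X.Modules) {V : X.Opens}
    (hV : V ≤ CohB1.genLocus L s) : Function.Bijective (((sigma L' η s).app G).app V) := by
  refine RegKos.mulX_bijective η (TMul.val s ⊤) G (U := CohB1.genLocus L s) ?_ hV
  rw [TMul.res_val]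
  exact TMul.isGen_genLocus s

/-- isomorphisms over `U` -/
def IsoOn (U : X.Opens) {M N : X.Modules} (φ : M ⟶ N) : Prop :=
  ∀ V : X.Opens, V ≤ U → Function.Bijective (φ.app V)

lemma isoOn_tmap (s : Coh.structureModule X ⟶ L) (η : CohB1.tensorMod L' L ≅ Coh.structureModule X)
    {M N : X.Modules} {φ : M ⟶ N} (h : IsoOn (CohB1.genLocus L s) φ) :
    IsoOn (CohB1.genLocus L s) ((tFun L').map φ) := by
  intro V hV
  have hM := sigma_app_bijective η s M hV
  have hN := sigma_app_bijective η s N hV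
  have hcomm : ((sigma L' η s).app N).app V ∘ ((tFun L').map φ).app V = φ.app V ∘ ((sigma L' η s).app M).app V := by
    funext w
    exact congrArg (fun ψ : (tFun L').obj M ⟶ N => ψ.app V w) ((sigma L' η s).naturality φ)
  exact (Function.Bijective.of_comp_iff' hN _).1 (hcomm ▸ (h V hV).comp hM)

lemma isIso_restrict_of_isoOn {U : X.Opens} {M N : X.Modules} {φ : M ⟶ N} (h : IsoOn U φ) :
    IsIso ((Scheme.Modules.restrictFunctor U.ι).map φ) := by
  rw [Scheme.Modules.Hom.isIso_iff_isIso_app]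
  intro W
  rw [ConcreteCategory.isIso_iff_bijective]
  exact h (U.ι ''ᵁ W) (U.ι_image_le W)

/-- two sections differ by a scalar where the first generates -/
lemma exists_coeff (s₀ s : Coh.structureModule X ⟶ L) :
    ∃ f : Γ(X, CohB1.genLocus L s₀), f • TMul.val s₀ (CohB1.genLocus L s₀) = TMul.val s (CohB1.genLocus L s₀) ∧
      CohB1.genLocus L s₀ ⊓ CohB1.genLocus L s = X.basicOpen f := by
  obtain ⟨f, hf⟩ := (TMul.isGen_genLocus s₀ _ le_rfl).2 (TMul.val s (CohB1.genLocus L s₀))
  simp only [TMul.res_val] at hf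
  exact ⟨f, hf, TMul.genLocus_inf s (TMul.isGen_genLocus s₀) hf.symm⟩

lemma sigma_app_eq (s₀ s : Coh.structureModule X ⟶ L) {U : X.Opens} {f : Γ(X, U)}
    (hf : f • TMul.val s₀ U = TMul.val s U) (G : X.Modules) {V : X.Opens} (hV : V ≤ U)
    (w : Γ((tFun L').obj G, V)) :
    ((sigma L' η s).app G).app V w = resO X hV f • ((sigma L' η s₀).app G).app V w := by
  show (RegKos.Phi η G).app V (TMul.tm w (res L le_top (TMul.val s ⊤))) =
    resO X hV f • (RegKos.Phi η G).app V (TMul.tm w (res L le_top (TMul.val s₀ ⊤)))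
  have h : res L (le_top : V ≤ ⊤) (TMul.val s ⊤) = resO X hV f • res L (le_top : V ≤ ⊤) (TMul.val s₀ ⊤) := by
    rw [TMul.res_val, TMul.res_val, ← TMul.res_val s hV, ← hf, res_smul, TMul.res_val]
  rw [h, TMul.tm_smul, TMul.app_smul]

/-- over an affine locus, multiplication by `s` is a scalar times an isomorphism -/
theorem exists_restrict_sigma (s₀ s : Coh.structureModule X ⟶ L) :
    ∃ f : Γ((CohB1.genLocus L s₀ : Scheme.{u}), ⊤),
      ((CohB1.genLocus L s₀).ι ⁻¹ᵁ CohB1.genLocus L s =
        (CohB1.genLocus L s₀ : Scheme.{u}).basicOpen f) ∧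
      letI : (CohB1.genLocus L s₀ : Scheme.{u}).Over (Spec (CommRingCat.of Γ((CohB1.genLocus L s₀ : Scheme.{u}), ⊤))) :=
        ⟨(CohB1.genLocus L s₀ : Scheme.{u}).toSpecΓ⟩
      ∀ G : X.Modules, (Scheme.Modules.restrictFunctor (CohB1.genLocus L s₀).ι).map ((sigma L' η s).app G) =
        f • (Scheme.Modules.restrictFunctor (CohB1.genLocus L s₀).ι).map ((sigma L' η s₀).app G) := by
  obtain ⟨f₀, hf, hb⟩ := exists_coeff s₀ s
  let U := CohB1.genLocus L s₀
  refine ⟨U.topIso.inv f₀, ?_, ?_⟩
  · rw [← U.ι.preimage_image_eq ((U : Scheme.{u}).basicOpen (U.topIso.inv f₀)),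
      Scheme.Opens.ι_image_basicOpen_topIso_inv]
    show U.ι ⁻¹ᵁ CohB1.genLocus L s = U.ι ⁻¹ᵁ X.basicOpen f₀
    rw [← hb]
    exact TopologicalSpace.Opens.ext (Set.ext fun z => ⟨fun h => ⟨z.2, h⟩, fun h => h.2⟩)
  · letI : (U : Scheme.{u}).Over (Spec (CommRingCat.of Γ((U : Scheme.{u}), ⊤))) := ⟨(U : Scheme.{u}).toSpecΓ⟩
    intro G
    refine Scheme.Modules.hom_ext _ _ fun W => ?_
    ext w
    rw [KLin.smul_app_apply]
    show ((sigma L' η s).app G).app (U.ι ''ᵁ W) w = _
    rw [sigma_app_eq η s₀ s hf G (U.ι_image_le W) w]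
    have hg : Coh.toGlobal ((U : Scheme.{u}) ↘ Spec (CommRingCat.of Γ((U : Scheme.{u}), ⊤))) (U.topIso.inv f₀) =
        U.topIso.inv f₀ := by
      show (U : Scheme.{u}).toSpecΓ.appTop ((Scheme.ΓSpecIso (CommRingCat.of Γ((U : Scheme.{u}), ⊤))).inv _) = _
      rw [Scheme.toSpecΓ_appTop]
      exact congrArg (fun φ => φ.hom (U.topIso.inv f₀)) (Scheme.ΓSpecIso (Γ((U : Scheme.{u}), ⊤))).inv_hom_id
    rw [hg]
    change _ = (U.ι.appIso W).inv ((U : Scheme.{u}).presheaf.map (homOfLE (le_top : W ≤ ⊤)).op (U.topIso.inv f₀)) •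
      ((sigma L' η s₀).app G).app (U.ι ''ᵁ W) w
    refine congrArg (· • ((sigma L' η s₀).app G).app (U.ι ''ᵁ W) w) ?_
    rw [Scheme.Opens.ι_appIso]
    show resO X _ f₀ = X.presheaf.map _ (X.presheaf.map _ f₀)
    rw [← ConcreteCategory.comp_apply, ← Functor.map_comp]
    rfl

end Groth.Agent.PerfGen
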